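import Cfsg.Agent.Lib.LThreeExt.Invol

/-!
# Subgroups of odd index of `PSL(3, F)` in characteristic two
-/

set_option autoImplicit false
set_option linter.unusedSectionVars false
set_option linter.style.haveILetI false

namespace Cfsg.Lib.LThreeExt

open Matrix Projectivization Cfsg.Lib Cfsg.Lib.Linear Cfsg.Lib.Linear.TVec Cfsg.Lib.Linear.AutPSL
open scoped MatrixGroups LinearAlgebra.Projectivization commutatorElement

variable {F : Type} [Field F] [Fintype F] [CharP F 2]

theorem tvS_conj (s : SL3 F) {z a : V3 F} (h : a ⬝ᵥ z = 0) :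
    s * tvS z a h * s⁻¹ = tvS (s.1 *ᵥ z) ((tinv s).1 *ᵥ a) (by
      rw [tinv_coe, Matrix.mulVec_transpose, ← Matrix.dotProduct_mulVec, inv_mulVec, h]) := by
  refine Subtype.ext ?_
  show s.1 * tvMat z a * (s⁻¹).1 = tvMat (s.1 *ᵥ z) ((tinv s).1 *ᵥ a)
  rw [tinv_coe, Matrix.mulVec_transpose, tvMat, tvMat, Matrix.mul_add, Matrix.add_mul, Matrix.mul_one,
    ← Matrix.SpecialLinearGroup.coe_mul, mul_inv_cancel, Matrix.SpecialLinearGroup.coe_one, Matrix.mul_vecMulVec,
    Matrix.vecMulVec_mul]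

/-- The upper unitriangular group. -/
def uni : Subgroup (SL3 F) where
  carrier := {s | s.1 1 0 = 0 ∧ s.1 2 0 = 0 ∧ s.1 2 1 = 0 ∧ s.1 0 0 = 1 ∧ s.1 1 1 = 1 ∧ s.1 2 2 = 1}
  one_mem' := by simp
  mul_mem' := by
    rintro s t ⟨a, b, c, d, e, f⟩ ⟨a', b', c', d', e', f'⟩
    simp [Matrix.mul_apply, Fin.sum_univ_three, *]
  inv_mem' := by
    rintro s ⟨a, b, c, d, e, f⟩
    simp [Matrix.SpecialLinearGroup.coe_inv, Matrix.adjugate_fin_three, *]

theorem isPGroup_uni : IsPGroup 2 (uni : Subgroup (SL3 F)) := by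
  rintro ⟨s, a, b, c, d, e, f⟩
  refine ⟨2, Subtype.ext (Subtype.ext ?_)⟩
  show ((s ^ (2 ^ 2) : SL3 F) : Matrix (Fin 3) (Fin 3) F) = (1 : SL3 F).1
  rw [Matrix.SpecialLinearGroup.coe_pow, Matrix.SpecialLinearGroup.coe_one]
  have h2 : (s.1 : Matrix (Fin 3) (Fin 3) F) * s.1 = 1 + Matrix.single 0 2 (s.1 0 1 * s.1 1 2) := by
    ext i j
    fin_cases i <;> fin_cases j <;>
      simp [Matrix.mul_apply, Fin.sum_univ_three, Matrix.single_apply, *] <;>
      first
        | linear_combination (CharTwo.add_self_eq_zero (s.1 0 2))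
        | linear_combination (CharTwo.add_self_eq_zero (s.1 0 1))
        | linear_combination (CharTwo.add_self_eq_zero (s.1 1 2))
  rw [show (2 : ℕ) ^ 2 = 2 * 2 by norm_num, pow_mul, pow_two, pow_two, h2, add_mul, mul_add, mul_add,
    Matrix.single_mul_single_of_ne (h := by decide), one_mul, mul_one, one_mul, add_zero, add_assoc]
  ext i j
  simp only [Matrix.add_apply]
  linear_combination (CharTwo.add_self_eq_zero ((Matrix.single (0 : Fin 3) (2 : Fin 3) (s.1 0 1 * s.1 1 2)) i j))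

variable {Y : Subgroup (SL3 F)}

/-- All transvections with centre `v` are present. -/
def FullC (Y : Subgroup (SL3 F)) (v : V3 F) : Prop := ∀ a (h : a ⬝ᵥ v = 0), tvS v a h ∈ Y

/-- All transvections with axis `b` are present. -/
def FullA (Y : Subgroup (SL3 F)) (b : V3 F) : Prop := ∀ z (h : b ⬝ᵥ z = 0), tvS z b h ∈ Y

theorem fullC_move {v : V3 F} (h : FullC Y v) {g : SL3 F} (hg : g ∈ Y) : FullC Y (g.1 *ᵥ v) := by
  intro a ha
  have h1 : ((tinv g⁻¹).1 *ᵥ a) ⬝ᵥ v = 0 := by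
    rw [tinv_coe, inv_inv, Matrix.mulVec_transpose, ← Matrix.dotProduct_mulVec, ha]
  have := mul_mem (mul_mem hg (h _ h1)) (inv_mem hg)
  rw [tvS_conj] at this
  convert this using 2
  rw [Matrix.mulVec_mulVec, ← Matrix.SpecialLinearGroup.coe_mul, ← map_mul, mul_inv_cancel, map_one,
    Matrix.SpecialLinearGroup.coe_one, Matrix.one_mulVec]

theorem fullA_move {b : V3 F} (h : FullA Y b) {g : SL3 F} (hg : g ∈ Y) : FullA Y ((tinv g).1 *ᵥ b) := by
  intro z hz
  have h1 : b ⬝ᵥ ((g⁻¹).1 *ᵥ z) = 0 := by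
    rw [tinv_coe, Matrix.mulVec_transpose] at hz
    rw [Matrix.dotProduct_mulVec, hz]
  have := mul_mem (mul_mem hg (h _ h1)) (inv_mem hg)
  rw [tvS_conj] at this
  convert this using 2
  rw [Matrix.mulVec_mulVec, ← Matrix.SpecialLinearGroup.coe_mul, mul_inv_cancel, Matrix.SpecialLinearGroup.coe_one,
    Matrix.one_mulVec]

theorem fullC_smul {v : V3 F} (h : FullC Y v) {c : F} (hc : c ≠ 0) : FullC Y (c • v) := by
  intro a ha
  have h1 : (c • a) ⬝ᵥ v = 0 := by rw [smul_dotProduct, ← dotProduct_smul, ha]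
  convert h _ h1 using 1
  exact Subtype.ext (tvMat_smul c v a)

theorem fullA_smul {b : V3 F} (h : FullA Y b) {c : F} (hc : c ≠ 0) : FullA Y (c • b) := by
  intro z hz
  have h1 : b ⬝ᵥ (c • z) = 0 := by rw [dotProduct_smul, ← smul_dotProduct, hz]
  convert h _ h1 using 1
  exact Subtype.ext (tvMat_smul c z b).symm

theorem tvS_single {i j : Fin 3} (hij : i ≠ j) (c : F) (h : (Pi.single j c : V3 F) ⬝ᵥ Pi.single i 1 = 0) :
    tvS (Pi.single i 1) (Pi.single j c) h = SpecialLinearGroup.transvection hij c := by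
  refine Subtype.ext ?_
  show tvMat (Pi.single i 1) (Pi.single j c) = _
  rw [coe_transvection]
  ext a b
  simp only [tvMat, Matrix.add_apply, Matrix.vecMulVec_apply, Matrix.single_apply, Pi.single_apply]
  rcases eq_or_ne a i with rfl | h1 <;> rcases eq_or_ne b j with rfl | h2
  · simp
  · simp [h2, h2.symm]
  · simp [h1, h1.symm]
  · simp [h1, h2, h1.symm]

/-- The transvection `E i j`. -/
abbrev tr {i j : Fin 3} (h : i ≠ j) (c : F) : SL3 F := SpecialLinearGroup.transvection h c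

theorem tr_of_fullC {i j : Fin 3} (hij : i ≠ j) (h : FullC Y (Pi.single i 1)) (c : F) : tr hij c ∈ Y := by
  have h1 : (Pi.single j c : V3 F) ⬝ᵥ Pi.single i 1 = 0 := by simp [hij]
  rw [tr, ← tvS_single hij c h1]
  exact h _ h1

theorem tr_of_fullA {i j : Fin 3} (hij : i ≠ j) (h : FullA Y (Pi.single j 1)) (c : F) : tr hij c ∈ Y := by
  rcases eq_or_ne c 0 with rfl | hc
  · convert one_mem Y
    exact Subtype.ext (by rw [coe_transvection, Matrix.single_zero, add_zero]; rfl)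
  have h2 := fullA_smul h hc
  have h1 : (Pi.single j c : V3 F) ⬝ᵥ Pi.single i 1 = 0 := by simp [hij]
  have e : c • (Pi.single j 1 : V3 F) = Pi.single j c := by rw [← Pi.single_smul', smul_eq_mul, mul_one]
  rw [e] at h2
  rw [tr, ← tvS_single hij c h1]
  exact h2 _ h1

theorem tr_comm {i j k : Fin 3} (hij : i ≠ j) (hik : i ≠ k) (hkj : k ≠ j) (h1 : ∀ c : F, tr hik c ∈ Y)
    (h2 : ∀ c : F, tr hkj c ∈ Y) (c : F) : tr hij c ∈ Y := by
  rw [tr, transvection_eq_commutator hij hik hkj c, commutatorElement_def]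
  exact mul_mem (mul_mem (mul_mem (h1 c) (h2 1)) (inv_mem (h1 c))) (inv_mem (h2 1))

variable (hU : uni ≤ Y)
include hU

theorem tr_upper {i j : Fin 3} (hij : i < j) (c : F) : tr hij.ne c ∈ Y := hU (by
  show _ ∧ _ ∧ _ ∧ _ ∧ _ ∧ _
  rw [tr, coe_transvection]
  revert hij
  fin_cases i <;> fin_cases j <;> simp [Matrix.single_apply])

/-- Moving the point fixed by the unitriangular group gives a lower transvection. -/
theorem tr_one_zero {g : SL3 F} (hg : g ∈ Y) (hmove : g.1 1 0 ≠ 0 ∨ g.1 2 0 ≠ 0) (c : F) :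
    tr (show (1 : Fin 3) ≠ 0 by decide) c ∈ Y := by
  have h0 : FullC Y (Pi.single 0 1 : V3 F) := fun a ha => hU (by
    simp only [dotProduct_single, mul_one] at ha
    show _ ∧ _ ∧ _ ∧ _ ∧ _ ∧ _
    simp [tvS, tvMat, Matrix.vecMulVec_apply, ha])
  have hw := fullC_move h0 hg
  rw [Matrix.mulVec_single_one] at hw
  set w := g.1.col 0 with hwdef
  rcases eq_or_ne (w 2) 0 with h2 | h2
  · have h1 : w 1 ≠ 0 := hmove.resolve_right (not_not.2 h2)
    have h3 := fullC_move hw (tr_upper hU (show (0 : Fin 3) < 1 by decide) (-(w 0) / w 1))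
    have e : (tr (show (0 : Fin 3) < 1 by decide).ne (-(w 0) / w 1)).1 *ᵥ w = w 1 • Pi.single 1 1 := by
      ext i
      rw [tr, coe_transvection, Matrix.add_mulVec, Matrix.one_mulVec, Matrix.single_mulVec]
      fin_cases i <;> simp [h2, h1, Function.update]
    rw [e] at h3
    have h4 := fullC_smul h3 (inv_ne_zero h1)
    rw [smul_smul, inv_mul_cancel₀ h1, one_smul] at h4
    exact tr_of_fullC _ h4 c
  · have h3 := fullC_move (fullC_move hw (tr_upper hU (show (0 : Fin 3) < 2 by decide) (-(w 0) / w 2)))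
      (tr_upper hU (show (1 : Fin 3) < 2 by decide) (-(w 1) / w 2))
    have e : (tr (show (1 : Fin 3) < 2 by decide).ne (-(w 1) / w 2)).1 *ᵥ
        ((tr (show (0 : Fin 3) < 2 by decide).ne (-(w 0) / w 2)).1 *ᵥ w) = w 2 • Pi.single 2 1 := by
      ext i
      rw [tr, tr, coe_transvection, coe_transvection, Matrix.add_mulVec, Matrix.one_mulVec, Matrix.add_mulVec,
        Matrix.one_mulVec, Matrix.single_mulVec, Matrix.single_mulVec]
      fin_cases i <;> simp [h2, Function.update]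
    rw [e] at h3
    have h4 := fullC_smul h3 (inv_ne_zero h2)
    rw [smul_smul, inv_mul_cancel₀ h2, one_smul] at h4
    exact tr_comm _ (show (1 : Fin 3) ≠ 2 by decide) (show (2 : Fin 3) ≠ 0 by decide)
      (tr_upper hU (show (1 : Fin 3) < 2 by decide)) (tr_of_fullC _ h4) c

/-- Moving the line fixed by the unitriangular group gives a lower transvection. -/
theorem tr_two_one {g : SL3 F} (hg : g ∈ Y) (hmove : g.1 2 0 ≠ 0 ∨ g.1 2 1 ≠ 0) (c : F) :
    tr (show (2 : Fin 3) ≠ 1 by decide) c ∈ Y := by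
  have h0 : FullA Y (Pi.single 2 1 : V3 F) := fun z hz => hU (by
    simp only [single_dotProduct, one_mul] at hz
    show _ ∧ _ ∧ _ ∧ _ ∧ _ ∧ _
    simp [tvS, tvMat, Matrix.vecMulVec_apply, hz])
  have hw := fullA_move h0 (inv_mem hg)
  rw [tinv_coe, inv_inv, Matrix.mulVec_single_one] at hw
  set w := (g.1.transpose).col 2 with hwdef
  have hwi : ∀ i, w i = g.1 2 i := fun i => rfl
  have key : ∀ (i j : Fin 3) (hij : i < j) (d : F) (v : V3 F),
      (tinv (tr hij.ne d)).1 *ᵥ v = v - Pi.single j (d * v i) := by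
    intro i j hij d v
    rw [tinv_coe, tr, SpecialLinearGroup.transvection_inv, coe_transvection, Matrix.transpose_add,
      Matrix.transpose_one, Matrix.transpose_single, Matrix.add_mulVec, Matrix.one_mulVec, Matrix.single_mulVec]
    ext k
    rcases eq_or_ne k j with rfl | hk
    · simp [Function.update, sub_eq_add_neg]
    · simp [Function.update, hk]
  rcases eq_or_ne (w 0) 0 with h2 | h2
  · have h1 : w 1 ≠ 0 := hmove.resolve_left (not_not.2 ((hwi 0).symm.trans h2))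
    have h3 := fullA_move hw (tr_upper hU (show (1 : Fin 3) < 2 by decide) (w 2 / w 1))
    rw [key 1 2 (by decide)] at h3
    have e : w - Pi.single 2 (w 2 / w 1 * w 1) = w 1 • (Pi.single 1 1 : V3 F) := by
      ext i
      fin_cases i <;> simp [h2, h1]
    rw [e] at h3
    have h4 := fullA_smul h3 (inv_ne_zero h1)
    rw [smul_smul, inv_mul_cancel₀ h1, one_smul] at h4
    exact tr_of_fullA _ h4 c
  · have h3 := fullA_move (fullA_move hw (tr_upper hU (show (0 : Fin 3) < 1 by decide) (w 1 / w 0)))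
      (tr_upper hU (show (0 : Fin 3) < 2 by decide) (w 2 / w 0))
    rw [key 0 2 (by decide), key 0 1 (by decide)] at h3
    have e : w - (Pi.single 1 (w 1 / w 0 * w 0) : V3 F) -
        (Pi.single 2 (w 2 / w 0 * (w - (Pi.single 1 (w 1 / w 0 * w 0) : V3 F)) 0) : V3 F) =
        w 0 • (Pi.single 0 1 : V3 F) := by
      ext i
      fin_cases i <;> simp [h2]
    rw [e] at h3
    have h4 := fullA_smul h3 (inv_ne_zero h2)
    rw [smul_smul, inv_mul_cancel₀ h2, one_smul] at h4
    exact tr_comm _ (show (2 : Fin 3) ≠ 0 by decide) (show (0 : Fin 3) ≠ 1 by decide)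
      (tr_of_fullA _ h4) (tr_upper hU (show (0 : Fin 3) < 1 by decide)) c

theorem eq_top_of_lower (h10 : ∀ c : F, tr (show (1 : Fin 3) ≠ 0 by decide) c ∈ Y)
    (h21 : ∀ c : F, tr (show (2 : Fin 3) ≠ 1 by decide) c ∈ Y) : Y = ⊤ := by
  rw [eq_top_iff, ← closure_transvection_eq_top, Subgroup.closure_le]
  rintro _ ⟨i, j, h, c, rfl⟩
  revert h
  fin_cases i <;> fin_cases j <;> intro h <;> try exact absurd rfl h
  · exact tr_upper hU (show (0 : Fin 3) < 1 by decide) c
  · exact tr_upper hU (show (0 : Fin 3) < 2 by decide) c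
  · exact h10 c
  · exact tr_upper hU (show (1 : Fin 3) < 2 by decide) c
  · exact tr_comm _ (show (2 : Fin 3) ≠ 1 by decide) (show (1 : Fin 3) ≠ 0 by decide) h21 h10 c
  · exact h21 c

omit hU in
/-- The embedding of `SL(2, F)` in the lower block. -/
def blk : Matrix.SpecialLinearGroup (Fin 2) F →* SL3 F where
  toFun A := ⟨!![1, 0, 0; 0, A.1 0 0, A.1 0 1; 0, A.1 1 0, A.1 1 1], by
    have h := A.2
    rw [Matrix.det_fin_two] at h
    rw [Matrix.det_fin_three]
    simp
    linear_combination h⟩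
  map_one' := Subtype.ext (by ext i j; fin_cases i <;> fin_cases j <;> simp)
  map_mul' A B := Subtype.ext (by
    show (_ : Matrix (Fin 3) (Fin 3) F) = _ * _
    ext i j
    fin_cases i <;> fin_cases j <;> simp [Matrix.mul_apply, Fin.sum_univ_three, Fin.sum_univ_two])

omit hU in
theorem blk_coe (A : Matrix.SpecialLinearGroup (Fin 2) F) :
    ((blk A : SL3 F) : Matrix (Fin 3) (Fin 3) F) = !![1, 0, 0; 0, A.1 0 0, A.1 0 1; 0, A.1 1 0, A.1 1 1] := rfl

/-- The elements fixing the vector `e₀`. -/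
theorem fix_first (h21 : ∀ c : F, tr (show (2 : Fin 3) ≠ 1 by decide) c ∈ Y) {s : SL3 F}
    (hs : s.1 *ᵥ Pi.single 0 1 = Pi.single 0 1) : s ∈ Y := by
  have hblk : ∀ A, blk A ∈ Y := by
    have hle : Subgroup.closure {t : Matrix.SpecialLinearGroup (Fin 2) F |
        ∃ (i j : Fin 2) (h : i ≠ j) (c : F), t = SpecialLinearGroup.transvection h c} ≤ Y.comap blk := by
      rw [Subgroup.closure_le]
      rintro _ ⟨i, j, h, c, rfl⟩
      show blk _ ∈ Y
      revert h
      fin_cases i <;> fin_cases j <;> intro h <;> try exact absurd rfl h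
      · convert tr_upper hU (show (1 : Fin 3) < 2 by decide) c using 1
        refine Subtype.ext ?_
        rw [tr, coe_transvection]
        ext a b
        fin_cases a <;> fin_cases b <;> simp [blk_coe, coe_transvection, Matrix.single_apply]
      · convert h21 c using 1
        refine Subtype.ext ?_
        rw [tr, coe_transvection]
        ext a b
        fin_cases a <;> fin_cases b <;> simp [blk_coe, coe_transvection, Matrix.single_apply]
    rw [closure_transvection_eq_top] at hle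
    exact fun A => hle (Subgroup.mem_top A)
  rw [Matrix.mulVec_single_one] at hs
  have e0 : s.1 0 0 = 1 := by simpa using congrFun hs 0
  have e1 : s.1 1 0 = 0 := by simpa using congrFun hs 1
  have e2 : s.1 2 0 = 0 := by simpa using congrFun hs 2
  have hdet : s.1 1 1 * s.1 2 2 - s.1 1 2 * s.1 2 1 = 1 := by
    have h := s.2
    rw [Matrix.det_fin_three, e0, e1, e2] at h
    linear_combination h
  let A : Matrix.SpecialLinearGroup (Fin 2) F :=
    ⟨!![s.1 1 1, s.1 1 2; s.1 2 1, s.1 2 2], by rw [Matrix.det_fin_two_of]; exact hdet⟩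
  have e : s = blk A * (tr (show (0 : Fin 3) < 1 by decide).ne (s.1 0 1) * tr (show (0 : Fin 3) < 2 by decide).ne (s.1 0 2)) := by
    refine Subtype.ext ?_
    simp only [Matrix.SpecialLinearGroup.coe_mul, tr, coe_transvection, blk_coe]
    ext i j
    fin_cases i <;> fin_cases j <;>
      simp [A, Matrix.mul_apply, Fin.sum_univ_three, Matrix.single_apply, Matrix.one_apply, e0, e1, e2]
  rw [e]
  exact mul_mem (hblk A) (mul_mem (tr_upper hU (show (0 : Fin 3) < 1 by decide) _)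
    (tr_upper hU (show (0 : Fin 3) < 2 by decide) _))

omit hU

/-- The preimage in `SL(3, F)`. -/
abbrev pre (X : Subgroup (PSL3 F)) : Subgroup (SL3 F) := X.comap (QuotientGroup.mk' _)

theorem exists_conj_uni (X : Subgroup (PSL3 F)) (hodd : Odd X.index) :
    ∃ g : SL3 F, ∀ u ∈ uni, g⁻¹ * u * g ∈ pre X := by
  haveI : Fact (Nat.Prime 2) := ⟨Nat.prime_two⟩
  have hidx : ¬ 2 ∣ (pre X).index := by
    rw [Subgroup.index_comap_of_surjective _ (QuotientGroup.mk'_surjective _)]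
    exact hodd.not_two_dvd_nat
  obtain ⟨Q, hQ⟩ := isPGroup_uni.exists_le_sylow (G := SL3 F)
  obtain ⟨R⟩ := (inferInstance : Nonempty (Sylow 2 (pre X)))
  obtain ⟨S, hS⟩ := (R.isPGroup'.map (pre X).subtype).exists_le_sylow
  have hRS : (S : Subgroup (SL3 F)) ≤ pre X := by
    have h1 : ((R : Subgroup (pre X)).map (pre X).subtype) = (S : Subgroup (SL3 F)) := by
      refine Subgroup.eq_of_le_of_card_ge hS ?_
      rw [Subgroup.card_map_of_injective (pre X).subtype_injective, R.card_eq_multiplicity, S.card_eq_multiplicity,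
        ← (pre X).card_mul_index, Nat.factorization_mul Nat.card_pos.ne' Subgroup.index_ne_zero_of_finite,
        Finsupp.add_apply, Nat.factorization_eq_zero_of_not_dvd hidx, add_zero]
    rw [← h1]
    exact Subgroup.map_subtype_le _
  obtain ⟨g, hg⟩ := MulAction.exists_smul_eq (SL3 F) S Q
  refine ⟨g, fun u hu => hRS ?_⟩
  have h := hQ hu
  rw [← hg, Sylow.coe_subgroup_smul] at h
  obtain ⟨v, hv, hvu⟩ := h
  have e : g⁻¹ * u * g = v := by
    rw [← hvu]
    show g⁻¹ * (g * v * g⁻¹) * g = v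
    group
  rw [e]
  exact hv

theorem index_ne_top {X : Subgroup (PSL3 F)} (hX : X ≠ ⊤) (g : SL3 F) :
    (pre X).map (MulAut.conj g).toMonoidHom ≠ ⊤ := fun e => hX (eq_top_iff.2 fun x _ => by
  obtain ⟨s, rfl⟩ := QuotientGroup.mk_surjective x
  obtain ⟨t, ht, hts⟩ := e.ge (Subgroup.mem_top (g * s * g⁻¹))
  have : t = s := mul_left_cancel (mul_right_cancel hts)
  exact this ▸ ht)

/-- The standard point, standard line. -/
abbrev p₀ : Pt F := mk F (Pi.single 0 1) (Pi.single_ne_zero_iff.2 one_ne_zero)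

/-- The standard line. -/
abbrev l₀ : Pt F := mk F (Pi.single 2 1) (Pi.single_ne_zero_iff.2 one_ne_zero)

theorem fix_p₀ {s : SL3 F} : (QuotientGroup.mk s : PSL3 F) • (p₀ : Pt F) = p₀ ↔ s.1 1 0 = 0 ∧ s.1 2 0 = 0 := by
  rw [mk_smul, mk_eq_mk_iff', Matrix.mulVec_single_one]
  refine ⟨fun ⟨c, hc⟩ => ⟨?_, ?_⟩, fun h => ⟨s.1 0 0, funext fun i => ?_⟩⟩
  · simpa using (congrFun hc 1).symm
  · simpa using (congrFun hc 2).symm
  · fin_cases i <;> simp [h.1, h.2]

theorem fix_l₀ {s : SL3 F} : ln (QuotientGroup.mk s : PSL3 F) l₀ = l₀ ↔ (s⁻¹).1 2 0 = 0 ∧ (s⁻¹).1 2 1 = 0 := by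
  rw [mk_ln, mk_eq_mk_iff', tinv_coe, Matrix.mulVec_single_one]
  refine ⟨fun ⟨c, hc⟩ => ⟨?_, ?_⟩, fun h => ⟨(s⁻¹).1 2 2, funext fun i => ?_⟩⟩
  · simpa using (congrFun hc 0).symm
  · simpa using (congrFun hc 1).symm
  · fin_cases i <;> simp [h.1, h.2, -Matrix.SpecialLinearGroup.coe_inv]

theorem no_line {Y : Subgroup (SL3 F)} (hU : uni ≤ Y) (h21 : ∀ c : F, tr (show (2 : Fin 3) ≠ 1 by decide) c ∈ Y)
    (l : Pt F) : ∃ s ∈ Y, ln (QuotientGroup.mk s : PSL3 F) l ≠ l := by
  by_contra hc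
  push Not at hc
  induction l using Projectivization.ind with | _ a ha =>
  have key : ∀ (i j : Fin 3) (hij : i ≠ j), tr hij 1 ∈ Y → a i = 0 := by
    intro i j hij hm
    have h := hc _ hm
    rw [mk_ln, mk_eq_mk_iff', tinv_coe, tr, SpecialLinearGroup.transvection_inv, coe_transvection,
      Matrix.transpose_add, Matrix.transpose_one, Matrix.transpose_single, Matrix.add_mulVec, Matrix.one_mulVec,
      Matrix.single_mulVec] at h
    obtain ⟨c, hc'⟩ := h
    have e1 := congrFun hc' i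
    have e2 := congrFun hc' j
    simp [Function.update, hij] at e1 e2
    rcases mul_left_eq_self₀.1 e1 with e1 | e1
    · rw [e1, one_mul] at e2
      simpa using e2
    · exact e1
  refine ha (funext fun i => ?_)
  fin_cases i
  · exact key 0 1 _ (tr_upper hU (show (0 : Fin 3) < 1 by decide) 1)
  · exact key 1 2 _ (tr_upper hU (show (1 : Fin 3) < 2 by decide) 1)
  · exact key 2 1 _ (h21 1)

theorem no_point {Y : Subgroup (SL3 F)} (hU : uni ≤ Y) (h10 : ∀ c : F, tr (show (1 : Fin 3) ≠ 0 by decide) c ∈ Y)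
    (p : Pt F) : ∃ s ∈ Y, (QuotientGroup.mk s : PSL3 F) • p ≠ p := by
  by_contra hc
  push Not at hc
  induction p using Projectivization.ind with | _ a ha =>
  have key : ∀ (i j : Fin 3) (hij : i ≠ j), tr hij 1 ∈ Y → a j = 0 := by
    intro i j hij hm
    have h := hc _ hm
    rw [mk_smul, mk_eq_mk_iff', tr, coe_transvection, Matrix.add_mulVec, Matrix.one_mulVec,
      Matrix.single_mulVec] at h
    obtain ⟨c, hc'⟩ := h
    have e1 := congrFun hc' i
    have e2 := congrFun hc' j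
    simp [Function.update, hij, hij.symm] at e1 e2
    rcases mul_left_eq_self₀.1 e2 with e2 | e2
    · rw [e2, one_mul] at e1
      simpa using e1
    · exact e2
  refine ha (funext fun i => ?_)
  fin_cases i
  · exact key 1 0 _ (h10 1)
  · exact key 0 1 _ (tr_upper hU (show (0 : Fin 3) < 1 by decide) 1)
  · exact key 1 2 _ (tr_upper hU (show (1 : Fin 3) < 2 by decide) 1)

/-- The three standard positions. -/
theorem std_cases {Y : Subgroup (SL3 F)} (hU : uni ≤ Y) :
    ((∀ s ∈ Y, (QuotientGroup.mk s : PSL3 F) • (p₀ : Pt F) = p₀) ∨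
      (∀ c : F, tr (show (1 : Fin 3) ≠ 0 by decide) c ∈ Y)) ∧
    ((∀ s ∈ Y, ln (QuotientGroup.mk s : PSL3 F) (l₀ : Pt F) = l₀) ∨
      (∀ c : F, tr (show (2 : Fin 3) ≠ 1 by decide) c ∈ Y)) := by
  constructor
  · refine or_iff_not_imp_left.2 fun h => ?_
    push Not at h
    obtain ⟨s, hs, hne⟩ := h
    rw [Ne, fix_p₀, not_and_or] at hne
    exact tr_one_zero hU hs hne
  · refine or_iff_not_imp_left.2 fun h => ?_
    push Not at h
    obtain ⟨s, hs, hne⟩ := h
    rw [Ne, fix_l₀, not_and_or] at hne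
    exact tr_two_one hU (inv_mem hs) hne

variable {X : Subgroup (PSL3 F)}

/-- The conjugate of the preimage. -/
abbrev cj (X : Subgroup (PSL3 F)) (g : SL3 F) : Subgroup (SL3 F) := (pre X).map (MulAut.conj g).toMonoidHom

theorem mem_cj {g s : SL3 F} : s ∈ cj X g ↔ g⁻¹ * s * g ∈ pre X := by
  rw [Subgroup.mem_map_equiv, MulAut.conj_symm_apply]

theorem mk_back (g s : SL3 F) : (QuotientGroup.mk (g⁻¹ * s * g) : PSL3 F) =
    (QuotientGroup.mk g)⁻¹ * QuotientGroup.mk s * QuotientGroup.mk g := rfl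

/-- A subgroup of odd index fixing no line contains the elements fixing a vector of its point. -/
theorem sub_point (hodd : Odd X.index) (hX : X ≠ ⊤) (hl : ∀ l : Pt F, ∃ x ∈ X, ln x l ≠ l) :
    ∃ (v : V3 F) (hv : v ≠ 0), (∀ x ∈ X, x • mk F v hv = mk F v hv) ∧
      ∀ s : SL3 F, s.1 *ᵥ v = v → (QuotientGroup.mk s : PSL3 F) ∈ X := by
  obtain ⟨g, hg⟩ := exists_conj_uni X hodd
  have hU : uni ≤ cj X g := fun u hu => mem_cj.2 (hg u hu)
  obtain ⟨h1, h2⟩ := std_cases hU
  have h21 : ∀ c : F, tr (show (2 : Fin 3) ≠ 1 by decide) c ∈ cj X g := by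
    refine h2.resolve_left fun h => ?_
    obtain ⟨x, hx, hne⟩ := hl (ln (QuotientGroup.mk g : PSL3 F)⁻¹ l₀)
    obtain ⟨s, rfl⟩ := QuotientGroup.mk_surjective x
    refine hne ?_
    have hm : g * s * g⁻¹ ∈ cj X g := ⟨s, hx, rfl⟩
    have e := congrArg (ln (QuotientGroup.mk g : PSL3 F)⁻¹) (h _ hm)
    rw [← ln_mul] at e
    rw [← ln_mul]
    rwa [show (QuotientGroup.mk g : PSL3 F)⁻¹ * QuotientGroup.mk (g * s * g⁻¹) =
      QuotientGroup.mk s * (QuotientGroup.mk g)⁻¹ by
        rw [QuotientGroup.mk_mul, QuotientGroup.mk_mul, QuotientGroup.mk_inv]; group] at e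
  have hfix : ∀ s ∈ cj X g, (QuotientGroup.mk s : PSL3 F) • p₀ = p₀ :=
    h1.resolve_right fun h10 => index_ne_top hX g (eq_top_of_lower hU h10 h21)
  refine ⟨(g⁻¹).1 *ᵥ Pi.single 0 1, mulVec_ne_zero _ (Pi.single_ne_zero_iff.2 one_ne_zero), fun x hx => ?_,
    fun s hs => ?_⟩
  · obtain ⟨s, rfl⟩ := QuotientGroup.mk_surjective x
    have e := hfix (g * s * g⁻¹) ⟨s, hx, rfl⟩
    show (QuotientGroup.mk s : PSL3 F) • ((QuotientGroup.mk g⁻¹ : PSL3 F) • (p₀ : Pt F)) =
      (QuotientGroup.mk g⁻¹ : PSL3 F) • (p₀ : Pt F)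
    rw [QuotientGroup.mk_mul, QuotientGroup.mk_mul, mul_smul, mul_smul, QuotientGroup.mk_inv] at e
    rw [QuotientGroup.mk_inv, eq_inv_smul_iff]
    exact e
  · have h3 : g * s * g⁻¹ ∈ cj X g := by
      refine fix_first hU h21 ?_
      rw [Matrix.SpecialLinearGroup.coe_mul, Matrix.SpecialLinearGroup.coe_mul, ← Matrix.mulVec_mulVec,
        ← Matrix.mulVec_mulVec, hs, Matrix.mulVec_mulVec, ← Matrix.SpecialLinearGroup.coe_mul, mul_inv_cancel,
        Matrix.SpecialLinearGroup.coe_one, Matrix.one_mulVec]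
    have h4 := mem_cj.1 h3
    rwa [show g⁻¹ * (g * s * g⁻¹) * g = s by group] at h4

/-- A subgroup of odd index fixing a point and a line. -/
theorem sub_flag (hodd : Odd X.index) {p' l' : Pt F} (hp : ∀ x ∈ X, x • p' = p') (hl : ∀ x ∈ X, ln x l' = l') :
    ∃ p l : Pt F, Inc p l ∧ (∀ x ∈ X, x • p = p ∧ ln x l = l) ∧
      ∀ x : PSL3 F, orderOf x = 2 → x • p = p → ln x l = l → x ∈ X := by
  obtain ⟨g, hg⟩ := exists_conj_uni X hodd
  have hU : uni ≤ cj X g := fun u hu => mem_cj.2 (hg u hu)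
  obtain ⟨h1, h2⟩ := std_cases hU
  set G₀ : PSL3 F := QuotientGroup.mk g with hG
  have hp' : ∀ s ∈ cj X g, (QuotientGroup.mk s : PSL3 F) • (G₀ • p') = G₀ • p' := by
    rintro _ ⟨s, hs, rfl⟩
    show (QuotientGroup.mk (g * s * g⁻¹) : PSL3 F) • _ = _
    rw [QuotientGroup.mk_mul, QuotientGroup.mk_mul, QuotientGroup.mk_inv, mul_smul, mul_smul, inv_smul_smul,
      hp (QuotientGroup.mk s) hs]
  have hl' : ∀ s ∈ cj X g, ln (QuotientGroup.mk s : PSL3 F) (ln G₀ l') = ln G₀ l' := by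
    rintro _ ⟨s, hs, rfl⟩
    show ln (QuotientGroup.mk (g * s * g⁻¹) : PSL3 F) _ = _
    rw [← ln_mul, QuotientGroup.mk_mul, QuotientGroup.mk_mul, QuotientGroup.mk_inv, inv_mul_cancel_right, ln_mul,
      hl (QuotientGroup.mk s) hs]
  have hP := h1.resolve_right fun h10 => (no_point hU h10 _).elim fun s hs => hs.2 (hp' s hs.1)
  have hL := h2.resolve_right fun h21 => (no_line hU h21 _).elim fun s hs => hs.2 (hl' s hs.1)
  have hI : Inc (p₀ : Pt F) l₀ := (inc_mk _ _).2 (by simp)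
  refine ⟨G₀⁻¹ • p₀, ln G₀⁻¹ l₀, (inc_smul _ _ _).2 hI, fun x hx => ?_, fun x hx hxp hxl => ?_⟩
  · obtain ⟨s, rfl⟩ := QuotientGroup.mk_surjective x
    constructor
    · have e := congrArg (G₀⁻¹ • ·) (hP (g * s * g⁻¹) ⟨s, hx, rfl⟩)
      simp only [hG, QuotientGroup.mk_mul, QuotientGroup.mk_inv, mul_smul, inv_smul_smul] at e
      exact e
    · have e := congrArg (ln G₀⁻¹) (hL (g * s * g⁻¹) ⟨s, hx, rfl⟩)
      rw [← ln_mul] at e
      rw [← ln_mul]
      rwa [show G₀⁻¹ * QuotientGroup.mk (g * s * g⁻¹) = QuotientGroup.mk s * G₀⁻¹ by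
        rw [hG, QuotientGroup.mk_mul, QuotientGroup.mk_mul, QuotientGroup.mk_inv]; group] at e
  · have hy : orderOf (G₀ * x * G₀⁻¹) = 2 := by rw [Invol.orderOf_conj_eq, hx]
    obtain ⟨z, a, h, hz, ha, he⟩ := invol_eq_el hy
    have e1 : el z a h • (p₀ : Pt F) = p₀ := by rw [← he, mul_smul, mul_smul, hxp, smul_inv_smul]
    have e2 : ln (el z a h) (l₀ : Pt F) = l₀ := by rw [← he, ln_mul, ln_mul, hxl, ← ln_mul, mul_inv_cancel, ln_one]
    rw [el_fix h hz ha, inc_mk] at e1
    rw [el_fix_ln h hz ha, inc_mk] at e2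
    simp only [dotProduct_single, mul_one] at e1
    simp only [single_dotProduct, one_mul] at e2
    have h11 : z 1 * a 1 = 0 := by
      simp [dotProduct, Fin.sum_univ_three, e1, e2] at h
      rcases h with h | h <;> simp [h]
    have hm : tvS z a h ∈ cj X g := hU (by
      show _ ∧ _ ∧ _ ∧ _ ∧ _ ∧ _
      simp [tvS, tvMat, Matrix.vecMulVec_apply, e1, e2, h11])
    have h4 := mem_cj.1 hm
    show x ∈ X
    rw [show x = G₀⁻¹ * (G₀ * x * G₀⁻¹) * G₀ by group, he]
    exact h4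

end Cfsg.Lib.LThreeExt
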