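import Cfsg.Agent.Lib.LThreeExt.Key
import Cfsg.Agent.Lib.LThreeExt.Sub

/-!
# How automorphisms of `PSL(3, 2ⁿ)` move points and lines
-/

set_option autoImplicit false
set_option linter.unusedSectionVars false
set_option linter.style.haveILetI false

namespace Cfsg.Lib.LThreeExt

open Matrix Projectivization Cfsg.Lib Cfsg.Lib.Linear Cfsg.Lib.Linear.TVec Cfsg.Lib.Linear.AutPSL
open Cfsg.Lib.Linear.Descent
open scoped MatrixGroups LinearAlgebra.Projectivization

variable {F : Type} [Field F] [Fintype F] [CharP F 2]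

/-- A semilinear map of points. -/
noncomputable def semi (g : GL (Fin 3) F) (σ : F ≃+* F) (p : Pt F) : Pt F :=
  mk F (sv g σ p.rep) (sv_ne_zero g σ p.rep_nonzero)

theorem semi_mk (g : GL (Fin 3) F) (σ : F ≃+* F) {v : V3 F} (hv : v ≠ 0) :
    semi g σ (mk F v hv) = mk F (sv g σ v) (sv_ne_zero g σ hv) := by
  obtain ⟨c, hc⟩ := exists_smul_eq_mk_rep F v hv
  refine (mk_eq_mk_iff' F _ _ _ _).2 ⟨σ (c : F), ?_⟩
  rw [← sv_smul]
  exact congrArg _ hc

theorem semi_injective (g : GL (Fin 3) F) (σ : F ≃+* F) : Function.Injective (semi g σ) := by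
  intro p p' h
  induction p using Projectivization.ind with | _ v hv =>
  induction p' using Projectivization.ind with | _ w hw =>
  rw [semi_mk, semi_mk, mk_eq_mk_iff'] at h
  obtain ⟨c, hc⟩ := h
  refine (mk_eq_mk_iff' F _ _ _ _).2 ⟨σ.symm c, sv_injective g σ ?_⟩
  rw [sv_smul, σ.apply_symm_apply, hc]

theorem semi_inc (g : GL (Fin 3) F) (σ : F ≃+* F) (p l : Pt F) :
    Inc (semi g σ p) (semi (dual g) σ l) ↔ Inc p l := by
  induction p using Projectivization.ind with | _ v hv =>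
  induction l using Projectivization.ind with | _ a ha =>
  rw [semi_mk, semi_mk, inc_mk, inc_mk, sv_dot]
  exact map_eq_zero_iff σ σ.injective

theorem lin_smul (g : GL (Fin 3) F) (σ : F ≃+* F) (k : PSL3 F) (p : Pt F) :
    (innd g * fld σ : Aut3 F) k • semi g σ p = semi g σ (k • p) := by
  obtain ⟨s, rfl⟩ := QuotientGroup.mk_surjective k
  induction p using Projectivization.ind with | _ v hv =>
  rw [MulAut.mul_apply, fld_mk, innd_mk, semi_mk, mk_smul, mk_smul, semi_mk]
  refine (mk_eq_mk_iff' F _ _ _ _).2 ⟨1, ?_⟩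
  rw [one_smul, cnjHom_coe, frobHom_coe, sv, sv, Matrix.mulVec_mulVec, Matrix.mul_assoc, Units.inv_mul,
    Matrix.mul_one, ← Matrix.mulVec_mulVec]
  refine congrArg _ (funext fun i => ?_)
  simp [Matrix.mulVec, dotProduct, map_sum]

theorem gr_lin (g : GL (Fin 3) F) (σ : F ≃+* F) :
    (gr : Aut3 F) * (innd g * fld σ) = innd (dual g) * fld σ * gr := by
  rw [← mul_assoc, gr_mul_innd, mul_assoc, gr_mul_fld, ← mul_assoc]

theorem lin_ln (g : GL (Fin 3) F) (σ : F ≃+* F) (k : PSL3 F) (l : Pt F) :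
    ln ((innd g * fld σ : Aut3 F) k) (semi (dual g) σ l) = semi (dual g) σ (ln k l) := by
  rw [ln, ln, show (gr : Aut3 F) ((innd g * fld σ : Aut3 F) k) = ((gr * (innd g * fld σ) : Aut3 F)) k from rfl, gr_lin,
    MulAut.mul_apply, lin_smul]

theorem grl_smul (g : GL (Fin 3) F) (σ : F ≃+* F) (k : PSL3 F) (l : Pt F) :
    (innd g * fld σ * gr : Aut3 F) k • semi g σ l = semi g σ (ln k l) := by
  rw [MulAut.mul_apply, lin_smul]
  rfl

theorem grl_ln (g : GL (Fin 3) F) (σ : F ≃+* F) (k : PSL3 F) (p : Pt F) :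
    ln ((innd g * fld σ * gr : Aut3 F) k) (semi (dual g) σ p) = semi (dual g) σ (k • p) := by
  rw [MulAut.mul_apply, lin_ln]
  refine congrArg _ ?_
  rw [ln, show (gr : Aut3 F) ((gr : Aut3 F) k) = ((gr * gr : Aut3 F)) k from rfl, gr_mul_gr]
  rfl

theorem lin_or_gr (β : Aut3 F) :
    (∃ (g : GL (Fin 3) F) (σ : F ≃+* F), β = innd g * fld σ) ∨ IsGr β := by
  haveI : Fact (Nat.Prime 2) := ⟨Nat.prime_two⟩
  obtain ⟨g, σ, h | h⟩ := exists_decomp (p := 2) (n := 3) (by omega) β
  · exact Or.inl ⟨g, σ, h⟩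
  · exact Or.inr ⟨g, σ, h⟩

/-- `X` fixes a point. -/
def FixP (X : Subgroup (PSL3 F)) : Prop := ∃ p : Pt F, ∀ k ∈ X, k • p = p

/-- `X` fixes a line. -/
def FixL (X : Subgroup (PSL3 F)) : Prop := ∃ l : Pt F, ∀ k ∈ X, ln k l = l

theorem lin_fixP {β : Aut3 F} (hβ : ¬ IsGr β) {X X' : Subgroup (PSL3 F)} (h : ∀ k ∈ X', β.symm k ∈ X)
    (hX : FixP X) : FixP X' := by
  obtain ⟨g, σ, rfl⟩ := (lin_or_gr β).resolve_right hβ
  obtain ⟨p, hp⟩ := hX
  refine ⟨semi g σ p, fun k hk => ?_⟩
  have e := lin_smul g σ ((innd g * fld σ : Aut3 F).symm k) p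
  rwa [MulEquiv.apply_symm_apply, hp _ (h k hk)] at e

theorem lin_fixL {β : Aut3 F} (hβ : ¬ IsGr β) {X X' : Subgroup (PSL3 F)} (h : ∀ k ∈ X', β.symm k ∈ X)
    (hX : FixL X) : FixL X' := by
  obtain ⟨g, σ, rfl⟩ := (lin_or_gr β).resolve_right hβ
  obtain ⟨p, hp⟩ := hX
  refine ⟨semi (dual g) σ p, fun k hk => ?_⟩
  have e := lin_ln g σ ((innd g * fld σ : Aut3 F).symm k) p
  rwa [MulEquiv.apply_symm_apply, hp _ (h k hk)] at e

theorem gr_fixP {β : Aut3 F} (hβ : IsGr β) {X X' : Subgroup (PSL3 F)} (h : ∀ k ∈ X', β.symm k ∈ X)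
    (hX : FixP X) : FixL X' := by
  obtain ⟨g, σ, rfl⟩ := hβ
  obtain ⟨p, hp⟩ := hX
  refine ⟨semi (dual g) σ p, fun k hk => ?_⟩
  have e := grl_ln g σ ((innd g * fld σ * gr : Aut3 F).symm k) p
  rwa [MulEquiv.apply_symm_apply, hp _ (h k hk)] at e

theorem gr_fixL {β : Aut3 F} (hβ : IsGr β) {X X' : Subgroup (PSL3 F)} (h : ∀ k ∈ X', β.symm k ∈ X)
    (hX : FixL X) : FixP X' := by
  obtain ⟨g, σ, rfl⟩ := hβ
  obtain ⟨p, hp⟩ := hX
  refine ⟨semi g σ p, fun k hk => ?_⟩
  have e := grl_smul g σ ((innd g * fld σ * gr : Aut3 F).symm k) p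
  rwa [MulEquiv.apply_symm_apply, hp _ (h k hk)] at e

/-- An involution fixing a point and not a given line. -/
theorem exists_invol_fix_move (p l : Pt F) :
    ∃ k : PSL3 F, orderOf k = 2 ∧ k • p = p ∧ ln k l ≠ l := by
  obtain ⟨z, hz⟩ : ∃ z : Pt F, ¬ Inc z l := by
    by_contra hc
    push Not at hc
    have h := card_points_on l
    rw [Set.eq_univ_of_forall (s := {p : Pt F | Inc p l}) hc, Set.ncard_univ, card_pt] at h
    nlinarith [Fintype.one_lt_card (α := F)]
  obtain ⟨a, hap, haz⟩ : ∃ a : Pt F, Inc p a ∧ Inc z a := by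
    rcases eq_or_ne p z with rfl | h
    · obtain ⟨a, ha⟩ := Set.nonempty_of_ncard_ne_zero
        (s := {a : Pt F | Inc p a}) (by rw [card_lines_through]; omega)
      exact ⟨a, ha, ha⟩
    · exact exists_line_ne h
  have h : a.rep ⬝ᵥ z.rep = 0 := haz
  refine ⟨el z.rep a.rep h, orderOf_el h z.rep_nonzero a.rep_nonzero, ?_, fun e => hz ?_⟩
  · rw [el_fix h z.rep_nonzero a.rep_nonzero, mk_rep]
    exact hap
  · rw [el_fix_ln h z.rep_nonzero a.rep_nonzero, mk_rep] at e
    exact e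

/-- An involution fixing a line and not a given point. -/
theorem exists_invol_fix_move_ln (p l : Pt F) :
    ∃ k : PSL3 F, orderOf k = 2 ∧ ln k l = l ∧ k • p ≠ p := by
  obtain ⟨k, hk, h1, h2⟩ := exists_invol_fix_move l p
  refine ⟨(gr : Aut3 F) k, by rw [MulEquiv.orderOf_eq, hk], ?_, fun e => h2 e⟩
  rw [ln, show (gr : Aut3 F) ((gr : Aut3 F) k) = ((gr * gr : Aut3 F)) k from rfl, gr_mul_gr]
  exact h1

/-- A subgroup containing every involution fixing a point fixes no line. -/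
theorem not_fixL_of_point {X : Subgroup (PSL3 F)} {p : Pt F}
    (hX : ∀ k, orderOf k = 2 → k • p = p → k ∈ X) : ¬ FixL X := fun ⟨l, hl⟩ => by
  obtain ⟨k, hk, h1, h2⟩ := exists_invol_fix_move p l
  exact h2 (hl k (hX k hk h1))

/-- A point is determined by the involutions fixing it. -/
theorem point_sep {p p' : Pt F} (h : ∀ k : PSL3 F, orderOf k = 2 → k • p = p → k • p' = p') : p = p' := by
  by_contra hne
  obtain ⟨l, hl, hl'⟩ := exists_line_ne hne
  obtain ⟨b, hb, hbl⟩ := Set.exists_ne_of_one_lt_ncard (s := {b : Pt F | Inc p b})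
    (by rw [card_lines_through]; have := Fintype.one_lt_card (α := F); omega) l
  have h1 : b.rep ⬝ᵥ p.rep = 0 := hb
  have e := h (el p.rep b.rep h1) (orderOf_el h1 p.rep_nonzero b.rep_nonzero) (by
    rw [el_fix h1 p.rep_nonzero b.rep_nonzero, mk_rep]; exact hb)
  rw [el_fix h1 p.rep_nonzero b.rep_nonzero, mk_rep] at e
  exact hbl (line_unique hne hb e hl hl')

/-- Fixed elements of a graph type involution over `GF(2)` have no order four. -/
theorem grl_no_four (hq : Fintype.card F = 2) {β : Aut3 F} (hβ : IsGr β) (h2 : β * β = 1) {u : PSL3 F}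
    (hu : β u = u) : u ^ 4 = 1 → u ^ 2 = 1 := by
  classical
  intro hu4
  obtain ⟨g, σ, rfl⟩ := hβ
  haveI : Fact (Nat.Prime 2) := ⟨Nat.prime_two⟩
  have hF : Fintype.card F = 2 ^ 1 := by rw [hq, pow_one]
  obtain rfl : σ = 1 := orderOf_eq_one_iff.1 (Nat.eq_one_of_dvd_one (orderOf_dvd_exp le_rfl hF σ))
  have hone : ∀ c : F, c ≠ 0 → c = 1 := by
    intro c hc
    by_contra h1
    have : ({0, 1, c} : Finset F).card ≤ Fintype.card F := Finset.card_le_univ _
    rw [Finset.card_eq_three.2 ⟨0, 1, c, zero_ne_one, Ne.symm hc, Ne.symm h1, rfl⟩, hq] at this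
    omega
  obtain ⟨s, rfl⟩ := QuotientGroup.mk_surjective u
  have hz : ∀ t : SL3 F, (QuotientGroup.mk t : PSL3 F) = 1 → t = 1 := by
    intro t ht
    rw [QuotientGroup.eq_one_iff, Matrix.SpecialLinearGroup.mem_center_iff] at ht
    obtain ⟨r, hr, hrt⟩ := ht
    rw [Fintype.card_fin] at hr
    have hr0 : r ≠ 0 := fun e => by rw [e, zero_pow (by omega)] at hr; exact zero_ne_one hr
    exact Subtype.ext (by rw [← hrt, hone r hr0, map_one, Matrix.SpecialLinearGroup.coe_one])
  -- the form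
  have hsymm : g.val.transpose = g.val := by
    have e := h2
    rw [grl_sq] at e
    rw [show ((1 : F ≃+* F) * 1) = 1 from one_mul 1, map_one (fld : (F ≃+* F) →* Aut3 F), mul_one] at e
    obtain ⟨c, hc⟩ := (innd_eq_one_iff (by omega)).1 e
    have hc' := congrArg (fun w : GL (Fin 3) F => w.val * g.val.transpose) hc
    simp only [Units.val_mul, sc_val, hone _ c.ne_zero, one_smul, one_mul, Matrix.mul_assoc] at hc'
    rw [show (sm (1 : F ≃+* F) (dual g)).val = (g⁻¹).val.transpose from rfl, ← Matrix.transpose_mul, Units.mul_inv,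
      Matrix.transpose_one, Matrix.mul_one] at hc'
    exact hc'.symm
  have hfix : s.1 * g.val * s.1.transpose = g.val := by
    rw [map_one, mul_one, MulAut.mul_apply, gr_mk, innd_mk] at hu
    have e : cnjHom g (tinv s) = s := by
      have h := hz (s⁻¹ * cnjHom g (tinv s)) (by rw [QuotientGroup.mk_mul, hu, QuotientGroup.mk_inv, inv_mul_cancel])
      exact (inv_mul_eq_one.1 h).symm
    have e' : g.val * (s⁻¹).1.transpose * (g⁻¹).val = s.1 := congrArg Subtype.val e
    calc s.1 * g.val * s.1.transpose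
        = g.val * ((s⁻¹).1.transpose * ((g⁻¹).val * g.val)) * s.1.transpose := by
          conv_lhs => arg 1; arg 1; rw [← e']
          simp only [Matrix.mul_assoc]
      _ = g.val := by
          rw [Units.inv_mul, Matrix.mul_one, Matrix.mul_assoc, ← Matrix.transpose_mul,
            ← Matrix.SpecialLinearGroup.coe_mul, mul_inv_cancel, Matrix.SpecialLinearGroup.coe_one,
            Matrix.transpose_one, Matrix.mul_one]
  set N := s.1.transpose + 1 with hN
  have hsN : s.1.transpose = 1 + N := by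
    rw [hN]
    ext i j
    simp only [Matrix.add_apply]
    linear_combination (-1 : F) * (CharTwo.add_self_eq_zero ((1 : Matrix (Fin 3) (Fin 3) F) i j))
  let B : V3 F → V3 F → F := fun x y => x ⬝ᵥ (g.val *ᵥ y)
  have hBs : ∀ x y, B x y = B y x := fun x y => by
    show x ⬝ᵥ (g.val *ᵥ y) = y ⬝ᵥ (g.val *ᵥ x)
    rw [Matrix.dotProduct_mulVec, ← Matrix.mulVec_transpose, hsymm, dotProduct_comm]
  have hB : ∀ x y, B (N *ᵥ x) y + B x (N *ᵥ y) + B (N *ᵥ x) (N *ᵥ y) = 0 := by
    intro x y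
    have e : B (s.1.transpose *ᵥ x) (s.1.transpose *ᵥ y) = B x y := by
      show (s.1.transpose *ᵥ x) ⬝ᵥ (g.val *ᵥ (s.1.transpose *ᵥ y)) = x ⬝ᵥ (g.val *ᵥ y)
      rw [Matrix.mulVec_mulVec, Matrix.mulVec_transpose, ← Matrix.dotProduct_mulVec, Matrix.mulVec_mulVec,
        ← Matrix.mul_assoc, hfix]
    simp only [B, hsN, Matrix.add_mulVec, Matrix.one_mulVec, Matrix.mulVec_add, dotProduct_add, add_dotProduct] at e
    show _ ⬝ᵥ _ + _ ⬝ᵥ _ + _ ⬝ᵥ _ = _
    linear_combination e
  have hpow : ∀ k, (s ^ k).1.transpose = (1 + N) ^ k := fun k => by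
    rw [Matrix.SpecialLinearGroup.coe_pow, Matrix.transpose_pow, hsN]
  have hN4 : N * N * (N * N) = 0 := by
    have e := hz (s ^ 4) (by rw [QuotientGroup.mk_pow, hu4])
    have h := hpow 4
    rw [e, Matrix.SpecialLinearGroup.coe_one, Matrix.transpose_one] at h
    haveI : Fact (Nat.Prime 2) := ⟨Nat.prime_two⟩
    have h' : (1 + N) ^ 4 = 1 + N * N * (N * N) := by
      rw [show 4 = 2 ^ 2 from rfl, add_pow_char_pow_of_commute (p := 2) (n := 2) (Commute.one_left N), one_pow,
        show 2 ^ 2 = 2 + 2 from rfl, pow_add, pow_two]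
    exact left_eq_add.1 (h.trans h')
  suffices hN2 : N * N = 0 by
    have h := hpow 2
    have e2 : (1 + N) ^ 2 = 1 := by
      rw [add_pow_char_of_commute 2 (Commute.one_left N), one_pow, pow_two, hN2, add_zero]
    rw [e2] at h
    have e : s ^ 2 = 1 := Subtype.ext (by
      rw [← Matrix.transpose_transpose ((s ^ 2).1), h, Matrix.transpose_one, Matrix.SpecialLinearGroup.coe_one])
    rw [← QuotientGroup.mk_pow, e, QuotientGroup.mk_one]
  by_contra hN2
  obtain ⟨v, hv⟩ : ∃ v, N *ᵥ (N *ᵥ v) ≠ 0 := by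
    by_contra hc
    push Not at hc
    exact hN2 (Matrix.ext_of_mulVec_single fun i => by
      rw [← Matrix.mulVec_mulVec, hc, Matrix.zero_mulVec])
  set b := N *ᵥ v with hb
  set c := N *ᵥ b with hc
  have hNc : N *ᵥ c = 0 := by
    have hN3 : N * N * N = 0 := by
      have hnil : IsNilpotent N := ⟨4, by rw [show 4 = 2 + 2 from rfl, pow_add, pow_two, hN4]⟩
      have := (Matrix.isNilpotent_charpoly_sub_pow_of_isNilpotent hnil).eq_zero
      have hcp := Matrix.aeval_self_charpoly N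
      rw [sub_eq_zero.1 this, map_pow, Polynomial.aeval_X, Fintype.card_fin, pow_succ, pow_two] at hcp
      exact hcp
    rw [hc, hb, Matrix.mulVec_mulVec, Matrix.mulVec_mulVec, hN3, Matrix.zero_mulVec]
  have z0 : ∀ x, B 0 x = 0 := fun x => zero_dotProduct _
  have z0' : ∀ x, B x 0 = 0 := fun x => by rw [hBs, z0]
  have e1 := hB b c
  rw [← hc, hNc, z0', z0', add_zero, add_zero] at e1
  have e2 := hB v c
  rw [← hb, hNc, z0', z0', add_zero, add_zero] at e2
  have e3 := hB v b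
  rw [← hb, ← hc, e2, add_zero] at e3
  have e4 := hB v v
  rw [← hb, hBs b v] at e4
  have e5 : B b b = 0 := by linear_combination e4 - CharTwo.add_self_eq_zero (B v b)
  rw [e5, zero_add] at e3
  -- `c` is orthogonal to a basis
  have hli : ∀ α β γ : F, α • v + β • b + γ • c = 0 → α = 0 ∧ β = 0 ∧ γ = 0 := by
    intro α β γ h
    have h1 := congrArg (N *ᵥ ·) h
    simp only [Matrix.mulVec_add, Matrix.mulVec_smul, ← hb, ← hc, hNc, smul_zero, add_zero, Matrix.mulVec_zero] at h1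
    have h2 := congrArg (N *ᵥ ·) h1
    simp only [Matrix.mulVec_add, Matrix.mulVec_smul, ← hc, hNc, smul_zero, add_zero, Matrix.mulVec_zero] at h2
    have hα : α = 0 := (smul_eq_zero.1 h2).resolve_right hv
    rw [hα, zero_smul, zero_add] at h1 h
    have hβ : β = 0 := (smul_eq_zero.1 h1).resolve_right hv
    rw [hβ, zero_smul, zero_add] at h
    exact ⟨hα, hβ, (smul_eq_zero.1 h).resolve_right hv⟩
  have hind : LinearIndependent F ![v, b, c] := Fintype.linearIndependent_iff.2 fun w hw i => by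
    rw [Fin.sum_univ_three] at hw
    obtain ⟨x, y, z⟩ := hli (w 0) (w 1) (w 2) (by simpa using hw)
    fin_cases i <;> assumption
  have hspan := hind.span_eq_top_of_card_eq_finrank (by rw [Module.finrank_fintype_fun_eq_card])
  have hall : ∀ x, B x c = 0 := by
    intro x
    have hx : x ∈ Submodule.span F (Set.range ![v, b, c]) := by rw [hspan]; trivial
    induction hx using Submodule.span_induction with
    | mem y hy =>
      obtain ⟨i, rfl⟩ := hy
      fin_cases i
      · exact e3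
      · exact e2
      · exact e1
    | zero => exact z0 c
    | add y z _ _ hy hz => show (y + z) ⬝ᵥ _ = _; rw [add_dotProduct]; exact (congrArg₂ (· + ·) hy hz).trans (add_zero 0)
    | smul a y _ hy => show (a • y) ⬝ᵥ _ = _; rw [smul_dotProduct]; exact (congrArg (a • ·) hy).trans (smul_zero a)
  have hgc : g.val *ᵥ c = 0 := dotProduct_eq_zero _ fun x => by rw [dotProduct_comm]; exact hall x
  refine hv ?_
  have h := congrArg ((g⁻¹).val *ᵥ ·) hgc
  simp only [Matrix.mulVec_mulVec, Units.inv_mul, Matrix.one_mulVec, Matrix.mulVec_zero] at h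
  exact h

end Cfsg.Lib.LThreeExt
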