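import Cfsg.Agent.Lib.LThreeExt.Point

/-!
# Blocks, and the lifts of the parts fixing a second point
-/

set_option autoImplicit false
set_option linter.unusedSectionVars false
set_option linter.style.haveILetI false

namespace Cfsg.Lib.LThreeExt

open Matrix Projectivization Cfsg.Lib Cfsg.Lib.Linear Cfsg.Lib.Linear.TVec Cfsg.Lib.Linear.AutPSL
open scoped MatrixGroups LinearAlgebra.Projectivization

universe u w

variable {F : Type} [Field F] [Fintype F] [CharP F 2]
variable {G : Type u} [Group G] [Finite G] {Ω : Type w} [Finite Ω] [MulAction G Ω] [FaithfulSMul G Ω]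

namespace Ext

variable (E : Ext F G Ω)

/-- The involutions fixing two points. -/
def jset (x y : Ω) : Set G := {j | j ∈ E.dset ∧ j • x = x ∧ j • y = y}

/-- The block through two points. -/
def blk (x y : Ω) : Set Ω := {z | ∀ j ∈ E.jset x y, j • z = z}

theorem jset_comm (x y : Ω) : E.jset x y = E.jset y x :=
  Set.ext fun _ => and_congr_right fun _ => and_comm

theorem left_mem_blk (x y : Ω) : x ∈ E.blk x y := fun _ hj => hj.2.1

theorem right_mem_blk (x y : Ω) : y ∈ E.blk x y := fun _ hj => hj.2.2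

theorem blk_comm (x y : Ω) : E.blk x y = E.blk y x := by rw [blk, blk, jset_comm]

end Ext

variable (E : Ext F G Ω) (hP : ∀ x y, y ≠ x → PointS (E.stb x y))
include hP

theorem jset_eq {x y z : Ω} (hy : y ≠ x) (hz : z ≠ x) (h : (ptGeo E hP).pt x y = (ptGeo E hP).pt x z) : E.jset x y = E.jset x z := by
  have key : ∀ {y z : Ω}, y ≠ x → z ≠ x → (ptGeo E hP).pt x y = (ptGeo E hP).pt x z → E.jset x y ⊆ E.jset x z := by
    rintro y z hy hz h j ⟨hd, hx, hjy⟩
    obtain ⟨k, rfl⟩ := pt_consistent E hP hd hx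
    have hk : orderOf k = 2 := by rw [← Ext.emb_orderOf (E := E) (x := x), Ext.orderOf_dset hd]
    exact ⟨hd, hx, (ptGeo E hP).mem x z hz k hk (h ▸ (ptGeo E hP).pt_fix x y hy k hjy)⟩
  exact Set.Subset.antisymm (key hy hz h) (key hz hy h.symm)

theorem mem_blk_iff {x y z : Ω} (hy : y ≠ x) : z ∈ E.blk x y ↔ z = x ∨ (z ≠ x ∧ (ptGeo E hP).pt x z = (ptGeo E hP).pt x y) := by
  constructor
  · intro hz
    refine or_iff_not_imp_left.2 fun hzx => ⟨hzx, ((ptGeo E hP).pt_eq_of hy hzx fun k hk hky => ?_).symm⟩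
    exact hz _ ⟨Ext.emb_mem_dset hk, E.fix x k, hky⟩
  · rintro (rfl | ⟨hzx, h⟩)
    · exact E.left_mem_blk z y
    · show ∀ j ∈ E.jset x y, j • z = z
      rw [← jset_eq E hP hzx hy h]
      exact fun _ hj => hj.2.2

theorem pt_of_mem_blk {x y z : Ω} (hy : y ≠ x) (hz : z ∈ E.blk x y) (hzx : z ≠ x) : (ptGeo E hP).pt x z = (ptGeo E hP).pt x y :=
  ((mem_blk_iff E hP hy).1 hz).elim (fun e => absurd e hzx) (·.2)

theorem blk_eq_left {x y z : Ω} (hy : y ≠ x) (hz : z ∈ E.blk x y) (hzx : z ≠ x) : E.blk x z = E.blk x y := by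
  rw [Ext.blk, Ext.blk, jset_eq E hP hzx hy (pt_of_mem_blk E hP hy hz hzx)]

/-- Two points of a block determine it. -/
theorem blk_eq {x y z z' : Ω} (hy : y ≠ x) (hz : z ∈ E.blk x y) (hz' : z' ∈ E.blk x y) (hne : z' ≠ z) :
    E.blk z z' = E.blk x y := by
  rcases eq_or_ne z x with rfl | hzx
  · exact blk_eq_left E hP hy hz' hne
  have e : E.blk z x = E.blk x y := by rw [E.blk_comm, blk_eq_left E hP hy hz hzx]
  rcases eq_or_ne z' x with rfl | hzx'
  · exact e
  · rw [blk_eq_left E hP (Ne.symm hzx) (e ▸ hz') hne, e]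

theorem blk_card {x y : Ω} (hy : y ≠ x) : (E.blk x y).ncard = (ptGeo E hP).tee + 1 := by
  rw [show E.blk x y = insert x ((ptGeo E hP).fib x ((ptGeo E hP).pt x y)) from Set.ext fun z => mem_blk_iff E hP hy,
    Set.ncard_insert_of_notMem (fun h => h.1 rfl) (Set.toFinite _), (ptGeo E hP).card_fib]

/-- An element of `SL` fixing the vector of the point fixes the second point. -/
theorem pt_lift {x y : Ω} (hy : y ≠ x) {s : SL3 F} (hs : s.1 *ᵥ ((ptGeo E hP).pt x y).rep = ((ptGeo E hP).pt x y).rep) :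
    E.emb x (QuotientGroup.mk s) • y = y := by
  obtain ⟨v, hv, h1, h2⟩ := hP x y hy
  have e : (ptGeo E hP).pt x y = mk F v hv :=
    point_sep fun k hk hfix => h1 k ((ptGeo E hP).mem x y hy k hk hfix)
  obtain ⟨c, hc⟩ := exists_smul_eq_mk_rep F v hv
  rw [e, ← hc, Units.smul_def, Matrix.mulVec_smul] at hs
  exact h2 s (smul_right_injective _ c.ne_zero hs)

theorem emb_mem_closure {x y : Ω} (hy : y ≠ x) {s : SL3 F} (hs : s.1 *ᵥ ((ptGeo E hP).pt x y).rep = ((ptGeo E hP).pt x y).rep) :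
    E.emb x (QuotientGroup.mk s) ∈ Subgroup.closure (E.jset x y) := by
  set p := (ptGeo E hP).pt x y with hp
  obtain ⟨S, c, hc, hS⟩ := exists_mulVec (v := (Pi.single 0 1 : V3 F)) (w := p.rep)
    (Pi.single_ne_zero_iff.2 one_ne_zero) p.rep_nonzero
  let θ : SL3 F →* G :=
    ((E.emb x).comp (QuotientGroup.mk' (Subgroup.center (SL3 F)))).comp (MulAut.conj S).toMonoidHom
  let Y := (Subgroup.closure (E.jset x y)).comap θ
  have key : ∀ {i j : Fin 3} (h : i ≠ j) (d : F), j ≠ 0 → tr h d ∈ Y := by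
    intro i j h d hj
    set t := S * tr h d * S⁻¹ with ht
    have htt : t * t = 1 := by
      rw [ht, show S * tr h d * S⁻¹ * (S * tr h d * S⁻¹) = S * (tr h d * tr h d) * S⁻¹ by group,
        show tr h d * tr h d = 1 from Subtype.ext (by
          rw [Matrix.SpecialLinearGroup.coe_mul, tr, coe_transvection, add_mul, mul_add, mul_add, one_mul, one_mul,
            mul_one, single_sq h, add_zero, Matrix.SpecialLinearGroup.coe_one, add_assoc,
            ← Matrix.single_add, CharTwo.add_self_eq_zero, Matrix.single_zero, add_zero]), mul_one, mul_inv_cancel]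
    have htp : t.1 *ᵥ p.rep = p.rep := by
      have e : p.rep = c⁻¹ • (S.1 *ᵥ Pi.single 0 1) := by rw [hS, smul_smul, inv_mul_cancel₀ hc, one_smul]
      have e' : (tr h d).1 *ᵥ (Pi.single 0 1 : V3 F) = Pi.single 0 1 := by
        rw [tr, coe_transvection, Matrix.add_mulVec, Matrix.one_mulVec, Matrix.mulVec_single_one]
        ext a
        simp [Matrix.single_apply, hj]
      rw [e, Matrix.mulVec_smul, ht, Matrix.SpecialLinearGroup.coe_mul, Matrix.SpecialLinearGroup.coe_mul,
        ← Matrix.mulVec_mulVec, ← Matrix.mulVec_mulVec, inv_mulVec, e']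
    show E.emb x (QuotientGroup.mk t) ∈ Subgroup.closure (E.jset x y)
    by_cases h1 : (QuotientGroup.mk t : PSL3 F) = 1
    · rw [h1, map_one]; exact one_mem _
    · refine Subgroup.subset_closure ⟨Ext.emb_mem_dset (Invol.orderOf_eq_two_of h1 (by
        rw [← QuotientGroup.mk_mul, htt, QuotientGroup.mk_one])), E.fix x _, pt_lift E hP hy htp⟩
  have hU : uni ≤ Y := by
    rintro u ⟨a, b, c, d, e, f⟩
    have e1 : u = tr (show (1 : Fin 3) ≠ 2 by decide) (u.1 1 2) * tr (show (0 : Fin 3) ≠ 2 by decide) (u.1 0 2) *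
        tr (show (0 : Fin 3) ≠ 1 by decide) (u.1 0 1) := by
      refine Subtype.ext ?_
      simp only [Matrix.SpecialLinearGroup.coe_mul, tr, coe_transvection]
      ext i j
      fin_cases i <;> fin_cases j <;>
        simp [Matrix.mul_apply, Fin.sum_univ_three, Matrix.single_apply, Matrix.one_apply, a, b, c, d, e, f]
    rw [e1]
    exact mul_mem (mul_mem (key _ _ (by decide)) (key _ _ (by decide))) (key _ _ (by decide))
  have hs' : (S⁻¹ * s * S).1 *ᵥ (Pi.single 0 1 : V3 F) = Pi.single 0 1 := by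
    rw [Matrix.SpecialLinearGroup.coe_mul, Matrix.SpecialLinearGroup.coe_mul, ← Matrix.mulVec_mulVec, hS,
      ← Matrix.mulVec_mulVec, Matrix.mulVec_smul, hs, ← hS, inv_mulVec]
  have := fix_first hU (fun d => key _ d (by decide)) hs'
  have e : θ (S⁻¹ * s * S) = E.emb x (QuotientGroup.mk s) := by
    show E.emb x (QuotientGroup.mk (S * (S⁻¹ * s * S) * S⁻¹)) = _
    congr 2
    group
  rw [← e]
  exact this

theorem closure_le_lifts {x y : Ω} (hy : y ≠ x) {g : G} (hg : g ∈ Subgroup.closure (E.jset x y)) :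
    ∃ t : SL3 F, t.1 *ᵥ ((ptGeo E hP).pt x y).rep = ((ptGeo E hP).pt x y).rep ∧ E.emb x (QuotientGroup.mk t) = g := by
  induction hg using Subgroup.closure_induction with
  | mem j hj =>
    obtain ⟨hd, hx, hjy⟩ := hj
    obtain ⟨k, rfl⟩ := pt_consistent E hP hd hx
    have hk : orderOf k = 2 := by rw [← Ext.emb_orderOf (E := E) (x := x), Ext.orderOf_dset hd]
    obtain ⟨z, a, h, hz, ha, rfl⟩ := invol_eq_el hk
    have hp := (el_fix h hz ha _).1 ((ptGeo E hP).pt_fix x y hy _ hjy)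
    rw [inc_right] at hp
    exact ⟨tvS z a h, by show tvMat z a *ᵥ _ = _; rw [tvMat_mulVec, hp, zero_smul, add_zero], rfl⟩
  | one => exact ⟨1, by rw [Matrix.SpecialLinearGroup.coe_one, Matrix.one_mulVec], by rw [QuotientGroup.mk_one, map_one]⟩
  | mul a b _ _ ha hb =>
    obtain ⟨t, ht, rfl⟩ := ha
    obtain ⟨t', ht', rfl⟩ := hb
    exact ⟨t * t', by rw [Matrix.SpecialLinearGroup.coe_mul, ← Matrix.mulVec_mulVec, ht', ht],
      by rw [QuotientGroup.mk_mul, map_mul]⟩
  | inv a _ ha =>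
    obtain ⟨t, ht, rfl⟩ := ha
    exact ⟨t⁻¹, by conv_lhs => rw [← ht, inv_mulVec], by rw [QuotientGroup.mk_inv, map_inv]⟩

/-- An element of `SL` fixing the vector of a point fixes its block and lies in the copy at each of its points. -/
theorem lift_transfer {x y : Ω} (hy : y ≠ x) {s : SL3 F} (hs : s.1 *ᵥ ((ptGeo E hP).pt x y).rep = ((ptGeo E hP).pt x y).rep) {z : Ω}
    (hz : z ∈ E.blk x y) (hzx : z ≠ x) :
    ∃ t : SL3 F, t.1 *ᵥ ((ptGeo E hP).pt z x).rep = ((ptGeo E hP).pt z x).rep ∧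
      E.emb z (QuotientGroup.mk t) = E.emb x (QuotientGroup.mk s) := by
  refine closure_le_lifts E hP hzx.symm ?_
  rw [E.jset_comm z x, jset_eq E hP hzx hy (pt_of_mem_blk E hP hy hz hzx)]
  exact emb_mem_closure E hP hy hs

end Cfsg.Lib.LThreeExt
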