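import Cfsg.Agent.Lib.LThreeExt.Aut
import Cfsg.Agent.Lib.ConstFix.Base

/-!
# Doubly transitive groups whose point stabilisers normalise a copy of `PSL(3, 2ⁿ)`
-/

set_option autoImplicit false
set_option linter.unusedSectionVars false
set_option linter.style.haveILetI false

namespace Cfsg.Lib.LThreeExt

open Matrix Projectivization Cfsg.Lib Cfsg.Lib.Linear Cfsg.Lib.Linear.TVec Cfsg.Lib.Linear.AutPSL
open scoped MatrixGroups LinearAlgebra.Projectivization

universe u w

/-- A copy of `PSL(3, F)` normal in each point stabiliser of a doubly transitive group of even degree. -/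
structure Ext (F : Type) [Field F] (G : Type u) [Group G] (Ω : Type w) [MulAction G Ω] where
  /-- The embeddings. -/
  emb : Ω → PSL3 F →* G
  inj : ∀ x, Function.Injective (emb x)
  fix : ∀ x k, emb x k • x = x
  conjugate : ∀ g x k, ∃ k', g * emb x k * g⁻¹ = emb (g • x) k'
  two : ∀ {p q r s : Ω}, p ≠ q → r ≠ s → ∃ g : G, g • p = r ∧ g • q = s
  even : Even (Nat.card Ω)
  /-- A point. -/
  base : Ω

variable {F : Type} [Field F] [Fintype F] [CharP F 2]
variable {G : Type u} [Group G] [Finite G] {Ω : Type w} [Finite Ω] [MulAction G Ω] [FaithfulSMul G Ω]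

namespace Ext

variable (E : Ext F G Ω)

include E in
theorem exists_ne (x : Ω) : ∃ y, y ≠ x := by
  by_contra h
  push Not at h
  have h1 : Nat.card Ω = 1 := Nat.card_eq_one_iff_unique.2 ⟨⟨fun a b => (h a).trans (h b).symm⟩, ⟨x⟩⟩
  have := E.even
  rw [h1] at this
  exact Nat.not_even_one this

include E in
theorem exists_smul (x y : Ω) : ∃ g : G, g • x = y := by
  obtain ⟨x', hx⟩ := E.exists_ne x
  obtain ⟨y', hy⟩ := E.exists_ne y
  obtain ⟨g, hg, -⟩ := E.two hx.symm hy.symm
  exact ⟨g, hg⟩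

/-- The transport of `PSL(3, F)` by `g`. -/
noncomputable def trf (g : G) (x : Ω) (k : PSL3 F) : PSL3 F := (E.conjugate g x k).choose

theorem trf_spec (g : G) (x : Ω) (k : PSL3 F) : E.emb (g • x) (E.trf g x k) = g * E.emb x k * g⁻¹ :=
  (E.conjugate g x k).choose_spec.symm

theorem trf_mul (g : G) (x : Ω) (k k' : PSL3 F) : E.trf g x (k * k') = E.trf g x k * E.trf g x k' :=
  E.inj (g • x) (by rw [map_mul, trf_spec, trf_spec, trf_spec, map_mul]; group)

theorem trf_injective (g : G) (x : Ω) : Function.Injective (E.trf g x) := fun k k' h => E.inj x (by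
  have e := congrArg (E.emb (g • x)) h
  rw [trf_spec, trf_spec] at e
  exact mul_left_cancel (mul_right_cancel e))

/-- The transport as an automorphism. -/
noncomputable def tr (g : G) (x : Ω) : Aut3 F :=
  MulEquiv.ofBijective (MonoidHom.mk' (E.trf g x) (E.trf_mul g x))
    ⟨E.trf_injective g x, Finite.injective_iff_surjective.1 (E.trf_injective g x)⟩

theorem tr_spec (g : G) (x : Ω) (k : PSL3 F) : E.emb (g • x) (E.tr g x k) = g * E.emb x k * g⁻¹ :=
  E.trf_spec g x k

theorem tr_spec' {g : G} {x y : Ω} (h : g • x = y) (k : PSL3 F) :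
    E.emb y (E.tr g x k) = g * E.emb x k * g⁻¹ := h ▸ E.tr_spec g x k

/-- The action of a point stabiliser on its copy of `PSL(3, F)`. -/
noncomputable def aut (x : Ω) : MulAction.stabilizer G x →* Aut3 F where
  toFun g := E.tr g.1 x
  map_one' := MulEquiv.ext fun k => E.inj x (by
    rw [E.tr_spec' (show ((1 : MulAction.stabilizer G x) : G) • x = x from one_smul G x), OneMemClass.coe_one,
      one_mul, inv_one, mul_one]
    rfl)
  map_mul' g h := MulEquiv.ext fun k => E.inj x (by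
    rw [E.tr_spec' (g * h).2, MulAut.mul_apply, E.tr_spec' g.2, E.tr_spec' h.2, Subgroup.coe_mul]
    group)

theorem aut_spec (x : Ω) (g : MulAction.stabilizer G x) (k : PSL3 F) :
    E.emb x (E.aut x g k) = g.1 * E.emb x k * g.1⁻¹ := E.tr_spec' g.2 k

theorem aut_emb (x : Ω) (k : PSL3 F) : E.aut x ⟨E.emb x k, E.fix x k⟩ = MulAut.conj k :=
  MulEquiv.ext fun l => E.inj x (by rw [aut_spec, MulAut.conj_apply, map_mul, map_mul, map_inv])

/-- The part fixing a second point. -/
def stb (x y : Ω) : Subgroup (PSL3 F) := (MulAction.stabilizer G y).comap (E.emb x)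

theorem mem_stb {x y : Ω} {k : PSL3 F} : k ∈ E.stb x y ↔ E.emb x k • y = y := Iff.rfl

theorem stb_transport {g : G} {x x' y y' : Ω} (hx : g • x = x') (hy : g • y = y') (k : PSL3 F) :
    E.tr g x k ∈ E.stb x' y' ↔ k ∈ E.stb x y := by
  rw [mem_stb, mem_stb, E.tr_spec' hx, ← hy, mul_smul, mul_smul, inv_smul_smul, smul_left_cancel_iff]

theorem stb_symm_mem {g : G} {x x' y y' : Ω} (hx : g • x = x') (hy : g • y = y') (k : PSL3 F)
    (hk : k ∈ E.stb x' y') : (E.tr g x).symm k ∈ E.stb x y := by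
  rw [← E.stb_transport hx hy, MulEquiv.apply_symm_apply]
  exact hk

theorem index_stb_eq {x x' y y' : Ω} (h : y ≠ x) (h' : y' ≠ x') : (E.stb x y).index = (E.stb x' y').index := by
  obtain ⟨g, hg, hg'⟩ := E.two h.symm h'.symm
  have e : E.stb x y = (E.stb x' y').comap (E.tr g x).toMonoidHom := by
    ext k
    exact (E.stb_transport hg hg' k).symm
  rw [e]
  exact Subgroup.index_comap_of_surjective (f := (E.tr g x).toMonoidHom) _ (E.tr g x).surjective

/-- The indices of the parts fixing a second point are odd. -/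
theorem odd_index {x y : Ω} (h : y ≠ x) : Odd (E.stb x y).index := by
  classical
  letI : MulAction (PSL3 F) {z : Ω // z ≠ x} :=
    { smul := fun k z => ⟨E.emb x k • z.1, fun e => z.2 (MulAction.injective (E.emb x k) (e.trans (E.fix x k).symm))⟩
      one_smul := fun z => Subtype.ext (show E.emb x 1 • z.1 = z.1 by rw [map_one, one_smul])
      mul_smul := fun a b z => Subtype.ext (show E.emb x (a * b) • z.1 = E.emb x a • E.emb x b • z.1 by
        rw [map_mul, mul_smul]) }
  have hst : ∀ z : {z : Ω // z ≠ x}, MulAction.stabilizer (PSL3 F) z = E.stb x z.1 := fun z => by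
    ext k
    exact Subtype.ext_iff
  have hcard := Nat.card_congr (MulAction.selfEquivSigmaOrbitsQuotientStabilizer (PSL3 F) {z : Ω // z ≠ x})
  letI := Fintype.ofFinite (MulAction.orbitRel.Quotient (PSL3 F) {z : Ω // z ≠ x})
  rw [Nat.card_sigma, Finset.sum_congr rfl (fun ω _ => show Nat.card _ = (E.stb x y).index by
    rw [← Subgroup.index_eq_card, hst]
    exact E.index_stb_eq (Quotient.out ω).2 h), Finset.sum_const, smul_eq_mul] at hcard
  have hc : Nat.card {z : Ω // z ≠ x} + 1 = Nat.card Ω := by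
    have e := Set.ncard_add_ncard_compl ({x} : Set Ω)
    rw [Set.ncard_singleton, ← Nat.card_coe_set_eq] at e
    rw [add_comm, ← e]
    rfl
  have hodd : Odd (Nat.card {z : Ω // z ≠ x}) := by
    have := E.even
    rw [← hc, Nat.even_add_one, Nat.not_even_iff_odd] at this
    exact this
  rw [hcard] at hodd
  exact Nat.Odd.of_mul_right hodd

theorem emb_eq_one_of_forall {x : Ω} {k : PSL3 F} (h : ∀ y : Ω, E.emb x k • y = y) : k = 1 :=
  E.inj x (by rw [map_one]; exact FaithfulSMul.eq_of_smul_eq_smul (α := Ω) fun y => by rw [h y, one_smul])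

theorem stb_ne_top {x y : Ω} (h : y ≠ x) : E.stb x y ≠ ⊤ := by
  intro e
  obtain ⟨k, hk, -, -⟩ := exists_invol_fix_move (F := F)
    (Projectivization.mk F (Pi.single 0 1) (Pi.single_ne_zero_iff.2 one_ne_zero))
    (Projectivization.mk F (Pi.single 0 (1 : F)) (Pi.single_ne_zero_iff.2 one_ne_zero))
  refine Invol.ne_one hk (E.emb_eq_one_of_forall (x := x) fun z => ?_)
  rcases eq_or_ne z x with rfl | hz
  · exact E.fix z k
  · have hi := E.index_stb_eq h hz
    rw [e, Subgroup.index_top, eq_comm, Subgroup.index_eq_one] at hi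
    exact E.mem_stb.1 (hi ▸ Subgroup.mem_top k)

/-- Change the copies of `PSL(3, F)` by automorphisms. -/
def twist (τ : Ω → Aut3 F) : Ext F G Ω where
  emb x := (E.emb x).comp (τ x).toMonoidHom
  inj x := (E.inj x).comp (τ x).injective
  fix x k := E.fix x _
  conjugate g x k := by
    obtain ⟨k', hk'⟩ := E.conjugate g x (τ x k)
    refine ⟨(τ (g • x)).symm k', ?_⟩
    show g * E.emb x (τ x k) * g⁻¹ = E.emb (g • x) (τ (g • x) ((τ (g • x)).symm k'))
    rw [MulEquiv.apply_symm_apply, hk']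
  two := E.two
  even := E.even
  base := E.base

end Ext

/-- The shape of a point stabiliser. -/
def PointS (X : Subgroup (PSL3 F)) : Prop :=
  ∃ (v : V3 F) (hv : v ≠ 0), (∀ k ∈ X, k • mk F v hv = mk F v hv) ∧
    ∀ s : SL3 F, s.1 *ᵥ v = v → (QuotientGroup.mk s : PSL3 F) ∈ X

/-- The shape of a flag stabiliser. -/
def FlagS (X : Subgroup (PSL3 F)) : Prop :=
  ∃ p l : Pt F, Inc p l ∧ (∀ k ∈ X, k • p = p ∧ ln k l = l) ∧
    ∀ k : PSL3 F, orderOf k = 2 → k • p = p → ln k l = l → k ∈ X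

theorem PointS.invol {X : Subgroup (PSL3 F)} (h : PointS X) :
    ∃ p : Pt F, (∀ k ∈ X, k • p = p) ∧ ∀ k, orderOf k = 2 → k • p = p → k ∈ X := by
  obtain ⟨v, hv, h1, h2⟩ := h
  refine ⟨mk F v hv, h1, fun k hk hp => ?_⟩
  obtain ⟨z, a, e, hz, ha, rfl⟩ := invol_eq_el hk
  rw [el_fix e hz ha, inc_mk] at hp
  refine h2 (tvS z a e) ?_
  show tvMat z a *ᵥ v = v
  rw [tvMat_mulVec, hp, zero_smul, add_zero]

theorem PointS.fixP {X : Subgroup (PSL3 F)} (h : PointS X) : FixP X := by
  obtain ⟨p, hp, -⟩ := h.invol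
  exact ⟨p, hp⟩

theorem PointS.not_fixL {X : Subgroup (PSL3 F)} (h : PointS X) : ¬ FixL X := by
  obtain ⟨p, -, hp⟩ := h.invol
  exact not_fixL_of_point hp

/-- **Shapes**: all parts are of flag shape, or after a twist all of point shape. -/
theorem Ext.cases (E : Ext F G Ω) :
    (∀ x y, y ≠ x → FlagS (E.stb x y)) ∨
      ∃ τ : Ω → Aut3 F, ∀ x y, y ≠ x → PointS ((E.twist τ).stb x y) := by
  classical
  by_cases hboth : ∃ x y, y ≠ x ∧ FixP (E.stb x y) ∧ FixL (E.stb x y)
  · left
    obtain ⟨x₀, y₀, h₀, hP₀, hL₀⟩ := hboth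
    intro x y h
    obtain ⟨g, hg, hg'⟩ := E.two h₀.symm h.symm
    have hsym := E.stb_symm_mem hg hg'
    have hPL : FixP (E.stb x y) ∧ FixL (E.stb x y) := by
      by_cases hgr : IsGr (E.tr g x₀)
      · exact ⟨gr_fixL hgr hsym hL₀, gr_fixP hgr hsym hP₀⟩
      · exact ⟨lin_fixP hgr hsym hP₀, lin_fixL hgr hsym hL₀⟩
    obtain ⟨⟨p, hp⟩, ⟨l, hl⟩⟩ := hPL
    exact sub_flag (E.odd_index h) hp hl
  right
  push Not at hboth
  have hpt : ∀ x y, y ≠ x → ¬ FixL (E.stb x y) → PointS (E.stb x y) := by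
    intro x y h hL
    simp only [FixL, not_exists, not_forall] at hL
    exact sub_point (E.odd_index h) (E.stb_ne_top h) fun l => by
      obtain ⟨k, hk, hk'⟩ := hL l
      exact ⟨k, hk, hk'⟩
  have hmix : ∀ x y y', y ≠ x → y' ≠ x → FixL (E.stb x y) → FixL (E.stb x y') := by
    intro x y₁ y₀ h₁ h₀ hL₁
    by_contra hL₀
    have hP₀ := (hpt x y₀ h₀ hL₀).fixP
    obtain ⟨g, hg, hg'⟩ := E.two h₀.symm h₁.symm
    have hgr : IsGr (E.tr g x) := by
      by_contra hgr
      exact hboth x y₁ h₁ (lin_fixP hgr (E.stb_symm_mem hg hg') hP₀) hL₁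
    let A : Set Ω := {y | y ≠ x ∧ FixL (E.stb x y)}
    let B : Set Ω := {y | y ≠ x ∧ ¬ FixL (E.stb x y)}
    have hne : ∀ y, y ≠ x → g • y ≠ x := fun y hy e => hy (MulAction.injective g (e.trans hg.symm))
    have hAB : ∀ y ∈ A, g • y ∈ B := fun y hy =>
      ⟨hne y hy.1, fun hL => hboth x _ (hne y hy.1) (gr_fixL hgr (E.stb_symm_mem hg rfl) hy.2) hL⟩
    have hBA : ∀ y ∈ B, g • y ∈ A := fun y hy =>
      ⟨hne y hy.1, gr_fixP hgr (E.stb_symm_mem hg rfl) (hpt x y hy.1 hy.2).fixP⟩
    have h1 := Set.ncard_le_ncard_of_injOn (g • ·) hAB (fun a _ b _ e => MulAction.injective g e) (Set.toFinite _)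
    have h2 := Set.ncard_le_ncard_of_injOn (g • ·) hBA (fun a _ b _ e => MulAction.injective g e) (Set.toFinite _)
    have hu : A ∪ B = ({x} : Set Ω)ᶜ := by
      ext y
      simp only [Set.mem_union, A, B, Set.mem_ofPred_eq, Set.mem_compl_iff, Set.mem_singleton_iff]
      tauto
    have hd : Disjoint A B := Set.disjoint_left.2 fun y hA hB => hB.2 hA.2
    have h3 := Set.ncard_union_eq hd (Set.toFinite _) (Set.toFinite _)
    rw [hu] at h3
    have h4 := Set.ncard_add_ncard_compl ({x} : Set Ω)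
    rw [Set.ncard_singleton, h3] at h4
    obtain ⟨c, hc⟩ := E.even
    omega
  let τ : Ω → Aut3 F := fun x => if ∀ y, y ≠ x → FixL (E.stb x y) then gr else 1
  refine ⟨τ, fun x y h => ?_⟩
  have hst : (E.twist τ).stb x y = (E.stb x y).comap (τ x).toMonoidHom := rfl
  rw [hst]
  by_cases hx : ∀ z, z ≠ x → FixL (E.stb x z)
  · rw [show τ x = gr from if_pos hx]
    obtain ⟨l, hl⟩ := hx y h
    have hsurj : Function.Surjective ((gr : Aut3 F).toMonoidHom) := (gr : Aut3 F).surjective
    refine sub_point (by rw [Subgroup.index_comap_of_surjective _ hsurj]; exact E.odd_index h)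
      (fun e => E.stb_ne_top h (Subgroup.comap_injective hsurj (e.trans (Subgroup.comap_top _).symm)))
      fun p => ?_
    by_contra hc
    push Not at hc
    refine hboth x y h ⟨p, fun k hk => ?_⟩ ⟨l, hl⟩
    have e : (gr : Aut3 F) ((gr : Aut3 F) k) = k := by
      rw [show (gr : Aut3 F) ((gr : Aut3 F) k) = (gr * gr : Aut3 F) k from rfl, gr_mul_gr]; rfl
    have h' := hc ((gr : Aut3 F) k) (show (gr : Aut3 F) ((gr : Aut3 F) k) ∈ E.stb x y by rw [e]; exact hk)
    rw [ln, e] at h'
    exact h'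
  · rw [show τ x = 1 from if_neg hx]
    push Not at hx
    obtain ⟨z, hz, hzL⟩ := hx
    exact hpt x y h fun hL => hzL (hmix x y z h hz hL)

end Cfsg.Lib.LThreeExt
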