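import Cfsg.Agent.Lib.LThreeExt.Shapes
import Cfsg.Agent.Lib.Linear.SLBasic

/-!
# The parts fixing a second point are not flag stabilisers
-/

set_option autoImplicit false
set_option linter.unusedSectionVars false
set_option linter.style.haveILetI false

namespace Cfsg.Lib.LThreeExt

open Matrix Projectivization Cfsg.Lib Cfsg.Lib.Linear Cfsg.Lib.Linear.TVec Cfsg.Lib.Linear.AutPSL
open Cfsg.Lib.Linear.Descent
open scoped MatrixGroups LinearAlgebra.Projectivization commutatorElement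

universe u w

variable {F : Type} [Field F] [Fintype F] [CharP F 2]
variable {G : Type u} [Group G] [Finite G] {Ω : Type w} [Finite Ω] [MulAction G Ω] [FaithfulSMul G Ω]

theorem card_psl_two_field (hq : Fintype.card F = 2) : Nat.card (PSL3 F) = 168 := by
  have h := Linear.card_SL_eq_gcd_mul_card_PSL (ι := Fin 3) (F := F)
  have h2 := Linear.card_SL_mul (F := F) 3 (by norm_num)
  have hg : Nat.gcd (Fintype.card (Fin 3)) (Fintype.card F - 1) = 1 := by rw [Fintype.card_fin, hq]; rfl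
  rw [hg, one_mul] at h
  rw [h] at h2
  simp [Fin.prod_univ_three, hq] at h2
  convert h2 using 1

namespace Ext

variable {E : Ext F G Ω}

/-- Counting the pairs of an involution and a fixed point. -/
theorem count_fixed {j₀ : G} (hj₀ : j₀ ∈ E.dset) (x₀ : Ω) :
    E.dset.ncard * (E.fixset j₀).ncard = Nat.card Ω * {j | j ∈ E.dset ∧ j • x₀ = x₀}.ncard := by
  classical
  have hx : ∀ x : Ω, Nat.card {j : G // j ∈ E.dset ∧ j • x = x} = {j | j ∈ E.dset ∧ j • x₀ = x₀}.ncard := by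
    intro x
    obtain ⟨g, hg⟩ := E.exists_smul x x₀
    rw [← Nat.card_coe_set_eq]
    refine Nat.card_congr
      { toFun := fun j => ⟨g * j.1 * g⁻¹, dset_conj j.2.1 g, by
          rw [← hg, mul_smul, inv_smul_smul, mul_smul, j.2.2]⟩
        invFun := fun j => ⟨g⁻¹ * j.1 * g⁻¹⁻¹, dset_conj j.2.1 g⁻¹, by
          rw [inv_inv, mul_smul, mul_smul, hg, j.2.2, ← hg, inv_smul_smul]⟩
        left_inv := fun j => Subtype.ext (by group)
        right_inv := fun j => Subtype.ext (by group) }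
  have e : (Σ j : E.dset, E.fixset j.1) ≃ Σ x : Ω, {j : G // j ∈ E.dset ∧ j • x = x} :=
    { toFun := fun s => ⟨s.2.1, s.1.1, s.1.2, s.2.2⟩
      invFun := fun s => ⟨⟨s.2.1, s.2.2.1⟩, s.1, s.2.2.2⟩
      left_inv := fun s => rfl
      right_inv := fun s => rfl }
  letI := Fintype.ofFinite E.dset
  letI := Fintype.ofFinite Ω
  have h := Nat.card_congr e
  rw [Nat.card_sigma, Nat.card_sigma, Finset.sum_congr rfl (fun j _ => (Nat.card_coe_set_eq _).trans
    (fixcard_eq j.2 hj₀)), Finset.sum_congr rfl (fun x _ => hx x), Finset.sum_const, Finset.sum_const, Finset.card_univ,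
    Finset.card_univ, smul_eq_mul, smul_eq_mul, ← Nat.card_eq_fintype_card, ← Nat.card_eq_fintype_card,
    Nat.card_coe_set_eq] at h
  exact h

theorem emb_mem_dset {x : Ω} {k : PSL3 F} (hk : orderOf k = 2) : E.emb x k ∈ E.dset := ⟨x, k, hk, rfl⟩

theorem aut_mul_self {x : Ω} {j : G} (hj : j ∈ E.dset) (hx : j • x = x) :
    E.aut x ⟨j, hx⟩ * E.aut x ⟨j, hx⟩ = 1 := by
  rw [← map_mul, ← map_one (E.aut x)]
  exact congrArg _ (Subtype.ext (Invol.inv_mul_self (orderOf_dset hj)))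

end Ext

theorem cg_eq_of_mem {z a v : V3 F} (h : a ⬝ᵥ z = 0) (hz : z ≠ 0) (ha : a ≠ 0) (hv : v ≠ 0)
    (hm : el z a h ∈ cg v) : cg v = cg z := by
  obtain ⟨b, hb, e⟩ := hm
  have hb0 : b ≠ 0 := fun e0 => ((el_eq_one_iff h).1 (e.trans ((el_eq_one_iff hb).2 (Or.inr e0)))).elim hz ha
  obtain ⟨e1, -⟩ := el_data h hb hz ha hv hb0 e
  ext k
  constructor <;> rintro ⟨c, hc, rfl⟩
  · exact el_mem_cg_of_mk hc hv hz e1.symm
  · exact el_mem_cg_of_mk hc hz hv e1

theorem ag_eq_of_mem {z a v : V3 F} (h : a ⬝ᵥ z = 0) (hz : z ≠ 0) (ha : a ≠ 0) (hv : v ≠ 0)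
    (hm : el z a h ∈ ag v) : ag v = ag a := by
  obtain ⟨b, hb, e⟩ := hm
  have hb0 : b ≠ 0 := fun e0 => ((el_eq_one_iff h).1 (e.trans ((el_eq_one_iff hb).2 (Or.inl e0)))).elim hz ha
  obtain ⟨-, e2⟩ := el_data h hb hz ha hb0 hv e
  ext k
  constructor <;> rintro ⟨c, hc, rfl⟩
  · exact el_mem_ag_of_mk hc hv ha e2.symm
  · exact el_mem_ag_of_mk hc ha hv e2

theorem cg_ne_ag {z a : V3 F} (h : a ⬝ᵥ z = 0) (hz : z ≠ 0) (ha : a ≠ 0) : cg z ≠ ag a := by
  intro e
  obtain ⟨l, hl, hla⟩ := Set.exists_ne_of_one_lt_ncard (s := {l : Pt F | Inc (mk F z hz) l})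
    (by rw [card_lines_through]; have := Fintype.one_lt_card (α := F); omega) (mk F a ha)
  have h' : l.rep ⬝ᵥ z = 0 := (inc_mk hz l.rep_nonzero).1 (by rw [mk_rep]; exact hl)
  obtain ⟨w, hw, e'⟩ := (e ▸ el_mem_cg h' : el z l.rep h' ∈ ag a)
  rcases eq_or_ne w 0 with rfl | hw0
  · exact ((el_eq_one_iff h').1 (e'.trans ((el_eq_one_iff hw).2 (Or.inl rfl)))).elim hz l.rep_nonzero
  · obtain ⟨-, e2⟩ := el_data h' hw hz l.rep_nonzero hw0 ha e'
    rw [mk_rep] at e2
    exact hla e2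

/-- The flags fixed by a centre group. -/
theorem flags_cg {z : V3 F} (hz : z ≠ 0) :
    {x : Flag F | ∀ k ∈ cg z, k • x = x}.ncard = Fintype.card F + 1 := by
  rw [← card_lines_through (mk F z hz)]
  refine Set.ncard_congr (fun x _ => x.1.2) ?_ ?_ ?_
  all_goals
    have key : ∀ x : Flag F, (∀ k ∈ cg z, k • x = x) ↔ x.1.1 = mk F z hz := by
      intro x
      constructor
      · intro hx
        by_contra hne
        obtain ⟨b, hb, hbz⟩ := exists_line_ne hne
        obtain ⟨c, hc, hcb⟩ := Set.exists_ne_of_one_lt_ncard (s := {c : Pt F | Inc (mk F z hz) c})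
          (by rw [card_lines_through]; have := Fintype.one_lt_card (α := F); omega) b
        have h' : c.rep ⬝ᵥ z = 0 := (inc_mk hz c.rep_nonzero).1 (by rw [mk_rep]; exact hc)
        have e := (flag_smul_eq.1 (hx _ (el_mem_cg h'))).1
        rw [el_fix h' hz c.rep_nonzero, mk_rep] at e
        exact hcb (line_unique hne e hc hb hbz)
      · intro hx k hk
        obtain ⟨a, h, rfl⟩ := hk
        rcases eq_or_ne a 0 with rfl | ha
        · rw [(el_eq_one_iff h).2 (Or.inr rfl), one_smul]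
        · exact flag_smul_eq.2 ⟨(el_fix h hz ha _).2 (hx ▸ (inc_mk hz ha).2 h),
            (el_fix_ln h hz ha _).2 (hx ▸ x.2)⟩
  · intro x hx
    exact ((key x).1 hx) ▸ x.2
  · intro x y hx hy e
    exact Subtype.ext (Prod.ext (((key x).1 hx).trans ((key y).1 hy).symm) e)
  · intro l hl
    exact ⟨⟨(mk F z hz, l), hl⟩, (key _).2 rfl, rfl⟩

/-- The flags fixed by an axis group. -/
theorem flags_ag {a : V3 F} (ha : a ≠ 0) :
    {x : Flag F | ∀ k ∈ ag a, k • x = x}.ncard = Fintype.card F + 1 := by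
  rw [← card_points_on (mk F a ha)]
  refine Set.ncard_congr (fun x _ => x.1.1) ?_ ?_ ?_
  all_goals
    have key : ∀ x : Flag F, (∀ k ∈ ag a, k • x = x) ↔ x.1.2 = mk F a ha := by
      intro x
      constructor
      · intro hx
        by_contra hne
        obtain ⟨b, hb, hba⟩ := exists_point_ne hne
        obtain ⟨c, hc, hcb⟩ := Set.exists_ne_of_one_lt_ncard (s := {c : Pt F | Inc c (mk F a ha)})
          (by rw [card_points_on]; have := Fintype.one_lt_card (α := F); omega) b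
        have h' : a ⬝ᵥ c.rep = 0 := (inc_right c ha).1 hc
        have e := (flag_smul_eq.1 (hx _ (el_mem_ag h'))).2
        rw [el_fix_ln h' c.rep_nonzero ha, mk_rep] at e
        exact hcb (point_unique hne e hc hb hba)
      · intro hx k hk
        obtain ⟨z, h, rfl⟩ := hk
        rcases eq_or_ne z 0 with rfl | hz
        · rw [(el_eq_one_iff h).2 (Or.inl rfl), one_smul]
        · exact flag_smul_eq.2 ⟨(el_fix h hz ha _).2 (hx ▸ x.2),
            (el_fix_ln h hz ha _).2 (hx ▸ (inc_mk hz ha).2 h)⟩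
  · intro x hx
    exact ((key x).1 hx) ▸ x.2
  · intro x y hx hy e
    exact Subtype.ext (Prod.ext e (((key x).1 hx).trans ((key y).1 hy).symm))
  · intro p hp
    exact ⟨⟨(p, mk F a ha), hp⟩, (key _).2 rfl, rfl⟩

section Two

variable (E : Ext F G Ω) (hF : ∀ x y, y ≠ x → FlagS (E.stb x y)) (hq : Fintype.card F = 2)
include hF hq

theorem field_aut_trivial (σ : F ≃+* F) : σ = 1 := by
  haveI : Fact (Nat.Prime 2) := ⟨Nat.prime_two⟩
  have h : Fintype.card F = 2 ^ 1 := by rw [hq, pow_one]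
  exact orderOf_eq_one_iff.1 (Nat.eq_one_of_dvd_one (orderOf_dvd_exp le_rfl h σ))

/-- Over `GF(2)` an involution outside the copy induces a graph automorphism. -/
theorem two_outer {x : Ω} {j : G} (hj : j ∈ E.dset) (hx : j • x = x) (hy : x ∉ E.yset j) :
    IsGr (E.aut x ⟨j, hx⟩) := by
  refine (lin_or_gr (E.aut x ⟨j, hx⟩)).resolve_left fun ⟨g, σ, e⟩ => hy ?_
  obtain rfl := field_aut_trivial E hF hq σ
  rw [map_one, mul_one] at e
  obtain ⟨n, hn⟩ := innd_inner_of_sq (g := g) (by rw [← e]; exact Ext.aut_mul_self hj hx)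
  refine (flagGeo E hF).mem_of_inner (flag_hnd E hF) hj hx n fun k => ?_
  have h := E.aut_spec x ⟨j, hx⟩ k
  rw [e, hn, MulAut.conj_apply] at h
  exact h.symm

/-- The outer involutions fixing a point fall into orbits of size divisible by four. -/
theorem two_dvd_outer (x : Ω) : 4 ∣ {j | j ∈ E.dset ∧ j • x = x ∧ x ∉ E.yset j}.ncard := by
  classical
  haveI : Fact (Nat.Prime 2) := ⟨Nat.prime_two⟩
  let O := {j : G // j ∈ E.dset ∧ j • x = x ∧ x ∉ E.yset j}
  letI : MulAction (PSL3 F) O :=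
    { smul := fun k j => ⟨E.emb x k * j.1 * (E.emb x k)⁻¹, Ext.dset_conj j.2.1 _, by
        rw [mul_smul, mul_smul, inv_smul_eq_iff.2 (E.fix x k).symm, j.2.2.1, E.fix], fun h => j.2.2.2 (by
        have h' := Ext.smul_mem_yset (g := (E.emb x k)⁻¹) h
        rw [inv_smul_eq_iff.2 (E.fix x k).symm,
          show (E.emb x k)⁻¹ * (E.emb x k * j.1 * (E.emb x k)⁻¹) * (E.emb x k)⁻¹⁻¹ = j.1 by group] at h'
        exact h')⟩
      one_smul := fun j => Subtype.ext (show E.emb x 1 * j.1 * (E.emb x 1)⁻¹ = j.1 by simp)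
      mul_smul := fun a b j => Subtype.ext (show E.emb x (a * b) * j.1 * (E.emb x (a * b))⁻¹ =
        E.emb x a * (E.emb x b * j.1 * (E.emb x b)⁻¹) * (E.emb x a)⁻¹ by rw [map_mul]; group) }
  have hidx : ∀ j : O, 4 ∣ (MulAction.stabilizer (PSL3 F) j).index := by
    intro j
    set β := E.aut x ⟨j.1, j.2.2.1⟩ with hβ
    set C := MulAction.stabilizer (PSL3 F) j with hC
    have hfix : ∀ k ∈ C, β k = k := by
      intro k hk
      have h : E.emb x k * j.1 * (E.emb x k)⁻¹ = j.1 := congrArg Subtype.val hk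
      rw [mul_inv_eq_iff_eq_mul] at h
      refine E.inj x ?_
      rw [hβ, E.aut_spec, ← h, mul_inv_cancel_right]
    have hgr : IsGr β := two_outer E hF hq j.2.1 j.2.2.1 j.2.2.2
    have hC4 : ¬ 4 ∣ Nat.card C := by
      intro h4
      obtain ⟨P, hP⟩ := Sylow.exists_subgroup_card_pow_prime (G := C) 2 (n := 2) h4
      by_cases hexp : ∀ u ∈ P, u * u = 1
      · let P' := P.map C.subtype
        have hP' : Nat.card P' = 4 := by rw [Subgroup.card_map_of_injective C.subtype_injective, hP]; rfl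
        obtain ⟨g, σ, e⟩ := hgr
        have hb := grl_bound (g := g) (σ := σ) (I := P') (by
          rintro _ ⟨u, hu, rfl⟩
          rw [← map_mul, hexp u hu, map_one]) (by
          rintro _ ⟨u, hu, rfl⟩
          rw [← e]
          exact hfix _ u.2)
        rw [hP', field_aut_trivial E hF hq σ, fixCard_one, hq] at hb
        omega
      · push Not at hexp
        obtain ⟨u, hu, hne⟩ := hexp
        refine hne ?_
        have h4u : u ^ 4 = 1 := by
          have h := pow_card_eq_one' (G := P) (x := ⟨u, hu⟩)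
          rw [hP] at h
          exact congrArg Subtype.val h
        have h2 := grl_no_four hq hgr (Ext.aut_mul_self j.2.1 j.2.2.1) (hfix _ u.2)
          (by rw [← SubmonoidClass.coe_pow, h4u, OneMemClass.coe_one])
        rw [← pow_two]
        exact Subtype.ext h2
    have h := C.card_mul_index
    rw [card_psl_two_field hq] at h
    have h8 : 8 ∣ Nat.card C * C.index := by rw [h]; norm_num
    obtain ⟨c, hc⟩ | hodd := em (2 ∣ Nat.card C)
    · have hco : ¬ 2 ∣ c := fun ⟨d, hd⟩ => hC4 ⟨d, by rw [hc, hd]; ring⟩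
      rw [hc, mul_assoc, show 8 = 2 * 4 from rfl, Nat.mul_dvd_mul_iff_left (by norm_num)] at h8
      exact (((Nat.prime_two.coprime_iff_not_dvd).2 hco).pow_left 2).dvd_of_dvd_mul_left h8
    · exact dvd_trans (by norm_num) ((((Nat.prime_two.coprime_iff_not_dvd).2 hodd).pow_left 3).dvd_of_dvd_mul_left h8)
  have hcard := Nat.card_congr (MulAction.selfEquivSigmaOrbitsQuotientStabilizer (PSL3 F) O)
  letI := Fintype.ofFinite (MulAction.orbitRel.Quotient (PSL3 F) O)
  rw [Nat.card_sigma] at hcard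
  rw [← Nat.card_coe_set_eq]
  refine (show Nat.card O = _ from hcard) ▸ Finset.dvd_sum fun ω _ => ?_
  rw [← Subgroup.index_eq_card]
  exact hidx _

/-- The numbers over `GF(2)`. -/
theorem two_numbers : ∃ j ∈ E.dset, (E.yset j).ncard = (E.fixset j).ncard ∧ (flagGeo E hF).tee = 3 := by
  classical
  set x := E.base
  let e₀ : V3 F := Pi.single 0 1
  let e₁ : V3 F := Pi.single 1 1
  let e₂ : V3 F := Pi.single 2 1
  have hne : ∀ i : Fin 3, (Pi.single i 1 : V3 F) ≠ 0 := fun i => Pi.single_ne_zero_iff.2 one_ne_zero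
  have h01 : e₁ ⬝ᵥ e₀ = 0 := by simp [e₀, e₁]
  have h12 : e₂ ⬝ᵥ e₁ = 0 := by simp [e₁, e₂]
  have h02 : e₂ ⬝ᵥ e₀ = 0 := by simp [e₀, e₂]
  set u := el e₀ e₁ h01
  set w := el e₁ e₂ h12
  set k := el e₀ e₂ h02
  have hku : (u * w) * (u * w) = k := by
    have e : tvS e₀ e₂ h02 = ⁅tvS e₀ e₁ h01, tvS e₁ e₂ h12⁆ := by
      rw [tvS_single (show (0 : Fin 3) ≠ 2 by decide), tvS_single (show (0 : Fin 3) ≠ 1 by decide),
        tvS_single (show (1 : Fin 3) ≠ 2 by decide)]
      exact Linear.transvection_eq_commutator _ _ _ _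
    have e' := congrArg (QuotientGroup.mk' (Subgroup.center (SL3 F))) e
    rw [map_commutatorElement, commutatorElement_def] at e'
    change k = u * w * u⁻¹ * w⁻¹ at e'
    rw [e', inv_eq_of_mul_eq_one_right (el_mul_self h01), inv_eq_of_mul_eq_one_right (el_mul_self h12)]
    simp only [mul_assoc]
    rfl
  set l₀' : Flag F := ⟨(p₀, l₀), (inc_mk _ _).2 h02⟩
  have hk2 : orderOf k = 2 := orderOf_el h02 (hne 0) (hne 2)
  have hj : E.emb x k ∈ E.dset := Ext.emb_mem_dset hk2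
  refine ⟨E.emb x k, hj, ?_⟩
  have hu : u • l₀' = l₀' := flag_smul_eq.2 ⟨(el_fix h01 (hne 0) (hne 1) _).2 ((inc_mk _ _).2 h01),
    (el_fix_ln h01 (hne 0) (hne 1) _).2 ((inc_mk _ _).2 h02)⟩
  have hw : w • l₀' = l₀' := flag_smul_eq.2 ⟨(el_fix h12 (hne 1) (hne 2) _).2 ((inc_mk _ _).2 h02),
    (el_fix_ln h12 (hne 1) (hne 2) _).2 ((inc_mk _ _).2 h12)⟩
  have hsub : insert x ((flagGeo E hF).fib x l₀') ⊆ E.yset (E.emb x k) := by
    rintro y (rfl | ⟨hy, hl⟩)
    · exact ⟨k, rfl⟩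
    have hyu : E.emb x u • y = y :=
      (flagGeo E hF).mem x y hy u (orderOf_el h01 (hne 0) (hne 1)) (by rw [hl]; exact hu)
    have hyw : E.emb x w • y = y :=
      (flagGeo E hF).mem x y hy w (orderOf_el h12 (hne 1) (hne 2)) (by rw [hl]; exact hw)
    have hb : (E.emb x (u * w)) • y = y := by rw [map_mul, mul_smul, hyw, hyu]
    have hjy : E.emb x k • y = y := by rw [← hku, map_mul, mul_smul, hb, hb]
    have hsq : E.aut y ⟨E.emb x k, hjy⟩ = E.aut y ⟨E.emb x (u * w), hb⟩ * E.aut y ⟨E.emb x (u * w), hb⟩ := by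
      rw [← map_mul]
      exact congrArg _ (Subtype.ext (show E.emb x k = _ * _ by rw [← map_mul, hku]))
    by_contra hny
    obtain ⟨g', σ', hg'⟩ := two_outer E hF hq hj hjy hny
    rw [hsq] at hg'
    obtain ⟨g, σ, e⟩ | ⟨g, σ, e⟩ := lin_or_gr (E.aut y ⟨E.emb x (u * w), hb⟩)
    · rw [e, lin_sq] at hg'
      exact ne_mul_gr (n := 3) le_rfl _ _ _ _ hg'
    · rw [e, grl_sq] at hg'
      exact ne_mul_gr (n := 3) le_rfl _ _ _ _ hg'
  have hm1 : 1 + (flagGeo E hF).tee ≤ (E.yset (E.emb x k)).ncard := by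
    refine le_trans (le_of_eq ?_) (Set.ncard_le_ncard hsub (Set.toFinite _))
    rw [Set.ncard_insert_of_notMem (fun h => h.1 rfl) (Set.toFinite _), (flagGeo E hF).card_fib, add_comm]
  have hmf : (E.yset (E.emb x k)).ncard ≤ (E.fixset (E.emb x k)).ncard :=
    Set.ncard_le_ncard Ext.yset_subset (Set.toFinite _)
  have hf := (flagGeo E hF).fix_card hj
  obtain ⟨μ, hμ⟩ := (flagGeo E hF).kappa hj
  have h1 := Ext.count_copies hj
  have h2 := Ext.count_fixed hj x
  have hk := two_dvd_outer E hF hq x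
  have hi : iTwo F = 21 := by rw [iTwo_eq, hq]; norm_num
  rw [flagGeo_phi, card_flag, card_pt, hq, hi] at hμ
  rw [flagGeo_phi, hq] at hf
  norm_num at hμ hf
  rw [hi] at h1
  set m := (E.yset (E.emb x k)).ncard
  set f := (E.fixset (E.emb x k)).ncard
  set T := (flagGeo E hF).tee with hT
  set A := {j | j ∈ E.dset ∧ j • x = x}.ncard with hA
  have hsplit : A = 21 + {j | j ∈ E.dset ∧ j • x = x ∧ x ∉ E.yset j}.ncard := by
    have hinner : {j | j ∈ E.dset ∧ x ∈ E.yset j}.ncard = 21 := by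
      rw [← hi, iTwo, ← Nat.card_coe_set_eq]
      refine (Nat.card_congr (Equiv.ofBijective (fun l : {l : PSL3 F // orderOf l = 2} =>
        (⟨E.emb x l.1, Ext.emb_mem_dset l.2, l.1, rfl⟩ : {j | j ∈ E.dset ∧ x ∈ E.yset j})) ⟨?_, ?_⟩)).symm
      · exact fun a b h => Subtype.ext (E.inj x (congrArg Subtype.val h))
      · rintro ⟨_, hd, l, rfl⟩
        exact ⟨⟨l, by rw [← Ext.emb_orderOf (E := E) (x := x), Ext.orderOf_dset hd]⟩, rfl⟩
    rw [hA, ← hinner, ← Set.ncard_union_eq (Set.disjoint_left.2 fun j h h' => h'.2.2 h.2) (Set.toFinite _)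
      (Set.toFinite _)]
    congr 1
    ext j
    constructor
    · rintro ⟨hd, hjx⟩
      by_cases hy : x ∈ E.yset j
      · exact Or.inl ⟨hd, hy⟩
      · exact Or.inr ⟨hd, hjx, hy⟩
    · rintro (⟨hd, hy⟩ | ⟨hd, hjx, -⟩)
      · exact ⟨hd, Ext.yset_subset hy⟩
      · exact ⟨hd, hjx⟩
  obtain ⟨c, hc⟩ := hk
  rw [hc] at hsplit
  have hv : 0 < Nat.card Ω := lt_trans Nat.zero_lt_one (Ext.one_lt_card E)
  have hkm : 21 * f = A * m := by
    refine Nat.eq_of_mul_eq_mul_left hv ?_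
    calc Nat.card Ω * (21 * f) = (Nat.card Ω * 21) * f := by ring
      _ = E.dset.ncard * m * f := by rw [h1]
      _ = E.dset.ncard * f * m := by ring
      _ = _ := by rw [h2]; ring
  have hm16 : m ∣ 16 := ⟨μ, Nat.eq_of_mul_eq_mul_right (show 0 < 21 by norm_num) (by linarith)⟩
  obtain ⟨i, hi4, hmi⟩ := (Nat.dvd_prime_pow (m := 4) Nat.prime_two).1 hm16
  obtain ⟨t, ht⟩ := (flagGeo E hF).tee_odd
  rw [← hT] at ht
  interval_cases i <;> norm_num [hmi] at hkm hm1 hmf ⊢ <;> omega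

end Two

section Flag

variable (E : Ext F G Ω) (hF : ∀ x y, y ≠ x → FlagS (E.stb x y))
include hF

/-- Consistency for flags. -/
theorem flag_consistent {j : G} (hj : j ∈ E.dset) {x : Ω} (hx : j • x = x) : x ∈ E.yset j := by
  by_cases hq : Fintype.card F = 2
  · obtain ⟨j₀, hj₀, he, -⟩ := two_numbers E hF hq
    rw [Ext.ycard_eq hj₀ hj, Ext.fixcard_eq hj₀ hj] at he
    have h := Set.eq_of_subset_of_ncard_le (Ext.yset_subset (E := E) (j := j)) he.ge (Set.toFinite _)
    rw [h]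
    exact hx
  · exact (flagGeo E hF).consistent (flag_hnd E hF) flag_grp (fun h => absurd h hq) hj hx

/-- **Flags do not occur**. -/
theorem flag_false : False := by
  classical
  obtain ⟨k₀, hk₀⟩ := exists_invol (F := F)
  set j := E.emb E.base k₀ with hjdef
  have hj : j ∈ E.dset := Ext.emb_mem_dset hk₀
  set q := Fintype.card F with hq
  have hq2 : 2 ≤ q := Fintype.one_lt_card
  set T := (flagGeo E hF).tee with hT
  let QS := {Q : Subgroup G // j ∈ Q ∧ Nat.card Q = q ^ 2 ∧ (∀ u ∈ Q, u * u = 1) ∧ ∃ x, Q ≤ (E.emb x).range}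
  let I := {p : QS × E.fixset j // p.1.1 ≤ (E.emb p.2.1).range}
  have hQ2 : ∀ x : E.fixset j, Nat.card {Q : QS // Q.1 ≤ (E.emb x.1).range} = 2 := by
    rintro ⟨x, hx⟩
    obtain ⟨k, hk⟩ := flag_consistent E hF hj hx
    have hk2 : orderOf k = 2 := by rw [← Ext.emb_orderOf (E := E) (x := x), hk, Ext.orderOf_dset hj]
    obtain ⟨z, a, h, hz, ha, rfl⟩ := invol_eq_el hk2
    have mk' : ∀ K : Subgroup (PSL3 F), el z a h ∈ K → Nat.card K = q ^ 2 → (∀ u ∈ K, u * u = 1) →
        j ∈ K.map (E.emb x) ∧ Nat.card (K.map (E.emb x)) = q ^ 2 ∧ (∀ u ∈ K.map (E.emb x), u * u = 1) ∧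
          ∃ y, K.map (E.emb x) ≤ (E.emb y).range := fun K h1 h2 h3 =>
      ⟨⟨_, h1, hk⟩, by rw [Subgroup.card_map_of_injective (E.inj x), h2],
        by rintro _ ⟨u, hu, rfl⟩; rw [← map_mul, h3 u hu, map_one], x, Subgroup.map_le_range _ _⟩
    rw [Nat.card_eq_two_iff]
    refine ⟨⟨⟨(cg z).map (E.emb x), mk' _ (el_mem_cg h) (card_cg hz) fun u => cg_mul_self⟩,
      Subgroup.map_le_range _ _⟩, ⟨⟨(ag a).map (E.emb x), mk' _ (el_mem_ag h) (card_ag ha) fun u => ag_mul_self⟩,
      Subgroup.map_le_range _ _⟩, fun e => cg_ne_ag h hz ha (Subgroup.map_injective (E.inj x)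
        (congrArg (fun Q : {Q : QS // Q.1 ≤ (E.emb x).range} => Q.1.1) e)), ?_⟩
    refine Set.eq_univ_of_forall fun ⟨⟨Q, hjQ, hQc, hQe, hQx⟩, hQr⟩ => ?_
    change Q ≤ (E.emb x).range at hQr
    set K := Q.comap (E.emb x)
    have hKQ : K.map (E.emb x) = Q := Subgroup.map_comap_eq_self hQr
    have hKc : Nat.card K = q ^ 2 := (Subgroup.card_map_of_injective (K := K) (E.inj x)).symm.trans (by rw [hKQ, hQc])
    have hKm : el z a h ∈ K := show E.emb x _ ∈ Q by rw [hk]; exact hjQ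
    obtain ⟨v, hv, hle | hle⟩ := exists_cg_or_ag K fun u hu => E.inj x (by rw [map_mul, map_one]; exact hQe _ hu)
    · left
      have he : K = cg v := Subgroup.eq_of_le_of_card_ge hle (by rw [card_cg hv, hKc])
      refine Subtype.ext (Subtype.ext ?_)
      show Q = (cg z).map (E.emb x)
      rw [← hKQ, he, cg_eq_of_mem h hz ha hv (hle hKm)]
    · right
      have he : K = ag v := Subgroup.eq_of_le_of_card_ge hle (by rw [card_ag hv, hKc])
      refine Subtype.ext (Subtype.ext ?_)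
      show Q = (ag a).map (E.emb x)
      rw [← hKQ, he, ag_eq_of_mem h hz ha hv (hle hKm)]
  have hP : ∀ Q : QS, Nat.card {x : E.fixset j // Q.1 ≤ (E.emb x.1).range} = 1 + T * (q + 1) := by
    rintro ⟨Q, hjQ, hQc, hQe, x, hQr⟩
    set K := Q.comap (E.emb x)
    have hKQ : K.map (E.emb x) = Q := Subgroup.map_comap_eq_self hQr
    have hKc : Nat.card K = q ^ 2 := (Subgroup.card_map_of_injective (K := K) (E.inj x)).symm.trans (by rw [hKQ, hQc])
    have hKe : ∀ k ∈ K, k * k = 1 := fun u hu => E.inj x (by rw [map_mul, map_one]; exact hQe _ hu)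
    have hfl : {l : Flag F | ∀ k ∈ K, k • l = l}.ncard = q + 1 := by
      obtain ⟨v, hv, hle | hle⟩ := exists_cg_or_ag K hKe
      · rw [Subgroup.eq_of_le_of_card_ge hle (by rw [card_cg hv, hKc]), flags_cg hv]
      · rw [Subgroup.eq_of_le_of_card_ge hle (by rw [card_ag hv, hKc]), flags_ag hv]
    have hiff : ∀ y : Ω, (y ∈ E.fixset j ∧ Q ≤ (E.emb y).range) ↔ ∀ k ∈ K, E.emb x k • y = y := by
      intro y
      constructor
      · rintro ⟨-, hy⟩ k hk
        obtain ⟨l, hl⟩ := hy hk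
        rw [← hl, E.fix]
      · intro hy
        have hfix : ∀ g ∈ Q, g • y = y := fun g hg => by
          obtain ⟨k, hk, rfl⟩ := hKQ.ge hg
          exact hy k hk
        refine ⟨hfix j hjQ, fun g hg => ?_⟩
        obtain ⟨k, hk, rfl⟩ := hKQ.ge hg
        rcases eq_or_ne k 1 with rfl | h1
        · rw [map_one]; exact one_mem _
        · obtain ⟨l, hl⟩ := flag_consistent E hF (Ext.emb_mem_dset (Invol.orderOf_eq_two_of h1 (hKe k hk)))
            (hfix _ hg)
          exact ⟨l, hl⟩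
    let P := {l : Flag F // ∀ k ∈ K, k • l = l}
    letI := Fintype.ofFinite P
    have e : {y : Ω // (∀ k ∈ K, E.emb x k • y = y) ∧ y ≠ x} ≃ Σ l : P, (flagGeo E hF).fib x l.1 := by
      refine Equiv.ofBijective (fun y => ⟨⟨(flagGeo E hF).pt x y.1, fun k hk =>
        (flagGeo E hF).pt_fix x y.1 y.2.2 k (y.2.1 k hk)⟩, y.1, y.2.2, rfl⟩) ⟨?_, ?_⟩
      · intro y z h
        exact Subtype.ext (congrArg (fun s : Σ l : P, (flagGeo E hF).fib x l.1 => (s.2 : Ω)) h)
      · rintro ⟨⟨l, hl⟩, y, hy, hyl⟩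
        change (flagGeo E hF).pt x y = l at hyl
        subst hyl
        refine ⟨⟨y, fun k hk => ?_, hy⟩, rfl⟩
        rcases eq_or_ne k 1 with rfl | h1
        · rw [map_one, one_smul]
        · exact (flagGeo E hF).mem x y hy k (Invol.orderOf_eq_two_of h1 (hKe k hk)) (hl k hk)
    have hc := Nat.card_congr e
    rw [Nat.card_sigma, Finset.sum_congr rfl (fun l _ => (Nat.card_coe_set_eq _).trans
      ((flagGeo E hF).card_fib x l.1)), Finset.sum_const, Finset.card_univ, smul_eq_mul, ← Nat.card_eq_fintype_card,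
      show Nat.card P = q + 1 from (Nat.card_coe_set_eq _).trans hfl] at hc
    have hx : x ∈ {y : Ω | ∀ k ∈ K, E.emb x k • y = y} := fun k _ => E.fix x k
    calc Nat.card {y : E.fixset j // Q ≤ (E.emb y.1).range}
        = {y : Ω | ∀ k ∈ K, E.emb x k • y = y}.ncard := by
          rw [← Nat.card_coe_set_eq]
          exact Nat.card_congr ((Equiv.subtypeSubtypeEquivSubtypeInter _ _).trans (Equiv.subtypeEquivRight hiff))
      _ = 1 + T * (q + 1) := by
          rw [← Set.ncard_sdiff_singleton_add_one hx (Set.toFinite _), ← Nat.card_coe_set_eq, add_comm,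
            mul_comm T, ← hc]
          rfl
  letI := Fintype.ofFinite (E.fixset j)
  letI := Fintype.ofFinite QS
  have e1 : I ≃ Σ x : E.fixset j, {Q : QS // Q.1 ≤ (E.emb x.1).range} :=
    { toFun := fun p => ⟨p.1.2, p.1.1, p.2⟩
      invFun := fun s => ⟨(s.2.1, s.1), s.2.2⟩
      left_inv := fun p => rfl
      right_inv := fun s => rfl }
  have e2 : I ≃ Σ Q : QS, {x : E.fixset j // Q.1 ≤ (E.emb x.1).range} :=
    { toFun := fun p => ⟨p.1.1, p.1.2, p.2⟩
      invFun := fun s => ⟨(s.1, s.2.1), s.2.2⟩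
      left_inv := fun p => rfl
      right_inv := fun s => rfl }
  have hcount := (Nat.card_congr e1).symm.trans (Nat.card_congr e2)
  rw [Nat.card_sigma, Nat.card_sigma, Finset.sum_congr rfl (fun x _ => hQ2 x), Finset.sum_congr rfl (fun Q _ => hP Q),
    Finset.sum_const, Finset.sum_const, Finset.card_univ, Finset.card_univ, smul_eq_mul, smul_eq_mul,
    ← Nat.card_eq_fintype_card, ← Nat.card_eq_fintype_card, Nat.card_coe_set_eq, (flagGeo E hF).fix_card hj,
    flagGeo_phi, ← hq, ← hT] at hcount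
  have hd : 1 + T * (q + 1) ∣ (1 + T * (2 * q + 1)) * 2 := ⟨Nat.card QS, by rw [hcount, mul_comm]⟩
  have hd2 : 1 + T * (q + 1) ∣ 4 * (1 + T * (q + 1)) := dvd_mul_left _ _
  have e4 : 4 * (1 + T * (q + 1)) = (1 + T * (2 * q + 1)) * 2 + (2 + 2 * T) := by ring
  rw [e4, Nat.dvd_add_right hd] at hd2
  have hle := Nat.le_of_dvd (by omega) hd2
  have hTpos : 1 ≤ T := (flagGeo E hF).tee_pos
  have hq3 : q ≤ 2 := by
    by_contra hq3
    have := Nat.mul_le_mul_left T (show 3 + 1 ≤ q + 1 by omega)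
    omega
  have hq' : Fintype.card F = 2 := by omega
  obtain ⟨_, -, -, ht⟩ := two_numbers E hF hq'
  rw [← hT] at ht
  rw [ht, show q = 2 by omega] at hd2
  norm_num at hd2

end Flag

end Cfsg.Lib.LThreeExt
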