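import Cfsg.Agent.Lib.LThreeExt.Regular

/-!
# Linear and semilinear collineations of the plane over `GF(4)`
-/

set_option autoImplicit false
set_option linter.unusedSectionVars false
set_option linter.style.haveILetI false

namespace Cfsg.Lib.LThreeExt

open Matrix Projectivization Cfsg.Lib Cfsg.Lib.Linear Cfsg.Lib.Linear.TVec Cfsg.Lib.Linear.AutPSL
open Cfsg.Lib.Linear.Descent
open scoped MatrixGroups LinearAlgebra.Projectivization

universe u

variable {F : Type} [Field F] [Fintype F] [CharP F 2]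

theorem card_psl_four (hq : Fintype.card F = 4) : Nat.card (PSL3 F) = 20160 := by
  have h := Linear.card_SL_eq_gcd_mul_card_PSL (ι := Fin 3) (F := F)
  have h2 := Linear.card_SL_mul (F := F) 3 (by norm_num)
  have hg : Nat.gcd (Fintype.card (Fin 3)) (Fintype.card F - 1) = 3 := by rw [Fintype.card_fin, hq]; rfl
  rw [hg] at h
  rw [h] at h2
  simp [Fin.prod_univ_three, hq] at h2
  show Nat.card (Matrix.ProjectiveSpecialLinearGroup (Fin 3) F) = 20160
  omega

theorem units_cube (hq : Fintype.card F = 4) {c : F} (hc : c ≠ 0) : c ^ 3 = 1 := by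
  have := FiniteField.pow_card_sub_one_eq_one c hc
  rwa [hq] at this

theorem sigma_sq (hq : Fintype.card F = 4) (σ : F ≃+* F) : σ * σ = 1 := by
  haveI : Fact (Nat.Prime 2) := ⟨Nat.prime_two⟩
  have hF : Fintype.card F = 2 ^ 2 := by rw [hq]; norm_num
  have h : σ ^ 2 = 1 := orderOf_dvd_iff_pow_eq_one.1 (orderOf_dvd_exp (by norm_num) hF σ)
  rwa [pow_two] at h

theorem fixed_mem (hq : Fintype.card F = 4) {σ : F ≃+* F} (h1 : σ ≠ 1) {c : F} (hc : σ c = c) : c = 0 ∨ c = 1 := by
  have h := fixCard_sq (sigma_sq hq σ) h1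
  rw [hq] at h
  have h2 : fixCard σ = 2 := by nlinarith
  have hsub : ({0, 1} : Set F) ⊆ {c : F | σ c = c} := by
    rintro d (rfl | rfl)
    · exact map_zero σ
    · exact map_one σ
  have e := Set.eq_of_subset_of_ncard_le hsub
    (by rw [← fixCard, h2, Set.ncard_pair zero_ne_one]) (Set.toFinite _)
  simpa using (e.symm ▸ hc : c ∈ ({0, 1} : Set F))

theorem sigma_eq_sq (hq : Fintype.card F = 4) {σ : F ≃+* F} (h1 : σ ≠ 1) (c : F) : σ c = c ^ 2 := by
  have h0 : σ (c + σ c) = c + σ c := by
    rw [map_add, ← RingAut.mul_apply, sigma_sq hq σ, RingAut.one_apply, add_comm]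
  have hN : σ (c * σ c) = c * σ c := by
    rw [map_mul, ← RingAut.mul_apply, sigma_sq hq σ, RingAut.one_apply, mul_comm]
  rcases fixed_mem hq h1 h0 with hs | hs
  · have e : σ c = c := (CharTwo.add_eq_zero.1 hs).symm
    rcases fixed_mem hq h1 e with rfl | rfl
    · rw [map_zero, zero_pow (by norm_num)]
    · rw [map_one, one_pow]
  · have hne : σ c ≠ c := fun e => by
      rw [e, CharTwo.add_self_eq_zero] at hs
      exact zero_ne_one hs
    have hs' : σ c = 1 + c := by
      linear_combination hs - CharTwo.add_self_eq_zero c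
    rcases fixed_mem hq h1 hN with hn | hn
    · exfalso
      rcases mul_eq_zero.1 hn with e | e
      · exact hne (by rw [e, map_zero])
      · exact hne (by rw [e, (map_eq_zero_iff σ σ.injective).1 e])
    · rw [hs'] at hn ⊢
      linear_combination -hn + c * (CharTwo.two_eq_zero (R := F))

theorem sigma_det_mul (hq : Fintype.card F = 4) {σ : F ≃+* F} (h1 : σ ≠ 1) {d : F} (hd : d ≠ 0) : d * σ d = 1 := by
  rw [sigma_eq_sq hq h1, ← pow_succ', units_cube hq hd]

/-- The diagonal element with a given determinant. -/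
def dd (d : Fˣ) : GL (Fin 3) F :=
  ⟨Matrix.diagonal ![(d : F), 1, 1], Matrix.diagonal ![((d⁻¹ : Fˣ) : F), 1, 1],
    by rw [Matrix.diagonal_mul_diagonal, ← Matrix.diagonal_one]; congr 1; ext i; fin_cases i <;> simp,
    by rw [Matrix.diagonal_mul_diagonal, ← Matrix.diagonal_one]; congr 1; ext i; fin_cases i <;> simp⟩

theorem dd_det (d : Fˣ) : (dd d).val.det = (d : F) := by
  simp [dd, Matrix.det_diagonal, Fin.prod_univ_three]

theorem dd_mulVec (d : Fˣ) (v : V3 F) : (dd d).val *ᵥ v = ![(d : F) * v 0, v 1, v 2] := by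
  ext i
  fin_cases i <;> simp [dd, Matrix.mulVec_diagonal]

/-- Write `g` as a diagonal element times an element of `SL`. -/
theorem exists_dd (g : GL (Fin 3) F) :
    ∃ s : SL3 F, SpecialLinearGroup.toGL s * g = dd (GeneralLinearGroup.det g) := by
  set d := GeneralLinearGroup.det g
  let s : SL3 F := ⟨(dd d * g⁻¹).val, by
    rw [Units.val_mul, Matrix.det_mul, dd_det]
    have h : g.val.det * (g⁻¹).val.det = 1 := by rw [← Matrix.det_mul, Units.mul_inv, Matrix.det_one]
    exact h⟩
  refine ⟨s, Units.ext ?_⟩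
  show (dd d * g⁻¹).val * g.val = (dd d).val
  rw [Units.val_mul, Matrix.mul_assoc, Units.inv_mul, Matrix.mul_one]

theorem semi_one_one (p : Pt F) : semi (1 : GL (Fin 3) F) 1 p = p := by
  induction p using Projectivization.ind with | _ v hv =>
  rw [semi_mk]
  refine (mk_eq_mk_iff' F _ _ _ _).2 ⟨1, ?_⟩
  simp [sv]

/-- The Frobenius collineation of the plane over `GF(4)` fixes seven points. -/
theorem semi_frob_fixed (hq : Fintype.card F = 4) {σ : F ≃+* F} (h1 : σ ≠ 1) :
    {p : Pt F | semi (1 : GL (Fin 3) F) σ p = p}.ncard = 7 := by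
  classical
  let V := {v : Fin 3 → Bool // v ≠ fun _ => false}
  let ι : (Fin 3 → Bool) → V3 F := fun v i => if v i then 1 else 0
  have hι : Function.Injective ι := fun v w e => funext fun i => by
    have := congrFun e i
    simp only [ι] at this
    revert this
    cases v i <;> cases w i <;> simp
  have hne : ∀ v : V, ι v.1 ≠ 0 := fun v e => v.2 (hι (e.trans (funext fun i => by simp [ι])))
  have hσι : ∀ v, (fun i => σ (ι v i)) = ι v := fun v => funext fun i => by
    show σ (if v i then 1 else 0) = if v i then 1 else 0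
    split <;> simp
  have e : {p : Pt F | semi (1 : GL (Fin 3) F) σ p = p} ≃ V := by
    refine (Equiv.ofBijective (fun v : V => (⟨Projectivization.mk F (ι v.1) (hne v), ?_⟩ :
      {p : Pt F | semi (1 : GL (Fin 3) F) σ p = p})) ⟨?_, ?_⟩).symm
    · show semi 1 σ _ = _
      rw [semi_mk]
      exact (mk_eq_mk_iff' F _ _ _ _).2 ⟨1, by simp [sv, hσι]⟩
    · intro v w h
      obtain ⟨c, hc⟩ := (mk_eq_mk_iff' F _ _ _ _).1 (congrArg Subtype.val h)
      refine Subtype.ext (hι ?_)
      have hc1 : c = 1 := by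
        obtain ⟨i, hi⟩ := Function.ne_iff.1 (hne v)
        have e := congrFun hc i
        simp only [Pi.smul_apply, smul_eq_mul, ι] at e hi
        split at e <;> split at e <;> simp_all
      rw [hc1, one_smul] at hc
      exact hc.symm
    · rintro ⟨p, hp⟩
      change semi 1 σ p = p at hp
      induction p using Projectivization.ind with | _ v hv =>
      obtain ⟨i₀, hi₀⟩ := Function.ne_iff.1 hv
      let w : V3 F := (v i₀)⁻¹ • v
      have hw : w ≠ 0 := smul_ne_zero (inv_ne_zero hi₀) hv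
      have hvw : Projectivization.mk F v hv = Projectivization.mk F w hw :=
        (mk_eq_mk_iff' F _ _ _ _).2 ⟨v i₀, by simp [w, smul_smul, mul_inv_cancel₀ hi₀]⟩
      have hw0 : w i₀ = 1 := by simp [w, inv_mul_cancel₀ hi₀]
      rw [hvw, semi_mk, mk_eq_mk_iff'] at hp
      obtain ⟨c, hc⟩ := hp
      have hsw : ∀ i, c * w i = σ (w i) := fun i => by
        have := congrFun hc i
        simpa [sv] using this
      have hc1 : c = 1 := by
        have e := hsw i₀
        rwa [hw0, map_one, mul_one] at e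
      have hbool : ∀ i, w i = 0 ∨ w i = 1 := fun i => fixed_mem hq h1 (by rw [← hsw, hc1, one_mul])
      let b : Fin 3 → Bool := fun i => decide (w i = 1)
      have hb : ι b = w := funext fun i => by
        rcases hbool i with e | e <;> simp [ι, b, e]
      have hb0 : b ≠ fun _ => false := fun e => by
        have := congrFun e i₀
        simp [b, hw0] at this
      refine ⟨⟨b, hb0⟩, Subtype.ext ?_⟩
      show Projectivization.mk F (ι b) _ = Projectivization.mk F v hv
      rw [hvw]
      exact (mk_eq_mk_iff' F _ _ _ _).2 ⟨1, by rw [one_smul, hb]⟩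
  rw [← Nat.card_coe_set_eq, Nat.card_congr e, Nat.card_eq_fintype_card]
  rfl

/-- An outer semilinear collineation in normal form fixes seven points. -/
theorem semi_dd_fixed (hq : Fintype.card F = 4) {σ : F ≃+* F} (h1 : σ ≠ 1) (d : Fˣ) :
    {p : Pt F | semi (dd d) σ p = p}.ncard = 7 := by
  rw [← semi_frob_fixed hq h1,
    ← Set.ncard_image_of_injective {p : Pt F | semi (1 : GL (Fin 3) F) σ p = p} (semi_injective (dd d⁻¹) 1)]
  have hde : (d : F) * σ ((d⁻¹ : Fˣ) : F) = ((d⁻¹ : Fˣ) : F) := by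
    rw [sigma_eq_sq hq h1, Units.val_inv_eq_inv_val]
    field_simp
  have key : ∀ v : V3 F, sv (dd d) σ (sv (dd d⁻¹) 1 v) = sv (dd d⁻¹) 1 (sv 1 σ v) := by
    intro v
    simp only [sv, dd_mulVec, Units.val_one, Matrix.one_mulVec, RingAut.one_apply]
    ext i
    fin_cases i
    · simp only [Fin.isValue, Fin.zero_eta, Matrix.cons_val_zero]
      rw [map_mul, ← mul_assoc, hde]
    · simp
    · simp
  have hcomm : ∀ p : Pt F, semi (dd d) σ (semi (dd d⁻¹) 1 p) = semi (dd d⁻¹) 1 (semi 1 σ p) := by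
    intro p
    induction p using Projectivization.ind with | _ v hv =>
    rw [semi_mk, semi_mk, semi_mk, semi_mk]
    exact (mk_eq_mk_iff' F _ _ _ _).2 ⟨1, by rw [one_smul, key]⟩
  congr 1
  ext p
  constructor
  · intro hp
    obtain ⟨p', rfl⟩ := (Finite.injective_iff_surjective.1 (semi_injective (dd d⁻¹) 1)) p
    refine ⟨p', semi_injective (dd d⁻¹) 1 ?_, rfl⟩
    rw [← hcomm]
    exact hp
  · rintro ⟨p', hp', rfl⟩
    show semi (dd d) σ _ = _
    rw [hcomm, (hp' : semi 1 σ p' = p')]

/-- A linear collineation fixing six points, no three on a line, is the identity. -/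
theorem linear_six (hq : Fintype.card F = 4) {g : GL (Fin 3) F} {S : Set (Pt F)} (hS : 6 ≤ S.ncard)
    (hfix : ∀ p ∈ S, semi g 1 p = p)
    (hcol : ∀ p ∈ S, ∀ p' ∈ S, ∀ p'' ∈ S, p ≠ p' → p ≠ p'' → p' ≠ p'' → ∀ l, ¬ (Inc p l ∧ Inc p' l ∧ Inc p'' l)) :
    ∃ c : F, ∀ v : V3 F, g.val *ᵥ v = c • v := by
  classical
  have hev : ∀ p ∈ S, ∃ c : Fˣ, g.val *ᵥ p.rep = (c : F) • p.rep := by
    intro p hp
    have h := hfix p hp
    conv_lhs at h => rw [← mk_rep p, semi_mk]
    conv_rhs at h => rw [← mk_rep p]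
    rw [mk_eq_mk_iff] at h
    obtain ⟨c, hc⟩ := h
    refine ⟨c, ?_⟩
    rw [← Units.smul_def, hc]
    rfl
  choose! ev hev using hev
  have heig : ∀ (c : F) {p p' : Pt F}, p ≠ p' → g.val *ᵥ p.rep = c • p.rep → g.val *ᵥ p'.rep = c • p'.rep →
      ∀ {l : Pt F}, Inc p l → Inc p' l → ∀ q, Inc q l → g.val *ᵥ q.rep = c • q.rep := by
    intro c p p' hne h h' l hl hl' q hq'
    have hcr : crossProduct p.rep p'.rep ≠ 0 :=
      cross_ne_zero p.rep_nonzero p'.rep_nonzero (by rwa [mk_rep, mk_rep])
    have hd : ∀ {r : Pt F}, Inc r l → r.rep ⬝ᵥ l.rep = 0 := fun hr => by rw [dotProduct_comm]; exact hr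
    obtain ⟨s, t, hst⟩ := perp_span l.rep_nonzero (hd hl) (hd hl') (hd hq') hcr
    rw [← hst, Matrix.mulVec_add, Matrix.mulVec_smul, Matrix.mulVec_smul, h, h', smul_add, smul_comm c s,
      smul_comm c t]
  by_cases h3 : ∃ p ∈ S, ∃ p' ∈ S, ∃ p'' ∈ S, p ≠ p' ∧ p ≠ p'' ∧ p' ≠ p'' ∧ ev p = ev p' ∧ ev p = ev p''
  · obtain ⟨p, hp, p', hp', p'', hp'', h1, h2, h3, e1, e2⟩ := h3
    refine ⟨(ev p : F), fun v => ?_⟩
    let K : Submodule F (V3 F) :=
      LinearMap.ker (Matrix.mulVecLin g.val - (ev p : F) • LinearMap.id)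
    have hK : ∀ v, v ∈ K ↔ g.val *ᵥ v = (ev p : F) • v := fun v => by
      rw [LinearMap.mem_ker, LinearMap.sub_apply, LinearMap.smul_apply, LinearMap.id_apply, Matrix.mulVecLin_apply,
        sub_eq_zero]
    have hcr : crossProduct p.rep p'.rep ≠ 0 :=
      cross_ne_zero p.rep_nonzero p'.rep_nonzero (by rwa [mk_rep, mk_rep])
    have hnot : p''.rep ∉ Submodule.span F {p.rep, p'.rep} := by
      intro hm
      obtain ⟨s, t, hst⟩ := Submodule.mem_span_pair.1 hm
      obtain ⟨l, hl, hl'⟩ := exists_line_ne h1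
      refine hcol p hp p' hp' p'' hp'' h1 h2 h3 l ⟨hl, hl', ?_⟩
      show l.rep ⬝ᵥ p''.rep = 0
      rw [← hst, dotProduct_add, dotProduct_smul, dotProduct_smul, show l.rep ⬝ᵥ p.rep = 0 from hl,
        show l.rep ⬝ᵥ p'.rep = 0 from hl', smul_zero, smul_zero, add_zero]
    have hle : Submodule.span F {p.rep, p'.rep} ≤ K := by
      rw [Submodule.span_le]
      rintro w (rfl | rfl)
      · exact (hK _).2 (hev p hp)
      · exact (hK _).2 (by rw [hev p' hp', e1])
    have hlt : Submodule.span F {p.rep, p'.rep} < K := lt_of_le_of_ne hle fun e =>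
      hnot (e ▸ (hK _).2 (by rw [hev p'' hp'', e2]))
    have hdim : Module.finrank F (Submodule.span F ({p.rep, p'.rep} : Set (V3 F))) = 2 := by
      have hli := crossProduct_ne_zero_iff_linearIndependent.1 hcr
      have e := finrank_span_eq_card hli
      rw [Matrix.range_cons, Matrix.range_cons, Matrix.range_empty, Set.union_empty, Set.singleton_union,
        Fintype.card_fin] at e
      exact e
    have h3' := Submodule.finrank_lt_finrank_of_lt hlt
    have htop : K = ⊤ := Submodule.eq_top_of_finrank_eq (le_antisymm (Submodule.finrank_le K) (by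
      rw [Module.finrank_fintype_fun_eq_card, Fintype.card_fin]
      exact Nat.succ_le_of_lt (hdim.symm.trans_lt h3')))
    exact (hK v).1 (htop ▸ Submodule.mem_top)
  exfalso
  push Not at h3
  -- otherwise two pairs share two different eigenvalues
  have hfin : S.Finite := Set.toFinite _
  let T := hfin.toFinset
  have hTc : 6 ≤ T.card := by rw [← Set.ncard_eq_toFinset_card S hfin]; exact hS
  have hmemT : ∀ {p}, p ∈ T ↔ p ∈ S := hfin.mem_toFinset
  have hsmall : ∀ c : Fˣ, (T.filter fun p => ev p = c).card ≤ 2 := by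
    intro c
    by_contra hc
    obtain ⟨p, p', p'', hp, hp', hp'', h1, h2, h4⟩ := Finset.two_lt_card_iff.1 (lt_of_not_ge hc)
    simp only [Finset.mem_filter, hmemT] at hp hp' hp''
    exact h3 p hp.1 p' hp'.1 p'' hp''.1 h1 h2 h4 (hp.2.trans hp'.2.symm) (hp.2.trans hp''.2.symm)
  have hU : Fintype.card Fˣ = 3 := by rw [Fintype.card_units, hq]
  have hsum := Finset.card_eq_sum_card_fiberwise (f := ev) (s := T) (t := (Finset.univ : Finset Fˣ))
    (fun x _ => Finset.mem_coe.2 (Finset.mem_univ _))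
  have hall : ∀ c : Fˣ, (T.filter fun p => ev p = c).card = 2 := by
    intro c
    refine le_antisymm (hsmall c) (Nat.le_of_not_lt fun hlt => ?_)
    have : ∑ d : Fˣ, (T.filter fun p => ev p = d).card < ∑ _d : Fˣ, 2 :=
      Finset.sum_lt_sum (fun d _ => hsmall d) ⟨c, Finset.mem_univ _, hlt⟩
    rw [Finset.sum_const, Finset.card_univ, hU, smul_eq_mul, ← hsum] at this
    omega
  obtain ⟨c, c', hcc⟩ := Fintype.exists_pair_of_one_lt_card (α := Fˣ) (by rw [hU]; norm_num)
  obtain ⟨p, p', hne, hpp⟩ := Finset.card_eq_two.1 (hall c)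
  obtain ⟨r, r', hne', hrr⟩ := Finset.card_eq_two.1 (hall c')
  have hp : p ∈ S ∧ ev p = c := by
    have : p ∈ T.filter fun p => ev p = c := by rw [hpp]; simp
    simpa [hmemT] using this
  have hp' : p' ∈ S ∧ ev p' = c := by
    have : p' ∈ T.filter fun p => ev p = c := by rw [hpp]; simp
    simpa [hmemT] using this
  have hr : r ∈ S ∧ ev r = c' := by
    have : r ∈ T.filter fun p => ev p = c' := by rw [hrr]; simp
    simpa [hmemT] using this
  have hr' : r' ∈ S ∧ ev r' = c' := by
    have : r' ∈ T.filter fun p => ev p = c' := by rw [hrr]; simp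
    simpa [hmemT] using this
  obtain ⟨l, hl, hl'⟩ := exists_line_ne hne
  obtain ⟨m, hm, hm'⟩ := exists_line_ne hne'
  obtain ⟨x, hx, hx'⟩ : ∃ x, Inc x l ∧ Inc x m := by
    rcases eq_or_ne l m with rfl | h
    · exact ⟨p, hl, hl⟩
    · exact exists_point_ne h
  have e1 := heig (c : F) hne (by rw [hev p hp.1, hp.2]) (by rw [hev p' hp'.1, hp'.2]) hl hl' x hx
  have e2 := heig (c' : F) hne' (by rw [hev r hr.1, hr.2]) (by rw [hev r' hr'.1, hr'.2]) hm hm' x hx'
  exact hcc (Units.ext (smul_left_injective F x.rep_nonzero (e1.symm.trans e2)))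

/-- The sign of an involution with eight fixed points among twenty-two. -/
theorem sign_neg_one {α : Type u} [Fintype α] [DecidableEq α] (hα : Fintype.card α = 22) {π : Equiv.Perm α}
    (h2 : π * π = 1) (hfix : {x | π x = x}.ncard = 8) : Equiv.Perm.sign π = -1 := by
  classical
  have hsupp : π.support.card = 14 := by
    have h := Set.ncard_add_ncard_compl {x | π x = x}
    rw [hfix, Nat.card_eq_fintype_card, hα] at h
    have e : ({x | π x = x} : Set α)ᶜ = (π.support : Set α) := by
      ext x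
      simp
    rw [e, Set.ncard_coe_finset] at h
    omega
  have hne : π ≠ 1 := fun e => by
    rw [e, Equiv.Perm.support_one, Finset.card_empty] at hsupp
    omega
  have hord : orderOf π = 2 := Invol.orderOf_eq_two_of hne h2
  obtain ⟨c, hc⟩ := Equiv.Perm.cycleType_prime_order (σ := π) (hord ▸ Nat.prime_two)
  have hsum := π.sum_cycleType
  rw [hc, hord, Multiset.sum_replicate, smul_eq_mul, hsupp] at hsum
  rw [Equiv.Perm.sign_of_cycleType, hc, hord, Multiset.sum_replicate, Multiset.card_replicate, smul_eq_mul,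
    show c + 1 = 7 by omega]
  rfl

end Cfsg.Lib.LThreeExt
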