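import Cfsg.Agent.Lib.LThreeExt.Ext

/-!
# Counting the involutions of a doubly transitive extension
-/

set_option autoImplicit false
set_option linter.unusedSectionVars false
set_option linter.style.haveILetI false

namespace Cfsg.Lib.LThreeExt

open Cfsg.Lib

universe u w

variable {F : Type} [Field F] [Fintype F] [CharP F 2]
variable {G : Type u} [Group G] [Finite G] {Ω : Type w} [Finite Ω] [MulAction G Ω] [FaithfulSMul G Ω]

/-- The geometry attached to the parts fixing a second point. -/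
structure Geo (E : Ext F G Ω) (Λ : Type) [MulAction (PSL3 F) Λ] where
  /-- The label of a second point. -/
  pt : Ω → Ω → Λ
  pt_fix : ∀ x y, y ≠ x → ∀ k, E.emb x k • y = y → k • pt x y = pt x y
  mem : ∀ x y, y ≠ x → ∀ k, orderOf k = 2 → k • pt x y = pt x y → E.emb x k • y = y
  sep : ∀ {l m : Λ}, (∀ k : PSL3 F, orderOf k = 2 → k • l = l → k • m = m) → l = m
  trans : ∀ l m : Λ, ∃ k : PSL3 F, k • l = m
  /-- The number of labels fixed by an involution. -/
  phi : ℕ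
  phi_pos : 0 < phi
  phi_lt : phi < Nat.card Λ
  phi_spec : ∀ k : PSL3 F, orderOf k = 2 → {l : Λ | k • l = l}.ncard = phi

/-- The number of involutions of `PSL(3, F)`. -/
noncomputable def iTwo (F : Type) [Field F] : ℕ := Nat.card {k : PSL3 F // orderOf k = 2}

theorem exists_invol : ∃ k : PSL3 F, orderOf k = 2 := by
  obtain ⟨k, hk, -, -⟩ := exists_invol_fix_move (F := F)
    (Projectivization.mk F (Pi.single 0 1) (Pi.single_ne_zero_iff.2 one_ne_zero))
    (Projectivization.mk F (Pi.single 0 (1 : F)) (Pi.single_ne_zero_iff.2 one_ne_zero))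
  exact ⟨k, hk⟩

namespace Ext

variable (E : Ext F G Ω)

/-- The involutions of the copies of `PSL(3, F)`. -/
def dset : Set G := {j | ∃ x k, orderOf k = 2 ∧ E.emb x k = j}

/-- The points in whose copy `j` lies. -/
def yset (j : G) : Set Ω := {x | ∃ k, E.emb x k = j}

/-- The fixed points of `j`. -/
def fixset (j : G) : Set Ω := let _ := E; {y | j • y = y}

variable {E}

theorem emb_orderOf {x : Ω} {k : PSL3 F} : orderOf (E.emb x k) = orderOf k := orderOf_injective _ (E.inj x) k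

theorem orderOf_dset {j : G} (hj : j ∈ E.dset) : orderOf j = 2 := by
  obtain ⟨x, k, hk, rfl⟩ := hj
  rw [emb_orderOf, hk]

theorem dset_conj {j : G} (hj : j ∈ E.dset) (g : G) : g * j * g⁻¹ ∈ E.dset := by
  obtain ⟨x, k, hk, rfl⟩ := hj
  exact ⟨g • x, E.tr g x k, by rw [MulEquiv.orderOf_eq, hk], E.tr_spec g x k⟩

theorem dset_isConj {j j' : G} (hj : j ∈ E.dset) (hj' : j' ∈ E.dset) : IsConj j j' := by
  obtain ⟨x, k, hk, rfl⟩ := hj
  obtain ⟨x', k', hk', rfl⟩ := hj'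
  obtain ⟨g, hg⟩ := E.exists_smul x x'
  have h1 : IsConj (E.emb x k) (E.emb x' (E.tr g x k)) := isConj_iff.2 ⟨g, (E.tr_spec' hg k).symm⟩
  exact h1.trans ((E.emb x').map_isConj (invol_isConj (by rw [MulEquiv.orderOf_eq, hk]) hk'))

theorem yset_subset {j : G} : E.yset j ⊆ E.fixset j := by
  rintro x ⟨k, rfl⟩
  exact E.fix x k

theorem smul_mem_yset {j g : G} {x : Ω} (h : x ∈ E.yset j) : g • x ∈ E.yset (g * j * g⁻¹) := by
  obtain ⟨k, rfl⟩ := h
  exact ⟨E.tr g x k, E.tr_spec g x k⟩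

theorem ycard_eq {j j' : G} (hj : j ∈ E.dset) (hj' : j' ∈ E.dset) : (E.yset j).ncard = (E.yset j').ncard := by
  obtain ⟨g, rfl⟩ := isConj_iff.1 (dset_isConj hj hj')
  rw [← Set.ncard_image_of_injective (E.yset j) (MulAction.injective g)]
  congr 1
  ext x
  refine ⟨?_, fun hx => ⟨g⁻¹ • x, ?_, smul_inv_smul g x⟩⟩
  · rintro ⟨y, hy, rfl⟩
    exact smul_mem_yset hy
  · have h := smul_mem_yset (g := g⁻¹) hx
    rwa [show g⁻¹ * (g * j * g⁻¹) * g⁻¹⁻¹ = j by group] at h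

theorem fixcard_eq {j j' : G} (hj : j ∈ E.dset) (hj' : j' ∈ E.dset) : (E.fixset j).ncard = (E.fixset j').ncard := by
  obtain ⟨g, rfl⟩ := isConj_iff.1 (dset_isConj hj hj')
  rw [← Set.ncard_image_of_injective (E.fixset j) (MulAction.injective g)]
  congr 1
  ext x
  refine ⟨?_, fun hx => ⟨g⁻¹ • x, ?_, smul_inv_smul g x⟩⟩
  · rintro ⟨y, hy, rfl⟩
    show (g * j * g⁻¹) • (g • y) = g • y
    rw [mul_smul, inv_smul_smul, mul_smul, show j • y = y from hy]
  · show j • g⁻¹ • x = g⁻¹ • x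
    rw [eq_inv_smul_iff, ← mul_smul, ← mul_smul]
    exact hx

theorem one_lt_card (E : Ext F G Ω) : 1 < Nat.card Ω := by
  rw [Finite.one_lt_card_iff_nontrivial]
  obtain ⟨y, hy⟩ := E.exists_ne E.base
  exact ⟨⟨y, E.base, hy⟩⟩

/-- Counting the pairs of an involution and a point of one of its copies. -/
theorem count_copies {j₀ : G} (hj₀ : j₀ ∈ E.dset) :
    Nat.card Ω * iTwo F = E.dset.ncard * (E.yset j₀).ncard := by
  have e : (Ω × {k : PSL3 F // orderOf k = 2}) ≃ Σ j : E.dset, E.yset j.1 := by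
    refine Equiv.ofBijective (fun p => ⟨⟨E.emb p.1 p.2.1, p.1, p.2.1, p.2.2, rfl⟩, ⟨p.1, p.2.1, rfl⟩⟩) ⟨?_, ?_⟩
    · rintro ⟨x, k, hk⟩ ⟨y, l, hl⟩ h
      have h1 : x = y := congrArg (fun s : Σ j : E.dset, E.yset j.1 => (s.2 : Ω)) h
      subst h1
      have h2 : E.emb x k = E.emb x l := congrArg (fun s : Σ j : E.dset, E.yset j.1 => (s.1 : G)) h
      exact Prod.ext rfl (Subtype.ext (E.inj x h2))
    · rintro ⟨⟨j, hj⟩, x, k, hk⟩
      change E.emb x k = j at hk
      subst hk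
      exact ⟨(x, ⟨k, by rw [← emb_orderOf (E := E) (x := x), orderOf_dset hj]⟩), rfl⟩
  letI := Fintype.ofFinite E.dset
  have h := Nat.card_congr e
  rw [Nat.card_prod, Nat.card_sigma, Finset.sum_congr rfl (fun j _ => (Nat.card_coe_set_eq _).trans
    (ycard_eq j.2 hj₀)), Finset.sum_const, Finset.card_univ, smul_eq_mul, ← Nat.card_eq_fintype_card,
    Nat.card_coe_set_eq] at h
  exact h

/-- Counting the pairs of points exchanged by an involution. -/
theorem count_moved {j₀ : G} (hj₀ : j₀ ∈ E.dset) :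
    ∃ μ, E.dset.ncard * (Nat.card Ω - (E.fixset j₀).ncard) = μ * (Nat.card Ω * (Nat.card Ω - 1)) := by
  classical
  obtain ⟨b, hb⟩ := E.exists_ne E.base
  refine ⟨{j | j ∈ E.dset ∧ j • E.base = b}.ncard, ?_⟩
  let Q := {p : Ω × Ω // p.1 ≠ p.2}
  have hμ : ∀ p : Q, Nat.card {j : G // j ∈ E.dset ∧ j • p.1.1 = p.1.2} =
      {j | j ∈ E.dset ∧ j • E.base = b}.ncard := by
    intro p
    obtain ⟨g, hg, hg'⟩ := E.two p.2 hb.symm
    rw [← Nat.card_coe_set_eq]
    refine Nat.card_congr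
      { toFun := fun j => ⟨g * j.1 * g⁻¹, dset_conj j.2.1 g, by
          rw [← hg, mul_smul, inv_smul_smul, mul_smul, j.2.2, hg']⟩
        invFun := fun j => ⟨g⁻¹ * j.1 * g⁻¹⁻¹, dset_conj j.2.1 g⁻¹, by
          rw [inv_inv, mul_smul, mul_smul, hg, j.2.2, ← hg', inv_smul_smul]⟩
        left_inv := fun j => Subtype.ext (by group)
        right_inv := fun j => Subtype.ext (by group) }
  have hfib : ∀ j : E.dset, Nat.card {x : Ω // j.1 • x ≠ x} = Nat.card Ω - (E.fixset j₀).ncard := by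
    intro j
    have h : Nat.card Ω = (E.fixset j.1).ncard + (E.fixset j.1)ᶜ.ncard := (Set.ncard_add_ncard_compl _).symm
    rw [fixcard_eq j.2 hj₀] at h
    rw [h, Nat.add_sub_cancel_left, ← Nat.card_coe_set_eq]
    rfl
  have e : (Σ j : E.dset, {x : Ω // j.1 • x ≠ x}) ≃ Σ p : Q, {j : G // j ∈ E.dset ∧ j • p.1.1 = p.1.2} := by
    refine Equiv.ofBijective (fun s => ⟨⟨(s.2.1, s.1.1 • s.2.1), fun h => s.2.2 h.symm⟩, ⟨s.1.1, s.1.2, rfl⟩⟩)
      ⟨?_, ?_⟩
    · rintro ⟨⟨j, hj⟩, x, hx⟩ ⟨⟨l, hl⟩, y, hy⟩ h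
      have h1 : x = y := congrArg (fun s : Σ p : Q, {j : G // j ∈ E.dset ∧ j • p.1.1 = p.1.2} => s.1.1.1) h
      have h2 : j = l := congrArg (fun s : Σ p : Q, {j : G // j ∈ E.dset ∧ j • p.1.1 = p.1.2} => s.2.1) h
      subst h1 h2
      rfl
    · rintro ⟨⟨⟨x, y⟩, hxy⟩, j, hj, hjy⟩
      change j • x = y at hjy
      subst hjy
      exact ⟨⟨⟨j, hj⟩, x, fun h => hxy h.symm⟩, rfl⟩
  have hQ : Nat.card Q = Nat.card Ω * (Nat.card Ω - 1) := by
    rw [← Set.ncard_univ Ω, ← ConstFix.ncard_offDiag, ← Nat.card_coe_set_eq]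
    exact Nat.card_congr (Equiv.subtypeEquivRight fun p => by simp)
  letI := Fintype.ofFinite E.dset
  letI := Fintype.ofFinite Q
  have h := Nat.card_congr e
  rw [Nat.card_sigma, Nat.card_sigma, Finset.sum_congr rfl (fun j _ => hfib j), Finset.sum_congr rfl (fun p _ => hμ p),
    Finset.sum_const, Finset.sum_const, Finset.card_univ, Finset.card_univ, smul_eq_mul, smul_eq_mul,
    ← Nat.card_eq_fintype_card, ← Nat.card_eq_fintype_card, hQ, Nat.card_coe_set_eq] at h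
  rw [h, mul_comm]

end Ext

namespace Geo

variable {E : Ext F G Ω} {Λ : Type} [MulAction (PSL3 F) Λ] [Finite Λ] (Γ : Geo E Λ)
include Γ

omit Γ in
theorem smul_ne {x y : Ω} (h : y ≠ x) (k : PSL3 F) : E.emb x k • y ≠ x := fun e =>
  h (MulAction.injective (E.emb x k) (e.trans (E.fix x k).symm))

/-- The labels are equivariant. -/
theorem equiv {x y : Ω} (h : y ≠ x) (k : PSL3 F) : Γ.pt x (E.emb x k • y) = k • Γ.pt x y := by
  refine Γ.sep fun j hj hfix => ?_
  have h1 := Γ.mem x _ (smul_ne h k) j hj hfix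
  have h2 : E.emb x (k⁻¹ * j * k) • y = y := by
    rw [map_mul, map_mul, map_inv, mul_smul, mul_smul, h1, inv_smul_smul]
  have h3 := Γ.pt_fix x y h _ h2
  rw [mul_smul, mul_smul, inv_smul_eq_iff] at h3
  exact h3

theorem pt_eq_of {x y y' : Ω} (h : y ≠ x) (h' : y' ≠ x)
    (hk : ∀ k, orderOf k = 2 → E.emb x k • y = y → E.emb x k • y' = y') : Γ.pt x y = Γ.pt x y' :=
  Γ.sep fun k hk2 hfix => Γ.pt_fix x y' h' k (hk k hk2 (Γ.mem x y h k hk2 hfix))

theorem fix_iff {x y : Ω} (h : y ≠ x) {k : PSL3 F} (hk : orderOf k = 2) :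
    E.emb x k • y = y ↔ k • Γ.pt x y = Γ.pt x y := ⟨Γ.pt_fix x y h k, Γ.mem x y h k hk⟩

/-- The points with a given label. -/
def fib (x : Ω) (l : Λ) : Set Ω := {y | y ≠ x ∧ Γ.pt x y = l}

theorem fib_le (x : Ω) (l m : Λ) (S : Set Ω) (hS : ∀ k, ∀ y ∈ S, E.emb x k • y ∈ S) :
    (Γ.fib x l ∩ S).ncard ≤ (Γ.fib x m ∩ S).ncard := by
  obtain ⟨k, hk⟩ := Γ.trans l m
  refine Set.ncard_le_ncard_of_injOn (E.emb x k • ·) ?_ (fun a _ b _ e => MulAction.injective _ e) (Set.toFinite _)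
  rintro y ⟨⟨hy, hl⟩, hS'⟩
  exact ⟨⟨smul_ne hy k, by rw [Γ.equiv hy, hl, hk]⟩, hS k y hS'⟩

/-- The size of an invariant set of further points. -/
theorem inv_card (x : Ω) (S : Set Ω) (hS : ∀ k, ∀ y ∈ S, E.emb x k • y ∈ S) (hx : x ∉ S) (l : Λ) :
    S.ncard = Nat.card Λ * (Γ.fib x l ∩ S).ncard := by
  letI := Fintype.ofFinite Λ
  have e : S ≃ Σ m : Λ, (Γ.fib x m ∩ S : Set Ω) := by
    refine Equiv.ofBijective (fun y => ⟨Γ.pt x y.1, y.1, ⟨fun e => hx (e ▸ y.2), rfl⟩, y.2⟩) ⟨?_, ?_⟩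
    · intro y z h
      exact Subtype.ext (congrArg (fun s : Σ m : Λ, (Γ.fib x m ∩ S : Set Ω) => (s.2 : Ω)) h)
    · rintro ⟨m, y, ⟨hy, hm⟩, hyS⟩
      subst hm
      exact ⟨⟨y, hyS⟩, rfl⟩
  rw [← Nat.card_coe_set_eq, Nat.card_congr e, Nat.card_sigma, Finset.sum_congr rfl (fun m _ =>
    (Nat.card_coe_set_eq _).trans (le_antisymm (Γ.fib_le x m l S hS) (Γ.fib_le x l m S hS))), Finset.sum_const,
    Finset.card_univ, smul_eq_mul, ← Nat.card_eq_fintype_card]

theorem card_pos : 0 < Nat.card Λ := lt_of_le_of_lt (Nat.zero_le _) Γ.phi_lt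

/-- The number of points with a given label. -/
noncomputable def tee : ℕ :=
  (Γ.fib E.base (Γ.pt E.base (E.exists_ne E.base).choose)).ncard

theorem card_fib (x : Ω) (l : Λ) : (Γ.fib x l).ncard = Γ.tee := by
  have key : ∀ z m, (Γ.fib z m).ncard * Nat.card Λ + 1 = Nat.card Ω := by
    intro z m
    have h := Γ.inv_card z {z}ᶜ (fun k y hy => smul_ne hy k) (by simp) m
    rw [show Γ.fib z m ∩ {z}ᶜ = Γ.fib z m from Set.inter_eq_left.2 fun y hy => hy.1] at h
    have h2 := Set.ncard_add_ncard_compl ({z} : Set Ω)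
    rw [Set.ncard_singleton, h, mul_comm] at h2
    omega
  refine Nat.eq_of_mul_eq_mul_right Γ.card_pos ?_
  have h1 := key x l
  have h2 := key E.base (Γ.pt E.base (E.exists_ne E.base).choose)
  rw [← tee] at h2
  omega

theorem card_eq : Nat.card Ω = 1 + Γ.tee * Nat.card Λ := by
  have h := Γ.inv_card E.base {E.base}ᶜ (fun k y hy => smul_ne hy k) (by simp)
    (Γ.pt E.base (E.exists_ne E.base).choose)
  rw [show Γ.fib E.base (Γ.pt E.base (E.exists_ne E.base).choose) ∩ {E.base}ᶜ = Γ.fib E.base _ from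
    Set.inter_eq_left.2 fun y hy => hy.1, Γ.card_fib, mul_comm] at h
  have h2 := Set.ncard_add_ncard_compl ({E.base} : Set Ω)
  rw [Set.ncard_singleton, h] at h2
  exact h2.symm

theorem tee_odd : Odd Γ.tee := by
  have h := E.even
  rw [Γ.card_eq, add_comm, Nat.even_add_one, Nat.not_even_iff_odd] at h
  exact Nat.Odd.of_mul_left h

theorem tee_pos : 0 < Γ.tee := Γ.tee_odd.pos

/-- The number of fixed points of an involution. -/
theorem fix_card {j : G} (hj : j ∈ E.dset) : (E.fixset j).ncard = 1 + Γ.tee * Γ.phi := by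
  obtain ⟨x, k, hk, rfl⟩ := hj
  classical
  let P := {l : Λ // k • l = l}
  letI := Fintype.ofFinite P
  have e : {y : Ω // E.emb x k • y = y ∧ y ≠ x} ≃ Σ l : P, Γ.fib x l.1 := by
    refine Equiv.ofBijective (fun y => ⟨⟨Γ.pt x y.1, Γ.pt_fix x y.1 y.2.2 k y.2.1⟩, y.1, y.2.2, rfl⟩) ⟨?_, ?_⟩
    · intro y z h
      exact Subtype.ext (congrArg (fun s : Σ l : P, Γ.fib x l.1 => (s.2 : Ω)) h)
    · rintro ⟨⟨l, hl⟩, y, hy, hyl⟩
      change Γ.pt x y = l at hyl
      subst hyl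
      exact ⟨⟨y, Γ.mem x y hy k hk hl, hy⟩, rfl⟩
  have h := Nat.card_congr e
  rw [Nat.card_sigma, Finset.sum_congr rfl (fun l _ => (Nat.card_coe_set_eq _).trans (Γ.card_fib x l.1)),
    Finset.sum_const, Finset.card_univ, smul_eq_mul, ← Nat.card_eq_fintype_card,
    show Nat.card P = Γ.phi from (Nat.card_coe_set_eq _).trans (Γ.phi_spec k hk)] at h
  have hx : x ∈ E.fixset (E.emb x k) := E.fix x k
  rw [← Set.ncard_sdiff_singleton_add_one hx (Set.toFinite _), ← Nat.card_coe_set_eq, add_comm, mul_comm, ← h]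
  rfl

/-- The basic equation. -/
theorem kappa {j : G} (hj : j ∈ E.dset) :
    ∃ μ, (E.yset j).ncard * μ * Nat.card Λ = iTwo F * (Nat.card Λ - Γ.phi) := by
  obtain ⟨μ, hμ⟩ := Ext.count_moved hj
  refine ⟨μ, ?_⟩
  have h1 := Ext.count_copies hj
  have hv := Γ.card_eq
  have hT := Γ.tee_pos
  rw [Γ.fix_card hj, hv, Nat.add_sub_add_left, ← Nat.mul_sub, Nat.add_sub_cancel_left] at hμ
  rw [hv] at h1
  refine Nat.eq_of_mul_eq_mul_left (show 0 < (1 + Γ.tee * Nat.card Λ) * Γ.tee by positivity) ?_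
  calc (1 + Γ.tee * Nat.card Λ) * Γ.tee * ((E.yset j).ncard * μ * Nat.card Λ)
      = (E.yset j).ncard * (μ * ((1 + Γ.tee * Nat.card Λ) * (Γ.tee * Nat.card Λ))) := by ring
    _ = E.dset.ncard * (E.yset j).ncard * (Γ.tee * (Nat.card Λ - Γ.phi)) := by rw [← hμ]; ring
    _ = _ := by rw [← h1]; ring

variable (hnd : ¬ Nat.card Λ * Nat.card Λ ∣ iTwo F * (Nat.card Λ - Γ.phi))
include hnd

/-- An involution fixing a point does not centralise its copy. -/
theorem crossing {x : Ω} {j : G} (hj : j ∈ E.dset) (hc : ∀ k, j * E.emb x k = E.emb x k * j) : False := by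
  have hx : x ∉ E.yset j := by
    rintro ⟨k₀, rfl⟩
    refine Invol.ne_one (Ext.orderOf_dset hj) ?_
    have h : k₀ = 1 := conj_injective (MulEquiv.ext fun k => E.inj x (by
      rw [MulAut.conj_apply, map_mul, map_mul, map_inv, hc k, mul_inv_cancel_right, map_one]; rfl))
    rw [h, map_one]
  have hS : ∀ k, ∀ y ∈ E.yset j, E.emb x k • y ∈ E.yset j := by
    intro k y hy
    have h := Ext.smul_mem_yset (g := E.emb x k) hy
    rwa [← hc k, mul_inv_cancel_right] at h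
  obtain ⟨μ, hμ⟩ := Γ.kappa hj
  refine hnd ⟨(Γ.fib x (Γ.pt x (E.exists_ne x).choose) ∩ E.yset j).ncard * μ, ?_⟩
  rw [← hμ, Γ.inv_card x _ hS hx (Γ.pt x (E.exists_ne x).choose)]
  ring

/-- An involution inducing an inner automorphism lies in the copy. -/
theorem mem_of_inner {x : Ω} {j : G} (hj : j ∈ E.dset) (hx : j • x = x) (n : PSL3 F)
    (hn : ∀ k, j * E.emb x k * j⁻¹ = E.emb x (n * k * n⁻¹)) : x ∈ E.yset j := by
  set c := (E.emb x n)⁻¹ * j with hcdef
  have hc : ∀ k, c * E.emb x k = E.emb x k * c := fun k => by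
    have h := hn k
    rw [map_mul, map_mul, map_inv, mul_inv_eq_iff_eq_mul] at h
    rw [hcdef, mul_assoc, h]
    group
  have hn1 : n ≠ 1 := fun e => Γ.crossing hnd hj fun k => by
    have h := hn k
    rwa [e, inv_one, one_mul, mul_one, mul_inv_eq_iff_eq_mul] at h
  have hjj := Invol.inv_mul_self (Ext.orderOf_dset hj)
  have hn2 : n * n = 1 := conj_injective (MulEquiv.ext fun k => E.inj x (by
    have h1 := hn (n * k * n⁻¹)
    rw [← hn k, show j * (j * E.emb x k * j⁻¹) * j⁻¹ = (j * j) * E.emb x k * (j * j)⁻¹ by group, hjj, inv_one,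
      mul_one, one_mul] at h1
    rw [map_one]
    show E.emb x (n * n * k * (n * n)⁻¹) = E.emb x k
    rw [h1]
    congr 1
    group))
  have hno : orderOf n = 2 := Invol.orderOf_eq_two_of hn1 hn2
  have hnn : (E.emb x n)⁻¹ = E.emb x n := by rw [← map_inv, Invol.inv_eq_self hno]
  have hsub : E.fixset j ⊆ E.fixset (E.emb x n) := by
    intro y hy
    rcases eq_or_ne y x with rfl | hyx
    · exact E.fix y n
    have hcy : c • y = E.emb x n • y := by rw [hcdef, mul_smul, show j • y = y from hy, hnn]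
    have hne : c • y ≠ x := hcy ▸ smul_ne hyx n
    have h1 : Γ.pt x y = Γ.pt x (c • y) := Γ.pt_eq_of hyx hne fun k _ hk => by
      rw [← mul_smul, ← hc k, mul_smul, hk]
    rw [hcy, Γ.equiv hyx] at h1
    exact Γ.mem x y hyx n hno h1.symm
  have hd : E.emb x n ∈ E.dset := ⟨x, n, hno, rfl⟩
  have heq : E.fixset j = E.fixset (E.emb x n) := Set.eq_of_subset_of_ncard_le hsub
    (by rw [Γ.fix_card hj, Γ.fix_card hd]) (Set.toFinite _)
  have hc0 : ∀ y : Ω, E.emb x n • y = y → c • y = y := by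
    intro y hy
    have hjy : j • y = y := (heq ▸ hy : y ∈ E.fixset j)
    rw [hcdef, mul_smul, hjy, hnn, hy]
  have hc1 : c = 1 := by
    refine FaithfulSMul.eq_of_smul_eq_smul (α := Ω) fun y => ?_
    rw [one_smul]
    rcases eq_or_ne y x with rfl | hyx
    · exact hc0 y (E.fix y n)
    obtain ⟨l, hl⟩ : ({l : Λ | n • l = l}).Nonempty :=
      Set.nonempty_of_ncard_ne_zero (by rw [Γ.phi_spec n hno]; exact Γ.phi_pos.ne')
    obtain ⟨k, hk⟩ := Γ.trans l (Γ.pt x y)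
    have hy' : E.emb x k⁻¹ • y ≠ x := smul_ne hyx k⁻¹
    have h1 : E.emb x n • E.emb x k⁻¹ • y = E.emb x k⁻¹ • y := by
      refine Γ.mem x _ hy' n hno ?_
      rw [Γ.equiv hyx, ← hk, inv_smul_smul]
      exact hl
    have h2 := hc0 _ h1
    rw [← mul_smul, hc, mul_smul] at h2
    exact MulAction.injective _ h2
  exact ⟨n, (inv_mul_eq_one.1 hc1)⟩

/-- **Consistency**: an involution of a copy fixing `x` lies in the copy at `x`. -/
theorem consistent
    (hgrp : ∀ (k : PSL3 F) (l : Λ), orderOf k = 2 → k • l = l → ∃ K : Subgroup (PSL3 F),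
      k ∈ K ∧ Nat.card K = Fintype.card F ^ 2 ∧ ∀ k' ∈ K, k' * k' = 1 ∧ k' • l = l)
    (hgr : Fintype.card F = 2 → ∀ x (g : MulAction.stabilizer G x), g.1 ∈ E.dset → ¬ IsGr (E.aut x g))
    {j : G} (hj : j ∈ E.dset) {x : Ω} (hx : j • x = x) : x ∈ E.yset j := by
  obtain ⟨y, k, hk, rfl⟩ := id hj
  rcases eq_or_ne x y with rfl | hne
  · exact ⟨k, rfl⟩
  obtain ⟨K, hkK, hKcard, hK⟩ := hgrp k (Γ.pt y x) hk (Γ.pt_fix y x hne k hx)
  have hKfix : ∀ k' ∈ K, E.emb y k' • x = x := by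
    intro k' hk'
    rcases eq_or_ne k' 1 with rfl | h1
    · rw [map_one, one_smul]
    · exact Γ.mem y x hne k' (Invol.orderOf_eq_two_of h1 (hK k' hk').1) (hK k' hk').2
  let θ : K →* Aut3 F := (E.aut x).comp
    { toFun := fun k' : K => (⟨E.emb y k'.1, hKfix _ k'.2⟩ : MulAction.stabilizer G x)
      map_one' := Subtype.ext (map_one _)
      map_mul' := fun a b => Subtype.ext (map_mul _ _ _) }
  have hθ : Function.Injective θ := by
    rw [injective_iff_map_eq_one]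
    rintro ⟨k', hk'⟩ h
    by_contra h1
    have h1' : k' ≠ 1 := fun e => h1 (Subtype.ext e)
    refine Γ.crossing hnd (x := x) (j := E.emb y k')
      ⟨y, k', Invol.orderOf_eq_two_of h1' (hK k' hk').1, rfl⟩ fun l => ?_
    have e := E.aut_spec x ⟨E.emb y k', hKfix _ hk'⟩ l
    rw [show E.aut x ⟨E.emb y k', hKfix _ hk'⟩ = 1 from h] at e
    conv_rhs => rw [show E.emb x l = E.emb x ((1 : Aut3 F) l) from rfl, e]
    group
  have hinn := key_inner θ.range
    (by rintro _ ⟨a, rfl⟩; rw [← map_mul, show a * a = 1 from Subtype.ext (hK _ a.2).1, map_one])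
    (by rw [← hKcard]; exact Nat.card_congr (Equiv.ofInjective θ hθ).symm)
    (by
      rintro hq _ ⟨⟨k', hk'⟩, rfl⟩ h
      rcases eq_or_ne k' 1 with rfl | h1
      · obtain ⟨g, σ, hgσ⟩ := h
        refine Linear.AutPSL.ne_mul_gr (n := 3) le_rfl 1 g 1 σ ?_
        rw [← hgσ, map_one, map_one, one_mul]
        exact (map_one θ).symm
      · exact hgr hq x ⟨E.emb y k', hKfix _ hk'⟩ ⟨y, k', Invol.orderOf_eq_two_of h1 (hK k' hk').1, rfl⟩ h)
  obtain ⟨n, hn⟩ := hinn _ ⟨⟨k, hkK⟩, rfl⟩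
  refine Γ.mem_of_inner hnd hj hx n fun l => ?_
  have e := E.aut_spec x ⟨E.emb y k, hKfix _ hkK⟩ l
  rw [show E.aut x ⟨E.emb y k, hKfix _ hkK⟩ = MulAut.conj n from hn, MulAut.conj_apply] at e
  exact e.symm

end Geo

end Cfsg.Lib.LThreeExt
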