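import Cfsg.Agent.Lib.LThreeExt.Invol
import Cfsg.Agent.Lib.Linear.AutPSL.FieldCentralizer

/-!
# Centre and axis groups, and the action of automorphisms on elations
-/

set_option autoImplicit false
set_option linter.unusedSectionVars false
set_option linter.style.haveILetI false

namespace Cfsg.Lib.LThreeExt

open Matrix Projectivization Cfsg.Lib Cfsg.Lib.Linear Cfsg.Lib.Linear.TVec Cfsg.Lib.Linear.AutPSL
open Cfsg.Lib.Linear.Descent
open scoped MatrixGroups LinearAlgebra.Projectivization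

variable {F : Type} [Field F] [Fintype F] [CharP F 2]

theorem dual_coe (g : GL (Fin 3) F) : (dual g).val = (g⁻¹).val.transpose := rfl

/-- Automorphisms of `PSL(3, F)`. -/
abbrev Aut3 (F : Type) [Field F] := MulAut (PSL3 F)

/-- A semilinear map of vectors. -/
def sv (g : GL (Fin 3) F) (σ : F ≃+* F) (v : V3 F) : V3 F := g.val *ᵥ (fun i => σ (v i))

theorem sv_add (g : GL (Fin 3) F) (σ : F ≃+* F) (v w : V3 F) : sv g σ (v + w) = sv g σ v + sv g σ w := by
  rw [sv, sv, sv, ← Matrix.mulVec_add]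
  exact congrArg _ (funext fun i => map_add σ _ _)

theorem sv_smul (g : GL (Fin 3) F) (σ : F ≃+* F) (c : F) (v : V3 F) : sv g σ (c • v) = σ c • sv g σ v := by
  rw [sv, sv, ← Matrix.mulVec_smul]
  exact congrArg _ (funext fun i => map_mul σ _ _)

theorem sv_injective (g : GL (Fin 3) F) (σ : F ≃+* F) : Function.Injective (sv g σ) := fun v w h => by
  have h' := congrArg ((g⁻¹).val *ᵥ ·) h
  simp only [sv, Matrix.mulVec_mulVec, Units.inv_mul, Matrix.one_mulVec] at h'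
  exact funext fun i => σ.injective (congrFun h' i)

theorem sv_ne_zero (g : GL (Fin 3) F) (σ : F ≃+* F) {v : V3 F} (hv : v ≠ 0) : sv g σ v ≠ 0 := fun h =>
  hv (sv_injective g σ (h.trans (by
    rw [sv, show (fun i => σ ((0 : V3 F) i)) = 0 from funext fun i => map_zero σ, Matrix.mulVec_zero])))

theorem sv_dot (g : GL (Fin 3) F) (σ : F ≃+* F) (a v : V3 F) :
    sv (dual g) σ a ⬝ᵥ sv g σ v = σ (a ⬝ᵥ v) := by
  rw [sv, sv, dual_coe, Matrix.mulVec_transpose, ← Matrix.dotProduct_mulVec, Matrix.mulVec_mulVec, Units.inv_mul,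
    Matrix.one_mulVec]
  simp [dotProduct, map_sum]

theorem sv_dot_zero (g : GL (Fin 3) F) (σ : F ≃+* F) {a v : V3 F} (h : a ⬝ᵥ v = 0) :
    sv (dual g) σ a ⬝ᵥ sv g σ v = 0 := by rw [sv_dot, h, map_zero]

theorem lin_el (g : GL (Fin 3) F) (σ : F ≃+* F) {z a : V3 F} (h : a ⬝ᵥ z = 0) :
    (innd g * fld σ : Aut3 F) (el z a h) = el (sv g σ z) (sv (dual g) σ a) (sv_dot_zero g σ h) := by
  rw [MulAut.mul_apply, el, fld_mk, innd_mk, el]
  refine congrArg _ (Subtype.ext ?_)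
  rw [cnjHom_coe, frobHom_coe]
  show g.val * (tvMat z a).map σ * (g⁻¹).val = tvMat (sv g σ z) (sv (dual g) σ a)
  rw [tvMat, tvMat, Matrix.map_add _ (map_add σ), Matrix.map_one _ (map_zero σ) (map_one σ),
    show (Matrix.vecMulVec z a).map σ = Matrix.vecMulVec (fun i => σ (z i)) (fun i => σ (a i)) from
      Matrix.ext fun i j => by simp [Matrix.vecMulVec_apply],
    Matrix.mul_add, Matrix.add_mul, Matrix.mul_one, Units.mul_inv, Matrix.mul_vecMulVec, Matrix.vecMulVec_mul, sv, sv,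
    dual_coe, Matrix.mulVec_transpose]

theorem gr_el {z a : V3 F} (h : a ⬝ᵥ z = 0) :
    (gr : Aut3 F) (el z a h) = el a z (by rwa [dotProduct_comm]) := by
  have hinv : (tvS z a h)⁻¹ = tvS z a h := inv_eq_of_mul_eq_one_right (Subtype.ext (by
    show tvMat z a * tvMat z a = 1
    rw [tvMat_mul_right _ _ _ h, show a + a = 0 from funext fun i => CharTwo.add_self_eq_zero (a i),
      tvMat_zero_right]))
  rw [el, gr_mk, el]
  refine congrArg _ (Subtype.ext ?_)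
  rw [tinv_coe, hinv]
  show (tvMat z a).transpose = tvMat a z
  rw [tvMat, tvMat, Matrix.transpose_add, Matrix.transpose_one, Matrix.transpose_vecMulVec]

theorem grl_el (g : GL (Fin 3) F) (σ : F ≃+* F) {z a : V3 F} (h : a ⬝ᵥ z = 0) :
    (innd g * fld σ * gr : Aut3 F) (el z a h) =
      el (sv g σ a) (sv (dual g) σ z) (sv_dot_zero g σ (by rwa [dotProduct_comm])) := by
  rw [MulAut.mul_apply, gr_el, lin_el]

/-- The elations with centre `v`. -/
def cg (v : V3 F) : Subgroup (PSL3 F) where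
  carrier := {x | ∃ (a : V3 F) (h : a ⬝ᵥ v = 0), x = el v a h}
  one_mem' := ⟨0, zero_dotProduct v, ((el_eq_one_iff _).2 (Or.inr rfl)).symm⟩
  mul_mem' := by
    rintro _ _ ⟨a, ha, rfl⟩ ⟨b, hb, rfl⟩
    exact ⟨_, _, el_mul_right ha hb⟩
  inv_mem' := by
    rintro _ ⟨a, ha, rfl⟩
    exact ⟨a, ha, inv_eq_of_mul_eq_one_right (el_mul_self ha)⟩

/-- The elations with axis `b`. -/
def ag (b : V3 F) : Subgroup (PSL3 F) where
  carrier := {x | ∃ (z : V3 F) (h : b ⬝ᵥ z = 0), x = el z b h}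
  one_mem' := ⟨0, dotProduct_zero b, ((el_eq_one_iff _).2 (Or.inl rfl)).symm⟩
  mul_mem' := by
    rintro _ _ ⟨z, hz, rfl⟩ ⟨w, hw, rfl⟩
    exact ⟨_, _, el_mul_left hz hw⟩
  inv_mem' := by
    rintro _ ⟨z, hz, rfl⟩
    exact ⟨z, hz, inv_eq_of_mul_eq_one_right (el_mul_self hz)⟩

theorem el_mem_cg {v a : V3 F} (h : a ⬝ᵥ v = 0) : el v a h ∈ cg v := ⟨a, h, rfl⟩

theorem el_mem_ag {z b : V3 F} (h : b ⬝ᵥ z = 0) : el z b h ∈ ag b := ⟨z, h, rfl⟩

theorem cg_mul_self {v : V3 F} {x : PSL3 F} (hx : x ∈ cg v) : x * x = 1 := by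
  obtain ⟨a, h, rfl⟩ := hx
  exact el_mul_self h

theorem ag_mul_self {v : V3 F} {x : PSL3 F} (hx : x ∈ ag v) : x * x = 1 := by
  obtain ⟨a, h, rfl⟩ := hx
  exact el_mul_self h

theorem el_mem_cg_of_mk {z a v : V3 F} (h : a ⬝ᵥ z = 0) (hz : z ≠ 0) (hv : v ≠ 0) (e : mk F z hz = mk F v hv) :
    el z a h ∈ cg v := by
  obtain ⟨c, rfl⟩ := (mk_eq_mk_iff' F _ _ _ _).1 e
  refine ⟨c • a, ?_, ?_⟩
  · rw [smul_dotProduct, ← dotProduct_smul, h]
  · rw [el_eq_iff, Matrix.smul_vecMulVec, Matrix.vecMulVec_smul]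

theorem el_mem_ag_of_mk {z a b : V3 F} (h : a ⬝ᵥ z = 0) (ha : a ≠ 0) (hb : b ≠ 0) (e : mk F a ha = mk F b hb) :
    el z a h ∈ ag b := by
  obtain ⟨c, rfl⟩ := (mk_eq_mk_iff' F _ _ _ _).1 e
  refine ⟨c • z, ?_, ?_⟩
  · rw [dotProduct_smul, ← smul_dotProduct, h]
  · rw [el_eq_iff, Matrix.smul_vecMulVec, Matrix.vecMulVec_smul]

/-- A group of exponent two in `PSL(3, F)` consists of elations with one centre or one axis. -/
theorem exists_cg_or_ag (S : Subgroup (PSL3 F)) (hS : ∀ x ∈ S, x * x = 1) :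
    ∃ v : V3 F, v ≠ 0 ∧ (S ≤ cg v ∨ S ≤ ag v) := by
  have hcomm : ∀ x ∈ S, ∀ y ∈ S, Commute x y := fun x hx y hy => by
    have h := hS _ (mul_mem hx hy)
    have hx' := inv_eq_of_mul_eq_one_right (hS x hx)
    have hy' := inv_eq_of_mul_eq_one_right (hS y hy)
    calc x * y = (x * y)⁻¹ := (inv_eq_of_mul_eq_one_right h).symm
      _ = y * x := by rw [_root_.mul_inv_rev, hx', hy']
  have hinv : ∀ x ∈ S, x ≠ 1 → ∃ (z a : V3 F) (h : a ⬝ᵥ z = 0), z ≠ 0 ∧ a ≠ 0 ∧ x = el z a h :=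
    fun x hx hne => invol_eq_el (Invol.orderOf_eq_two_of hne (hS x hx))
  by_cases h1 : ∃ x ∈ S, x ≠ 1
  swap
  · push Not at h1
    exact ⟨Pi.single 0 1, Pi.single_ne_zero_iff.2 one_ne_zero, Or.inl fun x hx => by rw [h1 x hx]; exact one_mem _⟩
  obtain ⟨x₁, hx₁, hne₁⟩ := h1
  obtain ⟨z₁, a₁, e₁, hz₁, ha₁, rfl⟩ := hinv x₁ hx₁ hne₁
  by_cases hc : S ≤ cg z₁
  · exact ⟨z₁, hz₁, Or.inl hc⟩
  rw [SetLike.not_le_iff_exists] at hc
  obtain ⟨x₂, hx₂, hn₂⟩ := hc
  obtain ⟨z₂, a₂, e₂, hz₂, ha₂, rfl⟩ := hinv x₂ hx₂ fun e => hn₂ (e ▸ one_mem _)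
  have hl : mk F a₁ ha₁ = mk F a₂ ha₂ := (el_commute e₁ e₂ hz₁ ha₁ hz₂ ha₂ (hcomm _ hx₁ _ hx₂)).resolve_left
    fun e => hn₂ (el_mem_cg_of_mk e₂ hz₂ hz₁ e.symm)
  refine ⟨a₁, ha₁, Or.inr fun x hx => ?_⟩
  rcases eq_or_ne x 1 with rfl | hne
  · exact one_mem _
  obtain ⟨z, a, e, hz, ha, rfl⟩ := hinv x hx hne
  refine el_mem_ag_of_mk e ha ha₁ ?_
  rcases el_commute e₁ e hz₁ ha₁ hz ha (hcomm _ hx₁ _ hx) with h | h
  · rcases el_commute e₂ e hz₂ ha₂ hz ha (hcomm _ hx₂ _ hx) with h' | h'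
    · exact absurd (el_mem_cg_of_mk e₂ hz₂ hz₁ (h'.trans h.symm)) hn₂
    · exact h'.symm.trans hl.symm
  · exact h.symm

theorem card_perp_all {v : V3 F} (hv : v ≠ 0) :
    Nat.card {a : V3 F // a ⬝ᵥ v = 0} = Fintype.card F ^ 2 := by
  let f : V3 F →ₗ[F] F :=
    { toFun := fun a => a ⬝ᵥ v
      map_add' := fun a b => add_dotProduct a b _
      map_smul' := fun c a => smul_dotProduct c a _ }
  have hsurj : Function.Surjective f := by
    refine LinearMap.surjective fun e => hv (dotProduct_eq_zero _ fun w => ?_)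
    rw [dotProduct_comm]
    exact LinearMap.congr_fun e w
  have h1 := Submodule.card_eq_card_quotient_mul_card (LinearMap.ker f)
  rw [Nat.card_congr (f.quotKerEquivOfSurjective hsurj).toEquiv, Nat.card_fun, Nat.card_eq_fintype_card (α := F),
    Nat.card_eq_fintype_card (α := Fin 3), Fintype.card_fin, mul_comm] at h1
  refine Nat.eq_of_mul_eq_mul_right (Fintype.card_pos (α := F)) ?_
  rw [← pow_succ, show 2 + 1 = 3 from rfl, h1, mul_comm]
  rfl

theorem card_cg {v : V3 F} (hv : v ≠ 0) : Nat.card (cg v) = Fintype.card F ^ 2 := by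
  rw [← card_perp_all hv]
  refine (Nat.card_congr (Equiv.ofBijective
    (fun a : {a : V3 F // a ⬝ᵥ v = 0} => (⟨el v a.1 a.2, el_mem_cg a.2⟩ : cg v)) ⟨fun a b e => ?_, ?_⟩)).symm
  · have hM := (el_eq_iff a.2 b.2).1 (congrArg Subtype.val e)
    obtain ⟨k, hk⟩ := Function.ne_iff.1 hv
    exact Subtype.ext (funext fun j => mul_left_cancel₀ hk (by
      simpa [Matrix.vecMulVec_apply] using congrFun (congrFun hM k) j))
  · rintro ⟨_, a, ha, rfl⟩
    exact ⟨⟨a, ha⟩, rfl⟩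

theorem card_ag {v : V3 F} (hv : v ≠ 0) : Nat.card (ag v) = Fintype.card F ^ 2 := by
  rw [← card_perp_all hv]
  refine (Nat.card_congr (Equiv.ofBijective
    (fun a : {a : V3 F // a ⬝ᵥ v = 0} => (⟨el a.1 v (by rw [dotProduct_comm, a.2]), el_mem_ag _⟩ : ag v))
    ⟨fun a b e => ?_, ?_⟩)).symm
  · have hM := (el_eq_iff _ _).1 (congrArg Subtype.val e)
    obtain ⟨k, hk⟩ := Function.ne_iff.1 hv
    exact Subtype.ext (funext fun j => mul_right_cancel₀ hk (by
      simpa [Matrix.vecMulVec_apply] using congrFun (congrFun hM j) k))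
  · rintro ⟨_, a, ha, rfl⟩
    exact ⟨⟨a, by rw [dotProduct_comm, ha]⟩, rfl⟩

/-- The centre is trivial. -/
theorem conj_injective : Function.Injective (MulAut.conj : PSL3 F →* Aut3 F) := by
  rw [injective_iff_map_eq_one]
  intro x hx
  obtain ⟨s, rfl⟩ := QuotientGroup.mk_surjective x
  rw [conj_mk] at hx
  obtain ⟨r, hr⟩ := innd_eq_one hx
  rw [QuotientGroup.eq_one_iff, Matrix.SpecialLinearGroup.mem_center_iff]
  refine ⟨r, ?_, hr⟩
  have h := congrArg Matrix.det hr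
  rw [Matrix.scalar_apply, Matrix.det_diagonal, Finset.prod_const, Finset.card_univ] at h
  rw [h]
  exact s.2

/-- An inner-diagonal automorphism with a cube as determinant is inner. -/
theorem innd_inner_of_cube {g : GL (Fin 3) F} {d : F} (hd : d ^ 3 = g.val.det) :
    ∃ x : PSL3 F, (innd g : Aut3 F) = MulAut.conj x := by
  have hd0 : d ≠ 0 := fun e => by
    have h := congrArg Matrix.det (Units.mul_inv g)
    rw [Matrix.det_mul, ← hd, e, Matrix.det_one, zero_pow (by omega), zero_mul] at h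
    exact one_ne_zero h.symm
  let s : SL3 F := ⟨d⁻¹ • g.val, by
    rw [Matrix.det_smul, Fintype.card_fin, ← hd, ← mul_pow, inv_mul_cancel₀ hd0, one_pow]⟩
  refine ⟨QuotientGroup.mk s, ?_⟩
  rw [conj_mk, innd_eq_innd (by omega)]
  refine ⟨Units.mk0 d hd0, Units.ext ?_⟩
  rw [Units.val_mul, sc_val, smul_mul_assoc, one_mul]
  show g.val = d • d⁻¹ • g.val
  rw [smul_smul, mul_inv_cancel₀ hd0, one_smul]

/-- An inner-diagonal involution is inner. -/
theorem innd_inner_of_sq {g : GL (Fin 3) F} (h : (innd g : Aut3 F) * innd g = 1) :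
    ∃ x : PSL3 F, (innd g : Aut3 F) = MulAut.conj x := by
  rw [← map_mul] at h
  obtain ⟨c, hc⟩ := (innd_eq_one_iff (by omega)).1 h
  have hdet := congrArg (fun u : GL (Fin 3) F => u.val.det) hc
  simp only [Units.val_mul, Matrix.det_mul, sc_val, Matrix.det_smul, Fintype.card_fin, Matrix.det_one, mul_one] at hdet
  refine innd_inner_of_cube (d := g.val.det / (c : F)) ?_
  have hg0 : g.val.det ≠ 0 := fun e => by
    rw [e, mul_zero] at hdet
    exact c.ne_zero ((pow_eq_zero_iff (by omega : (3 : ℕ) ≠ 0)).1 hdet.symm)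
  rw [div_pow, ← hdet]
  field_simp

end Cfsg.Lib.LThreeExt
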