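import Cfsg.Agent.Lib.LThreeExt.Plane
import Cfsg.Agent.Lib.Invol.Basic

/-!
# The involutions of `PSL(3, F)` in characteristic two
-/

set_option autoImplicit false
set_option linter.unusedSectionVars false
set_option linter.style.haveILetI false

namespace Cfsg.Lib.LThreeExt

open Matrix Projectivization Cfsg.Lib Cfsg.Lib.Linear Cfsg.Lib.Linear.TVec Cfsg.Lib.Linear.AutPSL
open scoped MatrixGroups LinearAlgebra.Projectivization

variable {F : Type} [Field F] [Fintype F] [CharP F 2]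

theorem el_mul_self {z a : V3 F} (h : a ⬝ᵥ z = 0) : el z a h * el z a h = 1 := by
  rw [el_mul_right h h, el_eq_one_iff]
  exact Or.inr (funext fun i => CharTwo.add_self_eq_zero (a i))

theorem orderOf_el {z a : V3 F} (h : a ⬝ᵥ z = 0) (hz : z ≠ 0) (ha : a ≠ 0) : orderOf (el z a h) = 2 :=
  Invol.orderOf_eq_two_of (fun e => ((el_eq_one_iff h).1 e).elim hz ha) (el_mul_self h)

/-- Every involution is an elation. -/
theorem invol_eq_el {x : PSL3 F} (hx : orderOf x = 2) :
    ∃ (z a : V3 F) (h : a ⬝ᵥ z = 0), z ≠ 0 ∧ a ≠ 0 ∧ x = el z a h := by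
  obtain ⟨s₀, rfl⟩ := QuotientGroup.mk_surjective x
  have hx2 := Invol.inv_mul_self hx
  rw [← QuotientGroup.mk_mul, QuotientGroup.eq_one_iff] at hx2
  obtain ⟨r, hr, hrs⟩ := Matrix.SpecialLinearGroup.mem_center_iff.1 hx2
  rw [Fintype.card_fin] at hr
  set s := s₀ ^ 3 with hs
  have hs2 : s.1 * s.1 = 1 := by
    have e : s * s = (s₀ * s₀) ^ 3 := by rw [hs, ← pow_add, ← pow_two, ← pow_mul]
    rw [← Matrix.SpecialLinearGroup.coe_mul, e, Matrix.SpecialLinearGroup.coe_pow, ← hrs, ← map_pow, hr, map_one]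
  have hmk : (QuotientGroup.mk s : PSL3 F) = QuotientGroup.mk s₀ := by
    rw [hs, QuotientGroup.mk_pow, pow_succ, pow_two, Invol.inv_mul_self hx, one_mul]
  set M := s.1 + 1 with hM
  have hM2 : M * M = 0 := by
    rw [hM, add_mul, mul_add, hs2, one_mul, mul_one]
    ext i j
    simp only [Matrix.add_apply, Matrix.zero_apply]
    linear_combination (CharTwo.add_self_eq_zero ((1 : Matrix (Fin 3) (Fin 3) F) i j)) +
      (CharTwo.add_self_eq_zero (s.1 i j))
  have hsM : s.1 = 1 + M := by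
    rw [hM, add_comm s.1, ← add_assoc]
    ext i j
    simp only [Matrix.add_apply]
    linear_combination (-1 : F) * (CharTwo.add_self_eq_zero ((1 : Matrix (Fin 3) (Fin 3) F) i j))
  have hM0 : M ≠ 0 := fun e => Invol.ne_one hx (by
    rw [← hmk, show s = 1 from Subtype.ext (by rw [hsM, e, add_zero, Matrix.SpecialLinearGroup.coe_one]),
      QuotientGroup.mk_one])
  set L := Matrix.mulVecLin M with hL
  have hle : LinearMap.range L ≤ LinearMap.ker L := by
    rintro _ ⟨v, rfl⟩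
    rw [LinearMap.mem_ker, hL, Matrix.mulVecLin_apply, Matrix.mulVecLin_apply, Matrix.mulVec_mulVec, hM2,
      Matrix.zero_mulVec]
  have hdim := LinearMap.finrank_range_add_finrank_ker L
  rw [Module.finrank_fintype_fun_eq_card, Fintype.card_fin] at hdim
  have h1 : Module.finrank F (LinearMap.range L) ≤ 1 := by
    have := Submodule.finrank_mono hle
    omega
  obtain ⟨k, hk⟩ : ∃ k, M *ᵥ Pi.single k (1 : F) ≠ 0 := by
    by_contra hc
    push Not at hc
    exact hM0 (Matrix.ext_of_mulVec_single fun i => by rw [hc i, Matrix.zero_mulVec])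
  set z := M *ᵥ Pi.single k (1 : F) with hz
  have hspan : Submodule.span F {z} = LinearMap.range L := by
    refine Submodule.eq_of_le_of_finrank_le ((Submodule.span_singleton_le_iff_mem _ _).2 ⟨_, rfl⟩) ?_
    rw [finrank_span_singleton hk]
    exact h1
  have hcol : ∀ j, ∃ c : F, c • z = M *ᵥ Pi.single j (1 : F) := fun j =>
    Submodule.mem_span_singleton.1 (hspan ▸ ⟨_, rfl⟩)
  choose a ha using hcol
  have hMza : M = Matrix.vecMulVec z a := by
    ext i j
    have := congrFun (ha j) i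
    rw [Matrix.mulVec_single_one, Pi.smul_apply, smul_eq_mul, Matrix.col_apply] at this
    rw [Matrix.vecMulVec_apply, ← this, mul_comm]
  have ha0 : a ≠ 0 := fun e => hM0 (by rw [hMza, e, Matrix.vecMulVec_zero])
  have haz : a ⬝ᵥ z = 0 := by
    have h2 := hM2
    rw [hMza, Matrix.vecMulVec_mul_vecMulVec, Matrix.vecMulVec_eq_zero] at h2
    exact ((smul_eq_zero.1 (h2.resolve_left hk)).resolve_right ha0)
  exact ⟨z, a, haz, hk, ha0, hmk.symm.trans (congrArg QuotientGroup.mk (Subtype.ext (by rw [hsM, hMza]; rfl)))⟩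

/-- All involutions are conjugate. -/
theorem invol_isConj {x y : PSL3 F} (hx : orderOf x = 2) (hy : orderOf y = 2) : IsConj x y := by
  have h0 : (Pi.single 2 (1 : F) : V3 F) ⬝ᵥ Pi.single 0 1 = 0 := by simp
  suffices key : ∀ w : PSL3 F, orderOf w = 2 → IsConj (el _ _ h0) w from (key x hx).symm.trans (key y hy)
  intro w hw
  obtain ⟨z, a, h, hz, ha, rfl⟩ := invol_eq_el hw
  obtain ⟨p, hp, hpz⟩ := Set.exists_ne_of_one_lt_ncard
    (show 1 < {p : Pt F | Inc p (mk F a ha)}.ncard by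
      have := Fintype.one_lt_card (α := F)
      rw [card_points_on]; omega) (mk F z hz)
  have hpa : a ⬝ᵥ p.rep = 0 := (inc_right p ha).1 hp
  obtain ⟨w₀, hw₀⟩ : ∃ w₀ : V3 F, a ⬝ᵥ w₀ = 1 := by
    obtain ⟨i, hi⟩ := Function.ne_iff.1 ha
    exact ⟨Pi.single i (a i)⁻¹, by rw [dotProduct_single]; exact mul_inv_cancel₀ hi⟩
  let B : Matrix (Fin 3) (Fin 3) F := Matrix.of fun i => ![z i, p.rep i, w₀ i]
  have hBv : ∀ x : V3 F, B *ᵥ x = x 0 • z + x 1 • p.rep + x 2 • w₀ := fun x => by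
    ext i
    simp [B, Matrix.mulVec, dotProduct, Fin.sum_univ_three]
    ring
  have hB : B.det ≠ 0 := by
    intro hc
    obtain ⟨v, hv, hv0⟩ := Matrix.exists_mulVec_eq_zero_iff.2 hc
    rw [hBv] at hv0
    have h2 := congrArg (a ⬝ᵥ ·) hv0
    simp only [dotProduct_add, dotProduct_smul, smul_eq_mul, h, hpa, hw₀, dotProduct_zero, mul_zero, mul_one,
      zero_add] at h2
    rw [h2, zero_smul, add_zero] at hv0
    rcases eq_or_ne (v 1) 0 with h1 | h1
    · rw [h1, zero_smul, add_zero, smul_eq_zero, or_iff_left hz] at hv0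
      exact hv (funext fun i => by fin_cases i <;> assumption)
    · refine hpz ?_
      conv_lhs => rw [← mk_rep p]
      refine (mk_eq_mk_iff' F _ _ _ _).2 ⟨-(v 0 / v 1), ?_⟩
      have e : v 1 • p.rep = -(v 0 • z) := eq_neg_of_add_eq_zero_right hv0
      rw [← inv_smul_smul₀ h1 p.rep, e, smul_neg, smul_smul, neg_smul, div_eq_inv_mul]
  let B' : Matrix (Fin 3) (Fin 3) F := B * Matrix.diagonal ![1, B.det⁻¹, 1]
  have hB' : B'.det = 1 := by
    rw [Matrix.det_mul, Matrix.det_diagonal, Fin.prod_univ_three]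
    simp [hB]
  have hB'v : ∀ x : V3 F, B' *ᵥ x = x 0 • z + (B.det⁻¹ * x 1) • p.rep + x 2 • w₀ := fun x => by
    rw [← Matrix.mulVec_mulVec, hBv]
    simp [Matrix.mulVec_diagonal]
  let S : SL3 F := ⟨B', hB'⟩
  refine isConj_iff.2 ⟨(QuotientGroup.mk S : PSL3 F), ?_⟩
  refine (el_conj S h0).trans ((el_eq_iff _ _).2 ?_)
  congr 1
  · show B' *ᵥ _ = z
    rw [hB'v]
    simp
  · show (S⁻¹).1.transpose *ᵥ _ = a
    refine dotProduct_eq _ _ fun v => ?_
    set u := (S⁻¹).1 *ᵥ v with hu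
    have hv : v = B' *ᵥ u := by
      rw [hu, Matrix.mulVec_mulVec]
      show v = (S * S⁻¹).1 *ᵥ v
      rw [mul_inv_cancel, Matrix.SpecialLinearGroup.coe_one, Matrix.one_mulVec]
    rw [Matrix.mulVec_transpose, ← Matrix.dotProduct_mulVec, ← hu, hv, hB'v, dotProduct_add, dotProduct_add,
      dotProduct_smul, dotProduct_smul, dotProduct_smul, h, hpa, hw₀, single_dotProduct]
    simp

/-- The number of involutions. -/
theorem card_invol : Nat.card {x : PSL3 F // orderOf x = 2} =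
    (Fintype.card F ^ 2 - 1) * (Fintype.card F ^ 2 + Fintype.card F + 1) := by
  have e : (Σ p : Pt F, {a : V3 F // a ≠ 0 ∧ a ⬝ᵥ p.rep = 0}) ≃ {x : PSL3 F // orderOf x = 2} := by
    refine Equiv.ofBijective (fun x => ⟨el x.1.rep x.2.1 x.2.2.2, orderOf_el _ x.1.rep_nonzero x.2.2.1⟩) ⟨?_, ?_⟩
    · rintro ⟨p, a, ha, hpa⟩ ⟨p', a', ha', hpa'⟩ he
      have he' : el p.rep a hpa = el p'.rep a' hpa' := congrArg Subtype.val he
      obtain ⟨e1, -⟩ := el_data hpa hpa' p.rep_nonzero ha p'.rep_nonzero ha' he'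
      rw [mk_rep, mk_rep] at e1
      subst e1
      have hM := (el_eq_iff hpa hpa').1 he'
      obtain ⟨k, hk⟩ := Function.ne_iff.1 p.rep_nonzero
      have : a = a' := funext fun j => mul_left_cancel₀ hk (by
        simpa [Matrix.vecMulVec_apply] using congrFun (congrFun hM k) j)
      subst this
      rfl
    · rintro ⟨x, hx⟩
      obtain ⟨z, a, h, hz, ha, rfl⟩ := invol_eq_el hx
      obtain ⟨c, hc⟩ := exists_smul_eq_mk_rep F z hz
      have hca : ((c : F)⁻¹ • a) ⬝ᵥ (mk F z hz).rep = 0 := by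
        rw [← hc, Units.smul_def, smul_dotProduct, dotProduct_smul, h, smul_zero, smul_zero]
      refine ⟨⟨mk F z hz, (c : F)⁻¹ • a, smul_ne_zero (inv_ne_zero c.ne_zero) ha, hca⟩, Subtype.ext ?_⟩
      show el _ _ hca = el z a h
      rw [el_eq_iff, ← hc, Units.smul_def, Matrix.smul_vecMulVec, Matrix.vecMulVec_smul, smul_smul,
        mul_inv_cancel₀ c.ne_zero, one_smul]
  letI := Fintype.ofFinite (Pt F)
  rw [← Nat.card_congr e, Nat.card_sigma, Finset.sum_congr rfl (fun p _ => card_perp p), Finset.sum_const,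
    Finset.card_univ, smul_eq_mul, ← Nat.card_eq_fintype_card, card_pt, mul_comm]

end Cfsg.Lib.LThreeExt
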