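import Cfsg.Agent.Lib.LThreeExt.Groups

/-!
# Elementary abelian groups of order `q²` of automorphisms of `PSL(3, q)`
-/

set_option autoImplicit false
set_option linter.unusedSectionVars false
set_option linter.style.haveILetI false

namespace Cfsg.Lib.LThreeExt

open Matrix Projectivization Cfsg.Lib Cfsg.Lib.Linear Cfsg.Lib.Linear.TVec Cfsg.Lib.Linear.AutPSL
open Cfsg.Lib.Linear.Descent
open scoped MatrixGroups LinearAlgebra.Projectivization

variable {F : Type} [Field F] [Fintype F] [CharP F 2]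

theorem exists_card_eq : ∃ n, 1 ≤ n ∧ Fintype.card F = 2 ^ n := by
  obtain ⟨d, -, hd⟩ := FiniteField.card F 2
  exact ⟨d, d.pos, hd⟩

/-- There is at most one non-trivial field automorphism of order two. -/
theorem aut_two_unique {σ τ : F ≃+* F} (hσ : σ * σ = 1) (hτ : τ * τ = 1) (h1 : σ ≠ 1) (h2 : τ ≠ 1) : σ = τ := by
  haveI : Fact (Nat.Prime 2) := ⟨Nat.prime_two⟩
  obtain ⟨n, hn, hF⟩ := exists_card_eq (F := F)
  obtain ⟨E⟩ := exists_galEquiv hn hF
  haveI : NeZero n := ⟨by omega⟩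
  have key : ∀ ρ : F ≃+* F, ρ * ρ = 1 → ρ ≠ 1 → 2 * (Multiplicative.toAdd (E ρ)).val = n := by
    intro ρ h h'
    have e : Multiplicative.toAdd (E ρ) + Multiplicative.toAdd (E ρ) = 0 := by
      rw [← toAdd_mul, ← map_mul, h, map_one, toAdd_one]
    have h0 : (Multiplicative.toAdd (E ρ)).val ≠ 0 := fun e0 => h' (E.injective (by
      rw [map_one]; exact (ZMod.val_eq_zero _).1 e0))
    have h1 : n ∣ 2 * (Multiplicative.toAdd (E ρ)).val := by
      rw [← ZMod.natCast_eq_zero_iff, Nat.cast_mul, ZMod.natCast_zmod_val, Nat.cast_two, two_mul]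
      exact e
    obtain ⟨k, hk⟩ := h1
    have h3 := ZMod.val_lt (Multiplicative.toAdd (E ρ))
    rcases Nat.lt_or_ge k 2 with hk2 | hk2
    · interval_cases k <;> omega
    · have := Nat.mul_le_mul_left n hk2
      omega
  have e := key σ hσ h1
  have e' := key τ hτ h2
  exact E.injective (show Multiplicative.toAdd (E σ) = Multiplicative.toAdd (E τ) from
    ZMod.val_injective n (by omega))

/-- The order of the fixed field. -/
noncomputable def fixCard (σ : F ≃+* F) : ℕ := {c : F | σ c = c}.ncard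

theorem fixCard_pos (σ : F ≃+* F) : 0 < fixCard σ :=
  (Set.ncard_pos (Set.toFinite _)).2 ⟨0, map_zero σ⟩

theorem fixCard_one : fixCard (1 : F ≃+* F) = Fintype.card F := by
  rw [fixCard, Set.eq_univ_of_forall (s := {c : F | (1 : F ≃+* F) c = c}) fun c => rfl, Set.ncard_univ,
    Nat.card_eq_fintype_card]

theorem fixCard_sq {σ : F ≃+* F} (h : σ * σ = 1) (h1 : σ ≠ 1) : fixCard σ * fixCard σ = Fintype.card F := by
  have ho : orderOf σ = 2 := Invol.orderOf_eq_two_of h1 h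
  have hk := card_fixedF_pow σ
  rw [ho, pow_two] at hk
  rw [fixCard, ← Nat.card_coe_set_eq]
  exact hk

/-- The number of parallel fixed vectors of a semilinear map. -/
theorem fix_line {σ : F ≃+* F} {R L : V3 F → Matrix (Fin 3) (Fin 3) F} (hR : ∀ (c : F) a, R (c • a) = c • R a)
    (hR0 : ∀ a, R a = 0 → a = 0) (hL : ∀ (c : F) a, L (c • a) = σ c • L a) {S : Set (V3 F)}
    (hS : ∀ a ∈ S, L a = R a) (hpar : ∀ a ∈ S, ∀ b ∈ S, crossProduct a b = 0) : S.ncard ≤ fixCard σ := by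
  by_cases h0 : ∀ a ∈ S, a = 0
  · calc S.ncard ≤ ({0} : Set (V3 F)).ncard := Set.ncard_le_ncard h0 (Set.toFinite _)
      _ ≤ fixCard σ := by rw [Set.ncard_singleton]; exact fixCard_pos σ
  push Not at h0
  obtain ⟨a, ha, ha0⟩ := h0
  refine le_trans (Set.ncard_le_ncard (t := (fun c : F => c • a) '' {c : F | σ c = c}) (fun b hb => ?_)
    (Set.toFinite _)) (Set.ncard_image_le (Set.toFinite _))
  rcases eq_or_ne b 0 with rfl | hb0
  · exact ⟨0, map_zero σ, zero_smul _ _⟩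
  obtain ⟨c, hc⟩ := (mk_eq_mk_iff' F _ _ hb0 ha0).1 (mk_eq_of_cross ha0 hb0 (hpar a ha b hb)).symm
  refine ⟨c, ?_, hc⟩
  have e := hS b hb
  rw [← hc, hL, hR, hS a ha] at e
  have h2 : (σ c - c) • R a = 0 := by rw [sub_smul, e, sub_self]
  exact sub_eq_zero.1 ((smul_eq_zero.1 h2).resolve_right fun e0 => ha0 (hR0 a e0))

/-- The number of fixed vectors in a plane of a semilinear map. -/
theorem fix_plane {σ : F ≃+* F} {R L : V3 F → Matrix (Fin 3) (Fin 3) F} (hR : ∀ (c : F) a, R (c • a) = c • R a)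
    (hRadd : ∀ a b, R (a + b) = R a + R b) (hR0 : ∀ a, R a = 0 → a = 0)
    (hL : ∀ (c : F) a, L (c • a) = σ c • L a) (hLadd : ∀ a b, L (a + b) = L a + L b) {S : Set (V3 F)}
    (hS : ∀ a ∈ S, L a = R a) {u : V3 F} (hu : u ≠ 0) (hperp : ∀ a ∈ S, a ⬝ᵥ u = 0) :
    S.ncard ≤ fixCard σ * fixCard σ := by
  by_cases hpar : ∀ a ∈ S, ∀ b ∈ S, crossProduct a b = 0
  · exact le_trans (fix_line hR hR0 hL hS hpar) (Nat.le_mul_of_pos_left _ (fixCard_pos σ))
  push Not at hpar
  obtain ⟨a, ha, b, hb, hab⟩ := hpar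
  have hli := crossProduct_ne_zero_iff_linearIndependent.1 hab
  have hspan : ∀ x ∈ S, ∃ c d : F, c • a + d • b = x := by
    intro x hx
    let f : V3 F →ₗ[F] F :=
      { toFun := fun v => v ⬝ᵥ u
        map_add' := fun v w => add_dotProduct v w _
        map_smul' := fun c v => smul_dotProduct c v _ }
    have hker : Module.finrank F (LinearMap.ker f) ≤ 2 := by
      have hne : f ≠ 0 := fun e => hu (dotProduct_eq_zero _ fun w => by
        rw [dotProduct_comm]; exact LinearMap.congr_fun e w)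
      have := Module.Dual.finrank_ker_add_one_of_ne_zero hne
      rw [Module.finrank_fintype_fun_eq_card, Fintype.card_fin] at this
      omega
    have hle : Submodule.span F (Set.range ![a, b]) ≤ LinearMap.ker f := by
      rw [Submodule.span_le, Matrix.range_cons, Matrix.range_cons, Matrix.range_empty, Set.union_empty]
      rintro v (rfl | rfl)
      · exact hperp _ ha
      · exact hperp _ hb
    have heq := Submodule.eq_of_le_of_finrank_le hle (by
      rw [finrank_span_eq_card hli, Fintype.card_fin]; exact hker)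
    have hx' : x ∈ Submodule.span F (Set.range ![a, b]) := by rw [heq]; exact hperp x hx
    rw [Matrix.range_cons, Matrix.range_cons, Matrix.range_empty, Set.union_empty, Set.singleton_union,
      Submodule.mem_span_pair] at hx'
    exact hx'
  refine le_trans (Set.ncard_le_ncard
    (t := (fun p : F × F => p.1 • a + p.2 • b) '' ({c : F | σ c = c} ×ˢ {c : F | σ c = c})) (fun x hx => ?_)
    (Set.toFinite _)) ((Set.ncard_image_le (Set.toFinite _)).trans_eq Set.ncard_prod)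
  obtain ⟨c, d, hcd⟩ := hspan x hx
  have e := hS x hx
  rw [← hcd, hLadd, hL, hL, hS a ha, hS b hb, hRadd, hR, hR] at e
  have h2 : R ((σ c - c) • a + (σ d - d) • b) = 0 := by
    rw [hRadd, hR, hR, sub_smul, sub_smul, ← add_sub_add_comm, e, sub_self]
  have h3 := LinearIndependent.pair_iff.1 hli _ _ (hR0 _ h2)
  exact ⟨(c, d), ⟨sub_eq_zero.1 h3.1, sub_eq_zero.1 h3.2⟩, hcd⟩

theorem vm_eq_zero_left {v a : V3 F} (hv : v ≠ 0) (h : Matrix.vecMulVec v a = 0) : a = 0 :=
  (Matrix.vecMulVec_eq_zero.1 h).resolve_left hv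

theorem vm_eq_zero_right {v a : V3 F} (hv : v ≠ 0) (h : Matrix.vecMulVec a v = 0) : a = 0 :=
  (Matrix.vecMulVec_eq_zero.1 h).resolve_right hv

theorem vm_smul_left (c : F) (a b : V3 F) : Matrix.vecMulVec (c • a) b = c • Matrix.vecMulVec a b :=
  Matrix.smul_vecMulVec c a b

theorem vm_smul_right (c : F) (a b : V3 F) : Matrix.vecMulVec a (c • b) = c • Matrix.vecMulVec a b :=
  Matrix.vecMulVec_smul c a b

/-- A fixed set of a graph type automorphism consists of parallel vectors. -/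
theorem grl_centre {g : GL (Fin 3) F} {σ : F ≃+* F} {v a b : V3 F} (hv : v ≠ 0) (ha : a ⬝ᵥ v = 0) (hb : b ⬝ᵥ v = 0)
    (ea : (innd g * fld σ * gr : Aut3 F) (el v a ha) = el v a ha)
    (eb : (innd g * fld σ * gr : Aut3 F) (el v b hb) = el v b hb) : crossProduct a b = 0 := by
  rcases eq_or_ne a 0 with rfl | ha0
  · rw [map_zero, LinearMap.zero_apply]
  rcases eq_or_ne b 0 with rfl | hb0
  · rw [map_zero]
  rw [grl_el] at ea eb
  obtain ⟨-, hA⟩ := el_data _ ha (sv_ne_zero g σ ha0) (sv_ne_zero _ σ hv) hv ha0 ea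
  obtain ⟨-, hB⟩ := el_data _ hb (sv_ne_zero g σ hb0) (sv_ne_zero _ σ hv) hv hb0 eb
  by_contra hne
  exact crossProduct_ne_zero_iff_linearIndependent.1 hne |> fun hli => by
    obtain ⟨c, hc⟩ := (mk_eq_mk_iff' F _ _ _ _).1 (hB.symm.trans hA)
    have := (LinearIndependent.pair_iff.1 hli c (-1) (by rw [hc, neg_one_smul, add_neg_cancel])).2
    exact neg_ne_zero.2 one_ne_zero this

/-- A fixed set of a graph type automorphism consists of parallel vectors. -/
theorem grl_axis {g : GL (Fin 3) F} {σ : F ≃+* F} {v a b : V3 F} (hv : v ≠ 0) (ha : v ⬝ᵥ a = 0) (hb : v ⬝ᵥ b = 0)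
    (ea : (innd g * fld σ * gr : Aut3 F) (el a v ha) = el a v ha)
    (eb : (innd g * fld σ * gr : Aut3 F) (el b v hb) = el b v hb) : crossProduct a b = 0 := by
  rcases eq_or_ne a 0 with rfl | ha0
  · rw [map_zero, LinearMap.zero_apply]
  rcases eq_or_ne b 0 with rfl | hb0
  · rw [map_zero]
  rw [grl_el] at ea eb
  obtain ⟨hA, -⟩ := el_data _ ha (sv_ne_zero g σ hv) (sv_ne_zero _ σ ha0) ha0 hv ea
  obtain ⟨hB, -⟩ := el_data _ hb (sv_ne_zero g σ hv) (sv_ne_zero _ σ hb0) hb0 hv eb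
  by_contra hne
  have hli := crossProduct_ne_zero_iff_linearIndependent.1 hne
  obtain ⟨c, hc⟩ := (mk_eq_mk_iff' F _ _ _ _).1 (hB.symm.trans hA)
  have := (LinearIndependent.pair_iff.1 hli c (-1) (by rw [hc, neg_one_smul, add_neg_cancel])).2
  exact neg_ne_zero.2 one_ne_zero this

theorem card_le_cg {I : Subgroup (PSL3 F)} {v : V3 F} (hv : v ≠ 0) (hI : I ≤ cg v) :
    Nat.card I ≤ {a : V3 F | ∃ h : a ⬝ᵥ v = 0, el v a h ∈ I}.ncard := by
  rw [← Nat.card_coe_set_eq]
  choose f hf e using fun x : I => hI x.2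
  refine Nat.card_le_card_of_injective (fun x => ⟨f x, hf x, e x ▸ x.2⟩) fun x y h => Subtype.ext ?_
  have h' : f x = f y := congrArg Subtype.val h
  rw [e x, e y]
  exact (el_eq_iff _ _).2 (by rw [h'])

theorem card_le_ag {I : Subgroup (PSL3 F)} {v : V3 F} (hv : v ≠ 0) (hI : I ≤ ag v) :
    Nat.card I ≤ {a : V3 F | ∃ h : v ⬝ᵥ a = 0, el a v h ∈ I}.ncard := by
  rw [← Nat.card_coe_set_eq]
  choose f hf e using fun x : I => hI x.2
  refine Nat.card_le_card_of_injective (fun x => ⟨f x, hf x, e x ▸ x.2⟩) fun x y h => Subtype.ext ?_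
  have h' : f x = f y := congrArg Subtype.val h
  rw [e x, e y]
  exact (el_eq_iff _ _).2 (by rw [h'])

theorem lin_bound {g : GL (Fin 3) F} {σ : F ≃+* F} {I : Subgroup (PSL3 F)} (hI : ∀ x ∈ I, x * x = 1)
    (hfix : ∀ x ∈ I, (innd g * fld σ : Aut3 F) x = x) : Nat.card I ≤ fixCard σ * fixCard σ := by
  obtain ⟨v, hv, h | h⟩ := exists_cg_or_ag I hI
  · refine (card_le_cg hv h).trans (fix_plane (R := fun a => Matrix.vecMulVec v a)
      (L := fun a => Matrix.vecMulVec (sv g σ v) (sv (dual g) σ a)) (fun c a => vm_smul_right c v a)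
      (fun a b => Matrix.vecMulVec_add v a b) (fun a => vm_eq_zero_left hv)
      (fun c a => by rw [sv_smul, vm_smul_right]) (fun a b => by rw [sv_add, Matrix.vecMulVec_add]) ?_ hv
      fun a ha => ha.1)
    rintro a ⟨ha, hm⟩
    exact (el_eq_iff _ _).1 ((lin_el g σ ha).symm.trans (hfix _ hm))
  · refine (card_le_ag hv h).trans (fix_plane (R := fun a => Matrix.vecMulVec a v)
      (L := fun a => Matrix.vecMulVec (sv g σ a) (sv (dual g) σ v)) (fun c a => vm_smul_left c a v)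
      (fun a b => Matrix.add_vecMulVec a b v) (fun a => vm_eq_zero_right hv)
      (fun c a => by rw [sv_smul, vm_smul_left]) (fun a b => by rw [sv_add, Matrix.add_vecMulVec]) ?_ hv
      fun a ha => by rw [dotProduct_comm]; exact ha.1)
    rintro a ⟨ha, hm⟩
    exact (el_eq_iff _ _).1 ((lin_el g σ ha).symm.trans (hfix _ hm))

theorem grl_bound {g : GL (Fin 3) F} {σ : F ≃+* F} {I : Subgroup (PSL3 F)} (hI : ∀ x ∈ I, x * x = 1)
    (hfix : ∀ x ∈ I, (innd g * fld σ * gr : Aut3 F) x = x) : Nat.card I ≤ fixCard σ := by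
  obtain ⟨v, hv, h | h⟩ := exists_cg_or_ag I hI
  · refine (card_le_cg hv h).trans (fix_line (R := fun a => Matrix.vecMulVec v a)
      (L := fun a => Matrix.vecMulVec (sv g σ a) (sv (dual g) σ v)) (fun c a => vm_smul_right c v a)
      (fun a => vm_eq_zero_left hv) (fun c a => by rw [sv_smul, vm_smul_left]) ?_ ?_)
    · rintro a ⟨ha, hm⟩
      exact (el_eq_iff _ _).1 ((grl_el g σ ha).symm.trans (hfix _ hm))
    · rintro a ⟨ha, hm⟩ b ⟨hb, hm'⟩
      exact grl_centre hv ha hb (hfix _ hm) (hfix _ hm')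
  · refine (card_le_ag hv h).trans (fix_line (R := fun a => Matrix.vecMulVec a v)
      (L := fun a => Matrix.vecMulVec (sv g σ v) (sv (dual g) σ a)) (fun c a => vm_smul_left c a v)
      (fun a => vm_eq_zero_right hv) (fun c a => by rw [sv_smul, vm_smul_right]) ?_ ?_)
    · rintro a ⟨ha, hm⟩
      exact (el_eq_iff _ _).1 ((grl_el g σ ha).symm.trans (hfix _ hm))
    · rintro a ⟨ha, hm⟩ b ⟨hb, hm'⟩
      exact grl_axis hv ha hb (hfix _ hm) (hfix _ hm')

theorem grl_sq (g : GL (Fin 3) F) (σ : F ≃+* F) (g' : GL (Fin 3) F) (τ : F ≃+* F) :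
    (innd g * fld σ * gr : Aut3 F) * (innd g' * fld τ * gr) = innd (g * sm σ (dual g')) * fld (σ * τ) := by
  calc (innd g * fld σ * gr : Aut3 F) * (innd g' * fld τ * gr)
      = innd g * fld σ * (gr * innd g') * (fld τ * gr) := by simp only [mul_assoc]
    _ = innd g * fld σ * innd (dual g') * (gr * (fld τ * gr)) := by rw [gr_mul_innd]; simp only [mul_assoc]
    _ = innd g * (fld σ * innd (dual g')) * fld τ := by
        rw [← mul_assoc gr, gr_mul_fld, mul_assoc (fld τ), gr_mul_gr, mul_one]; simp only [mul_assoc]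
    _ = _ := by
        rw [fld_mul_innd', ← mul_assoc, ← map_mul, mul_assoc, ← map_mul (fld : (F ≃+* F) →* Aut3 F)]

theorem lin_sq (g : GL (Fin 3) F) (σ : F ≃+* F) (g' : GL (Fin 3) F) (τ : F ≃+* F) :
    (innd g * fld σ : Aut3 F) * (innd g' * fld τ) = innd (g * sm σ g') * fld (σ * τ) := by
  calc (innd g * fld σ : Aut3 F) * (innd g' * fld τ)
      = innd g * (fld σ * innd g') * fld τ := by simp only [mul_assoc]
    _ = _ := by
        rw [fld_mul_innd', ← mul_assoc, ← map_mul, mul_assoc, ← map_mul (fld : (F ≃+* F) →* Aut3 F)]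

theorem sigma_eq_one_of {g : GL (Fin 3) F} {σ : F ≃+* F} (h : (innd g * fld σ : Aut3 F) = 1) : σ = 1 :=
  fld_eq_of_eq (n := 3) (g := g) (g' := 1) (σ' := 1) (by omega) (by rw [h, map_one, map_one, one_mul])

/-- An automorphism of graph type. -/
def IsGr (β : Aut3 F) : Prop := ∃ (g : GL (Fin 3) F) (σ : F ≃+* F), β = innd g * fld σ * gr

/-- An automorphism that is inner. -/
def IsInn (β : Aut3 F) : Prop := ∃ x : PSL3 F, β = MulAut.conj x

theorem inn_mul {β γ : Aut3 F} {g : GL (Fin 3) F} (hβ : β * γ = innd g) (h : (β * γ) * (β * γ) = 1) :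
    IsInn (β * γ) := by
  rw [hβ] at h ⊢
  exact innd_inner_of_sq h

/-- **Key lemma**. -/
theorem key_inner (H : Subgroup (Aut3 F)) (hH : ∀ β ∈ H, β * β = 1) (hcard : Nat.card H = Fintype.card F ^ 2)
    (h2 : Fintype.card F = 2 → ∀ β ∈ H, ¬ IsGr β) : ∀ β ∈ H, IsInn β := by
  haveI : Fact (Nat.Prime 2) := ⟨Nat.prime_two⟩
  haveI : Finite (Aut3 F) := Finite.of_injective (fun β => (β : PSL3 F → PSL3 F)) DFunLike.coe_injective
  obtain ⟨n, hn, hF⟩ := exists_card_eq (F := F)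
  set q := Fintype.card F with hq
  set I := H.comap (MulAut.conj : PSL3 F →* Aut3 F) with hIdef
  have hI : ∀ x ∈ I, x * x = 1 := fun x hx => conj_injective (by rw [map_mul, map_one]; exact hH _ hx)
  have hfix : ∀ β ∈ H, ∀ x ∈ I, β x = x := by
    intro β hβ x hx
    refine conj_injective ?_
    have hc : β * MulAut.conj x = MulAut.conj x * β := by
      have e := hH _ (mul_mem hβ (show MulAut.conj x ∈ H from hx))
      have hb := inv_eq_of_mul_eq_one_right (hH β hβ)
      have hc' := inv_eq_of_mul_eq_one_right (hH _ (show MulAut.conj x ∈ H from hx))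
      calc β * MulAut.conj x = (β * MulAut.conj x)⁻¹ := (inv_eq_of_mul_eq_one_right e).symm
        _ = MulAut.conj x * β := by rw [_root_.mul_inv_rev, hb, hc']
    have e2 : MulAut.conj (β x) * β = β * MulAut.conj x := MulEquiv.ext fun y => by
      simp [map_mul, map_inv]
    rw [hc] at e2
    exact mul_right_cancel e2
  -- the four classes
  let cA : Set (Aut3 F) := {β | β ∈ H ∧ IsInn β}
  let cB : Set (Aut3 F) := {β | β ∈ H ∧ ∃ g σ, σ ≠ 1 ∧ β = innd g * fld σ}
  let cC : Set (Aut3 F) := {β | β ∈ H ∧ ∃ g, β = innd g * fld 1 * gr}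
  let cD : Set (Aut3 F) := {β | β ∈ H ∧ ∃ g σ, σ ≠ 1 ∧ β = innd g * fld σ * gr}
  have hcover : (H : Set (Aut3 F)) ⊆ cA ∪ cB ∪ (cC ∪ cD) := by
    intro β hβ
    obtain ⟨g, σ, rfl | rfl⟩ := exists_decomp (p := 2) (n := 3) (by omega) β
    · rcases eq_or_ne σ 1 with rfl | hσ
      · refine Or.inl (Or.inl ⟨hβ, ?_⟩)
        have h := hH _ hβ
        rw [map_one, mul_one] at h ⊢
        exact innd_inner_of_sq h
      · exact Or.inl (Or.inr ⟨hβ, g, σ, hσ, rfl⟩)
    · rcases eq_or_ne σ 1 with rfl | hσ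
      · exact Or.inr (Or.inl ⟨hβ, g, rfl⟩)
      · exact Or.inr (Or.inr ⟨hβ, g, σ, hσ, rfl⟩)
  have hsigma : ∀ g σ, (innd g * fld σ : Aut3 F) ∈ H → σ * σ = 1 := fun g σ h => by
    have e := hH _ h
    rw [lin_sq] at e
    exact sigma_eq_one_of e
  have hsigma' : ∀ g σ, (innd g * fld σ * gr : Aut3 F) ∈ H → σ * σ = 1 := fun g σ h => by
    have e := hH _ h
    rw [grl_sq] at e
    exact sigma_eq_one_of e
  have hclass : ∀ c : Set (Aut3 F), c ⊆ H → (∀ β ∈ c, ∀ γ ∈ c, ∃ g, β * γ = innd g) →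
      c.ncard ≤ Nat.card I := by
    intro c hc hp
    rcases c.eq_empty_or_nonempty with rfl | ⟨β₀, hβ₀⟩
    · simp
    rw [← Nat.card_coe_set_eq]
    have hmem : ∀ β : c, ∃ x : I, MulAut.conj (x : PSL3 F) = β₀ * (β : Aut3 F) := by
      rintro ⟨β, hβ⟩
      obtain ⟨g, hg⟩ := hp _ hβ₀ _ hβ
      obtain ⟨x, hx⟩ := inn_mul hg (hH _ (mul_mem (hc hβ₀) (hc hβ)))
      exact ⟨⟨x, show MulAut.conj x ∈ H from hx ▸ mul_mem (hc hβ₀) (hc hβ)⟩, hx.symm⟩
    choose f hf using hmem
    refine Nat.card_le_card_of_injective f fun β γ h => Subtype.ext (mul_left_cancel (a := β₀) ?_)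
    rw [← hf, ← hf, h]
  have hA : cA.ncard ≤ Nat.card I := hclass _ (fun β h => h.1) (by
    rintro _ ⟨hβ, x, rfl⟩ _ ⟨hγ, y, rfl⟩
    obtain ⟨s, hs⟩ := QuotientGroup.mk_surjective (x * y)
    exact ⟨SpecialLinearGroup.toGL s, by rw [← map_mul, ← hs, conj_mk]⟩)
  have hB : cB.ncard ≤ Nat.card I := hclass _ (fun β h => h.1) (by
    rintro _ ⟨hβ, g, σ, hσ, rfl⟩ _ ⟨hγ, g', τ, hτ, rfl⟩
    obtain rfl := aut_two_unique (hsigma _ _ hβ) (hsigma _ _ hγ) hσ hτ
    exact ⟨g * sm σ g', by rw [lin_sq, hsigma _ _ hβ, map_one, mul_one]⟩)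
  have hC : cC.ncard ≤ Nat.card I := hclass _ (fun β h => h.1) (by
    rintro _ ⟨hβ, g, rfl⟩ _ ⟨hγ, g', rfl⟩
    exact ⟨g * sm 1 (dual g'), by rw [grl_sq, one_mul, map_one, mul_one]⟩)
  have hD : cD.ncard ≤ Nat.card I := hclass _ (fun β h => h.1) (by
    rintro _ ⟨hβ, g, σ, hσ, rfl⟩ _ ⟨hγ, g', τ, hτ, rfl⟩
    obtain rfl := aut_two_unique (hsigma' _ _ hβ) (hsigma' _ _ hγ) hσ hτ
    exact ⟨g * sm σ (dual g'), by rw [grl_sq, hsigma' _ _ hβ, map_one, mul_one]⟩)
  have hBI : cB.Nonempty → Nat.card I ≤ q := by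
    rintro ⟨_, hβ, g, σ, hσ, rfl⟩
    exact (lin_bound hI (hfix _ hβ)).trans_eq (fixCard_sq (hsigma _ _ hβ) hσ)
  have hCI : cC.Nonempty → Nat.card I ≤ q := by
    rintro ⟨_, hβ, g, rfl⟩
    exact (grl_bound hI (hfix _ hβ)).trans_eq fixCard_one
  have hDI : cD.Nonempty → Nat.card I ≤ q ∧ Nat.card I * Nat.card I ≤ q := by
    rintro ⟨_, hβ, g, σ, hσ, rfl⟩
    have h := grl_bound hI (hfix _ hβ)
    have e := fixCard_sq (hsigma' _ _ hβ) hσ
    have hp := fixCard_pos σ
    constructor <;> nlinarith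
  have hall : cB = ∅ ∧ cC = ∅ ∧ cD = ∅ := by
    rcases Nat.lt_or_ge n 2 with hn2 | hn2
    · have hn1 : n = 1 := by omega
      subst hn1
      have hσ1 : ∀ σ : F ≃+* F, σ = 1 := fun σ =>
        orderOf_eq_one_iff.1 (Nat.eq_one_of_dvd_one (orderOf_dvd_exp hn hF σ))
      refine ⟨?_, ?_, ?_⟩
      · exact Set.eq_empty_of_forall_notMem fun β ⟨_, g, σ, hσ, _⟩ => hσ (hσ1 σ)
      · exact Set.eq_empty_of_forall_notMem fun β ⟨hβ, g, e⟩ => h2 (by simpa using hF) β hβ ⟨g, 1, e⟩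
      · exact Set.eq_empty_of_forall_notMem fun β ⟨_, g, σ, hσ, _⟩ => hσ (hσ1 σ)
    by_contra hne
    have hIq : Nat.card I ≤ q := by
      simp only [not_and_or, ← ne_eq, ← Set.nonempty_iff_ne_empty] at hne
      rcases hne with h | h | h
      · exact hBI h
      · exact hCI h
      · exact (hDI h).1
    have h4 : 4 ≤ q := by
      rw [hF]
      calc 4 = 2 ^ 2 := rfl
        _ ≤ 2 ^ n := Nat.pow_le_pow_right (by omega) hn2
    have hsum : q * q ≤ cA.ncard + cB.ncard + (cC.ncard + cD.ncard) := by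
      have := Set.ncard_le_ncard hcover (Set.toFinite _)
      rw [← Nat.card_coe_set_eq] at this
      change Nat.card H ≤ _ at this
      rw [hcard, pow_two] at this
      refine this.trans ((Set.ncard_union_le _ _).trans (Nat.add_le_add ?_ ?_)) <;> exact Set.ncard_union_le _ _
    by_cases hDe : cD.Nonempty
    · obtain ⟨-, hsq⟩ := hDI hDe
      nlinarith
    · rw [Set.not_nonempty_iff_eq_empty] at hDe
      rw [hDe, Set.ncard_empty] at hsum
      nlinarith
  intro β hβ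
  rcases hcover hβ with (h | h) | (h | h)
  · exact h.2
  · rw [hall.1] at h; exact h.elim
  · rw [hall.2.1] at h; exact h.elim
  · rw [hall.2.2] at h; exact h.elim

end Cfsg.Lib.LThreeExt
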