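import Cfsg.Agent.Lib.LThreeExt.FourSmall
import Cfsg.Agent.Lib.MTwentyTwo.Recog

/-!
# The extension of `PSL(3, 4)` of degree twenty-two
-/

set_option autoImplicit false
set_option linter.unusedSectionVars false
set_option linter.style.haveILetI false

namespace Cfsg.Lib.LThreeExt

open Matrix Projectivization Cfsg.Lib Cfsg.Lib.Linear Cfsg.Lib.Linear.TVec Cfsg.Lib.Linear.AutPSL
open Cfsg.Lib.Linear.Descent
open scoped MatrixGroups LinearAlgebra.Projectivization

universe u w

variable {F : Type} [Field F] [Fintype F] [CharP F 2]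
variable {G : Type u} [Group G] [Finite G] {Ω : Type w} [Finite Ω] [MulAction G Ω] [FaithfulSMul G Ω]
variable (E : Ext F G Ω) (hP : ∀ x y, y ≠ x → PointS (E.stb x y)) (hq : Fintype.card F = 4)
variable (hT1 : (ptGeo E hP).tee = 1)
include hP hq hT1

theorem four_card : Nat.card Ω = 22 := by
  rw [(ptGeo E hP).card_eq, hT1, card_pt, hq]
  norm_num

theorem pt_inj {x y z : Ω} (hy : y ≠ x) (hz : z ≠ x) (h : (ptGeo E hP).pt x y = (ptGeo E hP).pt x z) : y = z := by
  have h1 := ((ptGeo E hP).card_fib x ((ptGeo E hP).pt x y)).trans hT1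
  exact (Set.ncard_le_one (Set.toFinite _)).1 h1.le y ⟨hy, rfl⟩ z ⟨hz, h.symm⟩

theorem aut_eq_one {x : Ω} {h : G} (hx : h • x = x) (e : E.tr h x = 1) : h = 1 := by
  have hc : ∀ k, h * E.emb x k = E.emb x k * h := fun k => by
    have e' := E.tr_spec' hx k
    rw [e, MulAut.one_apply] at e'
    conv_rhs => rw [e']
    group
  refine FaithfulSMul.eq_of_smul_eq_smul (α := Ω) fun y => ?_
  rw [one_smul]
  rcases eq_or_ne y x with rfl | hy
  · exact hx
  have hne : h • y ≠ x := fun e => hy (MulAction.injective h (e.trans hx.symm))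
  refine pt_inj E hP hq hT1 hne hy ((ptGeo E hP).pt_eq_of hy hne fun k _ hk => ?_).symm
  rw [← mul_smul, ← hc, mul_smul, hk]

theorem tr_form {x : Ω} {h : G} (hx : h • x = x) {g : GL (Fin 3) F} {σ : F ≃+* F}
    (e : E.tr h x = innd g * fld σ) {y : Ω} (hy : y ≠ x) :
    (ptGeo E hP).pt x (h • y) = semi g σ ((ptGeo E hP).pt x y) := by
  obtain ⟨g', σ', e', hpt⟩ := exists_tr E hP h x
  have hp := hpt y hy
  rw [hx] at hp
  rw [hp]
  have he := e.symm.trans e'
  obtain rfl := fld_eq_of_eq (n := 3) (by omega) he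
  obtain ⟨c, hc⟩ := (innd_eq_innd (n := 3) (by omega)).1 (mul_right_cancel he)
  induction (ptGeo E hP).pt x y using Projectivization.ind with | _ v hv =>
  rw [semi_mk, semi_mk]
  refine (mk_eq_mk_iff' F _ _ _ _).2 ⟨((c⁻¹ : Fˣ) : F), ?_⟩
  rw [sv, sv, hc, Units.val_mul, sc_val, smul_mul_assoc, one_mul, Matrix.smul_mulVec, smul_smul, ← Units.val_mul,
    inv_mul_cancel, Units.val_one, one_smul]

theorem fix_iff_semi {x : Ω} {h : G} (hx : h • x = x) {g : GL (Fin 3) F} {σ : F ≃+* F}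
    (e : E.tr h x = innd g * fld σ) {y : Ω} (hy : y ≠ x) :
    h • y = y ↔ semi g σ ((ptGeo E hP).pt x y) = (ptGeo E hP).pt x y := by
  rw [← tr_form E hP hq hT1 hx e hy]
  exact ⟨fun e => by rw [e], pt_inj E hP hq hT1 (fun e => hy (MulAction.injective h (e.trans hx.symm))) hy⟩

theorem tr_mul_emb {a : Ω} {h : G} (ha : h • a = a) (s : SL3 F) {g : GL (Fin 3) F} {σ : F ≃+* F}
    (e : E.tr h a = innd g * fld σ) :
    E.tr (E.emb a (QuotientGroup.mk s) * h) a = innd (SpecialLinearGroup.toGL s * g) * fld σ := by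
  have h1 : E.aut a (⟨E.emb a (QuotientGroup.mk s), E.fix a _⟩ * ⟨h, ha⟩) =
      E.aut a ⟨E.emb a (QuotientGroup.mk s), E.fix a _⟩ * E.aut a ⟨h, ha⟩ := map_mul _ _ _
  rw [E.aut_emb, conj_mk, show E.aut a ⟨h, ha⟩ = innd g * fld σ from e, ← mul_assoc, ← map_mul] at h1
  exact h1

/-- There is no diagonal automorphism. -/
theorem dd_trivial {a : Ω} {h : G} (ha : h • a = a) (d : Fˣ) (e : E.tr h a = innd (dd d) * fld 1) : d = 1 := by
  classical
  have hd3 : d ^ 3 = 1 := Units.ext (by rw [Units.val_pow_eq_pow_val, units_cube hq d.ne_zero, Units.val_one])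
  have hdd3 : (dd d : GL (Fin 3) F) ^ 3 = 1 := by
    refine Units.ext ?_
    rw [Units.val_pow_eq_pow_val, dd, Matrix.diagonal_pow, Units.val_one, ← Matrix.diagonal_one]
    congr 1
    ext i
    fin_cases i <;> simp [Pi.pow_apply, ← Units.val_pow_eq_pow_val, hd3]
  have hh3 : h ^ 3 = 1 := by
    refine aut_eq_one E hP hq hT1 (x := a) (by rw [pow_three, mul_smul, mul_smul, ha, ha, ha]) ?_
    have h1 : E.tr (h ^ 3) a = (E.tr h a) ^ 3 := (congrArg (E.aut a)
      (show (⟨h ^ 3, by rw [MulAction.mem_stabilizer_iff, pow_three, mul_smul, mul_smul, ha, ha, ha]⟩ :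
          MulAction.stabilizer G a) = ⟨h, ha⟩ ^ 3
        from Subtype.ext (by simp))).trans (map_pow (E.aut a) ⟨h, ha⟩ 3)
    rw [h1, e, map_one, mul_one, ← map_pow, hdd3, map_one]
  let l₀ : Pt F := Projectivization.mk F (Pi.single 0 1) (Pi.single_ne_zero_iff.2 one_ne_zero)
  obtain ⟨x, hxa, hxp⟩ := exists_fib E hP a l₀
  have hxfix : h • x = x := by
    rw [fix_iff_semi E hP hq hT1 ha e hxa, hxp, semi_mk]
    refine (mk_eq_mk_iff' F _ _ _ _).2 ⟨(d : F), ?_⟩
    ext i
    fin_cases i <;> simp [sv, dd_mulVec, dd]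
  have hxP : x ∉ pln E hP a l₀ := by
    rw [mem_pln E hP hxa, hxp, inc_mk]
    simp
  have hPfix : ∀ z ∈ pln E hP a l₀, h • z = z := by
    intro z hz
    rcases eq_or_ne z a with rfl | hza
    · exact ha
    rw [fix_iff_semi E hP hq hT1 ha e hza]
    rw [mem_pln E hP hza] at hz
    generalize (ptGeo E hP).pt a z = p at hz ⊢
    induction p using Projectivization.ind with | _ v hv =>
    simp only [l₀] at hz
    rw [inc_mk, single_dotProduct, one_mul] at hz
    rw [semi_mk]
    refine (mk_eq_mk_iff' F _ _ _ _).2 ⟨1, ?_⟩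
    ext i
    fin_cases i <;> simp [sv, dd_mulVec, dd, Matrix.mulVec_diagonal, hz]
  obtain ⟨g', σ', e', -⟩ := exists_tr E hP h x
  have hσ : σ' = 1 := by
    have h1 : (E.tr h x) ^ 3 = 1 := by
      rw [show (E.tr h x) ^ 3 = (E.aut x ⟨h, hxfix⟩) ^ 3 from rfl, ← map_pow, ← map_one (E.aut x)]
      exact congrArg _ (Subtype.ext (by simp [hh3]))
    rw [e', innd_fld_pow] at h1
    have h3 := sigma_eq_one_of h1
    rw [pow_succ, pow_two, sigma_sq hq σ', one_mul] at h3
    exact h3
  subst hσ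
  set S := (fun z => (ptGeo E hP).pt x z) '' pln E hP a l₀
  have hne : ∀ z ∈ pln E hP a l₀, z ≠ x := fun z hz e => hxP (e ▸ hz)
  have hSc : 6 ≤ S.ncard := by
    rw [Set.InjOn.ncard_image (fun z hz z' hz' e => pt_inj E hP hq hT1 (hne z hz) (hne z' hz') e), pln_fix,
      fix_axs E hP, hT1, hq]
  obtain ⟨c, hc⟩ := linear_six hq (g := g') (S := S) hSc (by
    rintro _ ⟨z, hz, rfl⟩
    exact (fix_iff_semi E hP hq hT1 hxfix e' (hne z hz)).1 (hPfix z hz)) (by
    rintro _ ⟨z₁, h1, rfl⟩ _ ⟨z₂, h2, rfl⟩ _ ⟨z₃, h3, rfl⟩ n12 n13 n23 l ⟨i1, i2, i3⟩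
    have m : ∀ z ∈ pln E hP a l₀, Inc ((ptGeo E hP).pt x z) l → z ∈ pln E hP x l := fun z hz hi =>
      (mem_pln E hP (hne z hz)).2 hi
    obtain ⟨l₁, hl₁⟩ := pln_at E hP h1
    obtain ⟨l₂, hl₂⟩ := pln_at E hP (m z₁ h1 i1)
    have hll : l₁ ≠ l₂ := fun e => hxP (by rw [← hl₁, e, hl₂]; exact self_mem_pln E hP x l)
    obtain ⟨p, hp1, hp2⟩ := exists_point_ne hll
    obtain ⟨z, hz, hzp⟩ := exists_fib E hP z₁ p
    have hsub : ({z₁, z₂, z₃} : Set Ω) ⊆ E.blk z₁ z := by
      rw [← pln_inter E hP hz hll (hzp ▸ hp1) (hzp ▸ hp2), hl₁, hl₂]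
      rintro w (rfl | rfl | rfl)
      · exact ⟨h1, m _ h1 i1⟩
      · exact ⟨h2, m _ h2 i2⟩
      · exact ⟨h3, m _ h3 i3⟩
    have hle := Set.ncard_le_ncard hsub (Set.toFinite _)
    rw [blk_card E hP hz, hT1, Set.ncard_eq_three.2 ⟨z₁, z₂, z₃, fun e => n12 (by rw [e]), fun e => n13 (by rw [e]),
      fun e => n23 (by rw [e]), rfl⟩] at hle
    omega)
  have hsc : (innd g' : Aut3 F) = 1 := innd_scalar ⟨c, Matrix.ext_of_mulVec_single fun i => by
    rw [hc]
    ext j
    simp [Matrix.scalar_apply, Matrix.mulVec_diagonal]⟩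
  have h1 : h = 1 := aut_eq_one E hP hq hT1 hxfix (by rw [e', hsc, map_one, mul_one])
  subst h1
  rw [show E.tr (1 : G) a = 1 from map_one (E.aut a), map_one, mul_one] at e
  obtain ⟨r, hr⟩ := innd_eq_one e.symm
  have e0 := congrFun (congrFun hr 0) 0
  have e1 := congrFun (congrFun hr 1) 1
  simp [dd, Matrix.scalar_apply] at e0 e1
  exact Units.ext (e0.symm.trans e1)

/-- A linear element of a point stabiliser lies in the copy. -/
theorem mem_range_of_linear {a : Ω} {h : G} (ha : h • a = a) {g : GL (Fin 3) F}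
    (e : E.tr h a = innd g * fld 1) : h ∈ (E.emb a).range := by
  obtain ⟨s, hs⟩ := exists_dd g
  have e1 := tr_mul_emb E hP hq hT1 ha s e
  rw [hs] at e1
  have hfix : (E.emb a (QuotientGroup.mk s) * h) • a = a := by rw [mul_smul, ha, E.fix]
  rw [dd_trivial E hP hq hT1 hfix _ e1, show dd (1 : Fˣ) = (1 : GL (Fin 3) F) from Units.ext (by
    ext i j; fin_cases i <;> fin_cases j <;> simp [dd]), map_one, one_mul, map_one] at e1
  have h1 := aut_eq_one E hP hq hT1 hfix e1
  exact ⟨(QuotientGroup.mk s)⁻¹, by rw [map_inv]; exact inv_eq_of_mul_eq_one_right h1⟩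

/-- **The Mathieu group of degree twenty-two.** -/
theorem mathieu : Nat.card Ω = 22 ∧
    (Cfsg.Spor.IsoM22 G ∨ ∃ H : Subgroup G, H.index = 2 ∧ Cfsg.Spor.IsoM22 ↥H) := by
  classical
  have hv := four_card E hP hq hT1
  refine ⟨hv, ?_⟩
  letI := Fintype.ofFinite Ω
  let sgn : G →* ℤˣ := Equiv.Perm.sign.comp (MulAction.toPermHom G Ω)
  set K := sgn.ker with hK
  have hsimple : IsSimpleGroup (PSL3 F) := Linear.PSL_simple_of_three_le (by simp)
  have heven : ∀ x, (E.emb x).range ≤ K := by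
    rintro x _ ⟨k, rfl⟩
    have h : k ∈ commutator (PSL3 F) := by
      rw [Linear.commutator_PSL_eq_top (by simp)]; exact Subgroup.mem_top k
    exact Abelianization.commutator_subset_ker (sgn.comp (E.emb x)) h
  have hodd : ∀ (a : Ω) (h : G), h • a = a → h ∈ K → h ∈ (E.emb a).range := by
    intro a h ha hK'
    obtain ⟨g, σ, e, -⟩ := exists_tr E hP h a
    rcases eq_or_ne σ 1 with rfl | hσ
    · exact mem_range_of_linear E hP hq hT1 ha e
    exfalso
    obtain ⟨s, hs⟩ := exists_dd g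
    have e1 := tr_mul_emb E hP hq hT1 ha s e
    rw [hs] at e1
    set d := GeneralLinearGroup.det g
    set h' := E.emb a (QuotientGroup.mk s) * h with hh'
    have hfix : h' • a = a := by rw [hh', mul_smul, ha, E.fix]
    have hd : dd d * sm σ (dd d) = (1 : GL (Fin 3) F) := by
      refine Units.ext ?_
      rw [Units.val_mul, sm_val, Units.val_one, dd, Matrix.diagonal_map (map_zero σ), Matrix.diagonal_mul_diagonal,
        ← Matrix.diagonal_one]
      congr 1
      ext i
      fin_cases i <;> simp [sigma_det_mul hq hσ d.ne_zero]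
    have hsq : h' * h' = 1 := by
      refine aut_eq_one E hP hq hT1 (x := a) (by rw [mul_smul, hfix, hfix]) ?_
      have h1 : E.tr (h' * h') a = E.tr h' a * E.tr h' a := map_mul (E.aut a) ⟨h', hfix⟩ ⟨h', hfix⟩
      rw [h1, e1, lin_sq, hd, sigma_sq hq σ, map_one, map_one, one_mul]
    have hset : {y : Ω | h' • y = y} =
        insert a {y : Ω | y ≠ a ∧ semi (dd d) σ ((ptGeo E hP).pt a y) = (ptGeo E hP).pt a y} := by
      ext y
      rcases eq_or_ne y a with rfl | hy
      · simpa using hfix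
      · simp [hy, fix_iff_semi E hP hq hT1 hfix e1 hy]
    have hc : {y : Ω | h' • y = y}.ncard = 8 := by
      rw [hset, Set.ncard_insert_of_notMem (fun h => h.1 rfl) (Set.toFinite _)]
      rw [show (8 : ℕ) = 7 + 1 from rfl, ← semi_dd_fixed hq hσ d]
      congr 1
      refine Set.ncard_congr (fun y _ => (ptGeo E hP).pt a y) (fun y hy => hy.2) (fun y z hy hz h => ?_) fun p hp => ?_
      · exact pt_inj E hP hq hT1 hy.1 hz.1 h
      · obtain ⟨y, hy, rfl⟩ := exists_fib E hP a p
        exact ⟨y, ⟨hy, hp⟩, rfl⟩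
    have hsign : sgn h' = -1 := sign_neg_one (by rw [← Nat.card_eq_fintype_card, hv])
      (by rw [← map_mul, hsq, map_one]) hc
    rw [hh', map_mul, (heven a ⟨_, rfl⟩ : E.emb a (QuotientGroup.mk s) ∈ K), MonoidHom.mem_ker.1 hK', one_mul] at hsign
    exact absurd hsign (by decide)
  set a := E.base
  have htrK : ∀ x y : Ω, ∃ k ∈ K, k • x = y := by
    intro x y
    obtain ⟨z, hz⟩ : ∃ z, z ∉ ({x, y} : Set Ω) := by
      by_contra hc
      push Not at hc
      have h := Set.ncard_le_ncard (fun z _ => hc z : (Set.univ : Set Ω) ⊆ {x, y}) (Set.toFinite _)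
      rw [Set.ncard_univ, hv] at h
      have : ({x, y} : Set Ω).ncard ≤ 2 := (Set.ncard_insert_le _ _).trans (by simp)
      omega
    rw [Set.mem_insert_iff, Set.mem_singleton_iff, not_or] at hz
    obtain ⟨k, hk⟩ := trans_others E hP (Ne.symm hz.1) (Ne.symm hz.2)
    exact ⟨_, heven z ⟨k, rfl⟩, hk⟩
  haveI : MulAction.IsPretransitive K Ω := ⟨fun x y => by
    obtain ⟨k, hk, e⟩ := htrK x y
    exact ⟨⟨k, hk⟩, e⟩⟩
  let ι : PSL3 F →* K := (E.emb a).codRestrict K fun k => heven a ⟨k, rfl⟩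
  have hιinj : Function.Injective ι := fun k k' h => E.inj a (congrArg Subtype.val h)
  have hstab : MulAction.stabilizer K a = ι.range := by
    ext ⟨k, hk⟩
    constructor
    · intro hka
      obtain ⟨l, hl⟩ := hodd a k hka hk
      exact ⟨l, Subtype.ext hl⟩
    · rintro ⟨l, hl⟩
      rw [← hl]
      exact E.fix a l
  have hcard : Nat.card K = 443520 := by
    rw [← (MulAction.stabilizer K a).card_mul_index, MulAction.index_stabilizer_of_transitive, hv, hstab,
      ← Nat.card_congr (MonoidHom.ofInjective hιinj).toEquiv, card_psl_four hq]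
  have hnt : Nontrivial K := Finite.one_lt_card_iff_nontrivial.1 (by rw [hcard]; norm_num)
  have hKs : IsSimpleGroup K := by
    refine ⟨fun L hL => ?_⟩
    by_cases hLb : L = ⊥
    · exact Or.inl hLb
    right
    obtain ⟨g, hg, hg1⟩ : ∃ g, g ∈ L ∧ g ≠ 1 := by
      obtain ⟨g, hg⟩ := Subgroup.ne_bot_iff_exists_ne_one.1 hLb
      exact ⟨g.1, g.2, fun e => hg (Subtype.ext e)⟩
    obtain ⟨u, hu⟩ : ∃ u : Ω, g • u ≠ u := by
      by_contra hc
      push Not at hc
      exact hg1 (Subtype.ext (FaithfulSMul.eq_of_smul_eq_smul (α := Ω) fun y => by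
        rw [OneMemClass.coe_one, one_smul]
        exact hc y))
    have hLt : ∀ y : Ω, y ≠ a → ∃ l ∈ L, l • a = y := by
      intro y hy
      obtain ⟨c, hc⟩ := MulAction.exists_smul_eq K u a
      have h1 : c • g • u ≠ a := fun e => hu (MulAction.injective c (e.trans hc.symm))
      obtain ⟨n, hn⟩ := trans_others E hP h1 hy
      refine ⟨(ι n * c) * g * (ι n * c)⁻¹, hL.conj_mem g hg _, ?_⟩
      have e : (ι n * c) • u = a := by rw [mul_smul, hc]; exact E.fix a n
      rw [mul_smul, mul_smul, ← e, inv_smul_smul, mul_smul]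
      exact hn
    rcases (hL.comap ι).eq_bot_or_eq_top with hb | ht
    · exfalso
      have hreg : ∀ l ∈ L, l • a = a → l = 1 := by
        intro l hl hla
        obtain ⟨k, rfl⟩ : l ∈ ι.range := hstab ▸ hla
        rw [show k = 1 from (Subgroup.mem_bot.1 (hb ▸ hl : k ∈ (⊥ : Subgroup (PSL3 F)))), map_one]
      have hbij : Function.Bijective fun l : L => (l : K) • a := by
        refine ⟨fun l l' h => ?_, fun y => ?_⟩
        · refine Subtype.ext (inv_mul_eq_one.1 (hreg _ (mul_mem (inv_mem l.2) l'.2) ?_))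
          rw [mul_smul, inv_smul_eq_iff]
          exact h.symm
        · rcases eq_or_ne y a with rfl | hy
          · exact ⟨1, one_smul _ _⟩
          · obtain ⟨l, hl, e⟩ := hLt y hy
            exact ⟨⟨l, hl⟩, e⟩
      have hL22 : Nat.card L = 22 := by rw [Nat.card_congr (Equiv.ofBijective _ hbij), hv]
      have hord : ∀ l l' : L, l ≠ 1 → l' ≠ 1 → orderOf (l : K) = orderOf (l' : K) := by
        intro l l' h1 h1'
        have hla : (l : K) • a ≠ a := fun e => h1 (Subtype.ext (hreg _ l.2 e))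
        have hla' : (l' : K) • a ≠ a := fun e => h1' (Subtype.ext (hreg _ l'.2 e))
        obtain ⟨n, hn⟩ := trans_others E hP hla hla'
        have h := hreg _ (mul_mem (inv_mem l'.2) (hL.conj_mem _ l.2 (ι n))) (by
          rw [mul_smul, mul_smul, mul_smul, show (ι n)⁻¹ • a = a from inv_smul_eq_iff.2 (E.fix a n).symm,
            show ι n • (l : K) • a = (l' : K) • a from hn, inv_smul_smul])
        rw [inv_mul_eq_one] at h
        rw [h, Invol.orderOf_conj_eq]
      haveI : Fact (Nat.Prime 2) := ⟨Nat.prime_two⟩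
      haveI : Fact (Nat.Prime 11) := ⟨by norm_num⟩
      obtain ⟨l, hl⟩ := exists_prime_orderOf_dvd_card' (G := L) 2 (by rw [hL22]; norm_num)
      obtain ⟨l', hl'⟩ := exists_prime_orderOf_dvd_card' (G := L) 11 (by rw [hL22]; norm_num)
      have h := hord l l' (fun e => by simp [e] at hl) fun e => by simp [e] at hl'
      rw [Subgroup.orderOf_coe, Subgroup.orderOf_coe, hl, hl'] at h
      omega
    · rw [eq_top_iff]
      intro k _
      have hst : ∀ m : K, m • a = a → m ∈ L := fun m hm => by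
        obtain ⟨n, rfl⟩ : m ∈ ι.range := hstab ▸ hm
        exact (ht ▸ Subgroup.mem_top n : n ∈ L.comap ι)
      rcases eq_or_ne (k • a) a with h | h
      · exact hst k h
      obtain ⟨l, hl, e⟩ := hLt _ h
      have := hst (l⁻¹ * k) (by rw [mul_smul, ← e, inv_smul_smul])
      have h2 := mul_mem hl this
      rwa [mul_inv_cancel_left] at h2
  have hiso : Cfsg.Spor.IsoM22 K := MTwentyTwo.isoM22 ⟨hKs, hcard⟩
  have hidx : K.index ≤ 2 := by
    rw [hK, Subgroup.index_ker]
    have h2 : Nat.card sgn.range ∣ 2 := by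
      have := Subgroup.card_subgroup_dvd_card sgn.range
      rwa [Nat.card_eq_fintype_card (α := ℤˣ), Fintype.card_units_int] at this
    exact Nat.le_of_dvd (by norm_num) h2
  have hi0 : K.index ≠ 0 := Subgroup.index_ne_zero_of_finite
  rcases Nat.lt_or_ge K.index 2 with h | h
  · left
    have htop : K = ⊤ := Subgroup.index_eq_one.1 (by omega)
    obtain ⟨e⟩ := hiso
    exact ⟨((MulEquiv.subgroupCongr htop).trans Subgroup.topEquiv).symm.trans e⟩
  · exact Or.inr ⟨K, by omega, hiso⟩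

end Cfsg.Lib.LThreeExt
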