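import Cfsg.Agent.Lib.Linear.AutPSL.Stab
import Mathlib.LinearAlgebra.CrossProduct

/-!
# The projective plane of `PSL(3, F)`: points, lines and elations
-/

set_option autoImplicit false
set_option linter.unusedSectionVars false
set_option linter.style.haveILetI false

namespace Cfsg.Lib.LThreeExt

open Matrix Projectivization Cfsg.Lib.Linear Cfsg.Lib.Linear.TVec Cfsg.Lib.Linear.AutPSL
open scoped MatrixGroups LinearAlgebra.Projectivization

/-- Vectors. -/
abbrev V3 (F : Type) := Fin 3 → F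

/-- `SL(3, F)`. -/
abbrev SL3 (F : Type) [Field F] := Matrix.SpecialLinearGroup (Fin 3) F

/-- `PSL(3, F)`. -/
abbrev PSL3 (F : Type) [Field F] := Matrix.ProjectiveSpecialLinearGroup (Fin 3) F

/-- Points, and lines given by coordinate vectors. -/
abbrev Pt (F : Type) [Field F] := ℙ F (Fin 3 → F)

variable {F : Type} [Field F]

/-- The point `p` lies on the line `l`. -/
def Inc (p l : Pt F) : Prop := l.rep ⬝ᵥ p.rep = 0

theorem inc_mk {v a : V3 F} (hv : v ≠ 0) (ha : a ≠ 0) : Inc (mk F v hv) (mk F a ha) ↔ a ⬝ᵥ v = 0 := by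
  obtain ⟨c, hc⟩ := exists_smul_eq_mk_rep F v hv
  obtain ⟨d, hd⟩ := exists_smul_eq_mk_rep F a ha
  rw [Inc, ← hc, ← hd, Units.smul_def, Units.smul_def, smul_dotProduct, dotProduct_smul, smul_eq_mul, smul_eq_mul,
    mul_eq_zero, mul_eq_zero, or_iff_right d.ne_zero, or_iff_right c.ne_zero]

theorem inc_right (p : Pt F) {a : V3 F} (ha : a ≠ 0) : Inc p (mk F a ha) ↔ a ⬝ᵥ p.rep = 0 := by
  have h := inc_mk p.rep_nonzero ha
  rwa [mk_rep] at h

theorem inc_symm {p l : Pt F} : Inc p l ↔ Inc l p := by rw [Inc, Inc, dotProduct_comm]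

/-- The action on lines. -/
def ln (x : PSL3 F) (l : Pt F) : Pt F := (gr : MulAut (PSL3 F)) x • l

theorem ln_one (l : Pt F) : ln (1 : PSL3 F) l = l := by rw [ln, map_one, one_smul]

theorem ln_mul (x y : PSL3 F) (l : Pt F) : ln (x * y) l = ln x (ln y l) := by rw [ln, map_mul, mul_smul]; rfl

theorem mk_smul (s : SL3 F) {v : V3 F} (hv : v ≠ 0) :
    (QuotientGroup.mk s : PSL3 F) • mk F v hv = mk F (s.1 *ᵥ v) (mulVec_ne_zero s hv) := rfl

theorem mk_ln (s : SL3 F) {a : V3 F} (ha : a ≠ 0) :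
    ln (QuotientGroup.mk s : PSL3 F) (mk F a ha) = mk F ((tinv s).1 *ᵥ a) (mulVec_ne_zero _ ha) := rfl

theorem inc_smul (x : PSL3 F) (p l : Pt F) : Inc (x • p) (ln x l) ↔ Inc p l := by
  obtain ⟨s, rfl⟩ := QuotientGroup.mk_surjective x
  induction p using Projectivization.ind with | _ v hv =>
  induction l using Projectivization.ind with | _ a ha =>
  rw [mk_smul, mk_ln, inc_mk, inc_mk]
  refine iff_of_eq (congrArg (· = 0) ?_)
  rw [tinv_coe, Matrix.mulVec_transpose, ← Matrix.dotProduct_mulVec, inv_mulVec]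

theorem cross_zero_of {u w a : V3 F} (hu : a ⬝ᵥ u = 0) (hw : a ⬝ᵥ w = 0) :
    crossProduct (crossProduct u w) a = 0 := by
  rw [cross_cross_eq_smul_sub_smul, dotProduct_comm u, dotProduct_comm w, hu, hw, zero_smul, zero_smul, sub_zero]

theorem mk_eq_of_cross {v w : V3 F} (hv : v ≠ 0) (hw : w ≠ 0) (h : crossProduct v w = 0) :
    mk F v hv = mk F w hw := by
  by_contra hne
  refine crossProduct_ne_zero_iff_linearIndependent.2 ?_ h
  refine (LinearIndependent.pair_iff' hv).2 fun c hc => hne ((mk_eq_mk_iff' F v w hv hw).2 ?_)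
  have hc0 : c ≠ 0 := fun e => hw (by rw [← hc, e, zero_smul])
  exact ⟨c⁻¹, by rw [← hc, smul_smul, inv_mul_cancel₀ hc0, one_smul]⟩

theorem cross_ne_zero {v w : V3 F} (hv : v ≠ 0) (hw : w ≠ 0) (h : mk F v hv ≠ mk F w hw) :
    crossProduct v w ≠ 0 := fun e => h (mk_eq_of_cross hv hw e)

/-- Two points lie on one line only. -/
theorem line_unique {p p' l l' : Pt F} (hne : p ≠ p') (h1 : Inc p l) (h2 : Inc p' l) (h3 : Inc p l')
    (h4 : Inc p' l') : l = l' := by
  induction p using Projectivization.ind with | _ u hu =>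
  induction p' using Projectivization.ind with | _ w hw =>
  induction l using Projectivization.ind with | _ a ha =>
  induction l' using Projectivization.ind with | _ b hb =>
  rw [inc_mk] at h1 h2 h3 h4
  have hc := cross_ne_zero hu hw hne
  rw [← mk_eq_of_cross hc ha (cross_zero_of h1 h2), ← mk_eq_of_cross hc hb (cross_zero_of h3 h4)]

/-- Two lines meet in one point only. -/
theorem point_unique {p p' l l' : Pt F} (hne : l ≠ l') (h1 : Inc p l) (h2 : Inc p l') (h3 : Inc p' l)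
    (h4 : Inc p' l') : p = p' :=
  line_unique hne (inc_symm.1 h1) (inc_symm.1 h2) (inc_symm.1 h3) (inc_symm.1 h4)

theorem exists_line_ne {p p' : Pt F} (h : p ≠ p') : ∃ l : Pt F, Inc p l ∧ Inc p' l := by
  induction p using Projectivization.ind with | _ u hu =>
  induction p' using Projectivization.ind with | _ w hw =>
  refine ⟨mk F _ (cross_ne_zero hu hw h), (inc_mk _ _).2 ?_, (inc_mk _ _).2 ?_⟩
  · rw [dotProduct_comm, dot_self_cross]
  · rw [dotProduct_comm, dot_cross_self]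

theorem exists_point_ne {l l' : Pt F} (h : l ≠ l') : ∃ p : Pt F, Inc p l ∧ Inc p l' := by
  obtain ⟨p, h1, h2⟩ := exists_line_ne h
  exact ⟨p, inc_symm.1 h1, inc_symm.1 h2⟩

/-- An elation. -/
def el (z a : V3 F) (h : a ⬝ᵥ z = 0) : PSL3 F := QuotientGroup.mk (tvS z a h)

theorem vm_sq {z a : V3 F} (h : a ⬝ᵥ z = 0) :
    Matrix.vecMulVec z a * Matrix.vecMulVec z a = 0 := by
  rw [Matrix.vecMulVec_mul_vecMulVec, h, zero_smul, Matrix.vecMulVec_zero]

theorem el_eq_iff {z a w b : V3 F} (h : a ⬝ᵥ z = 0) (h' : b ⬝ᵥ w = 0) :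
    el z a h = el w b h' ↔ Matrix.vecMulVec z a = Matrix.vecMulVec w b := by
  refine ⟨fun e => eq_of_mk_eq rfl rfl (vm_sq h) (vm_sq h') e, fun e => ?_⟩
  exact congrArg QuotientGroup.mk (Subtype.ext (congrArg (1 + ·) e))

theorem el_eq_one_iff {z a : V3 F} (h : a ⬝ᵥ z = 0) : el z a h = 1 ↔ z = 0 ∨ a = 0 := by
  have h0 : (0 : V3 F) ⬝ᵥ (0 : V3 F) = 0 := zero_dotProduct _
  have e1 : el (0 : V3 F) 0 h0 = 1 := by
    rw [el, show tvS (0 : V3 F) 0 h0 = 1 from Subtype.ext (tvMat_zero_left 0), QuotientGroup.mk_one]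
  rw [← e1, el_eq_iff, Matrix.vecMulVec_zero, Matrix.vecMulVec_eq_zero]

theorem el_mul_right {z a b : V3 F} (ha : a ⬝ᵥ z = 0) (hb : b ⬝ᵥ z = 0) :
    el z a ha * el z b hb = el z (a + b) (by rw [add_dotProduct, ha, hb, add_zero]) := by
  rw [el, el, el, ← QuotientGroup.mk_mul]
  exact congrArg QuotientGroup.mk (Subtype.ext (tvMat_mul_right z a b ha))

theorem el_mul_left {z w b : V3 F} (hz : b ⬝ᵥ z = 0) (hw : b ⬝ᵥ w = 0) :
    el z b hz * el w b hw = el (z + w) b (by rw [dotProduct_add, hz, hw, add_zero]) := by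
  rw [el, el, el, ← QuotientGroup.mk_mul]
  exact congrArg QuotientGroup.mk (Subtype.ext (tvMat_mul_left z w b hw))

theorem el_smul (c : F) {z a : V3 F} (h : a ⬝ᵥ z = 0) :
    el (c • z) a (by rw [dotProduct_smul, h, smul_zero]) = el z (c • a) (by rw [smul_dotProduct, h, smul_zero]) :=
  congrArg QuotientGroup.mk (Subtype.ext (tvMat_smul c z a))

theorem el_conj (s : SL3 F) {z a : V3 F} (h : a ⬝ᵥ z = 0) :
    (QuotientGroup.mk s : PSL3 F) * el z a h * (QuotientGroup.mk s)⁻¹ =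
      el (s.1 *ᵥ z) ((tinv s).1 *ᵥ a) (by
        rw [tinv_coe, Matrix.mulVec_transpose, ← Matrix.dotProduct_mulVec, inv_mulVec, h]) := by
  rw [el, el, ← QuotientGroup.mk_inv, ← QuotientGroup.mk_mul, ← QuotientGroup.mk_mul]
  refine congrArg QuotientGroup.mk (Subtype.ext ?_)
  show s.1 * tvMat z a * (s⁻¹).1 = tvMat (s.1 *ᵥ z) ((tinv s).1 *ᵥ a)
  rw [tinv_coe, Matrix.mulVec_transpose, tvMat, tvMat, Matrix.mul_add, Matrix.add_mul, Matrix.mul_one,
    ← Matrix.SpecialLinearGroup.coe_mul, mul_inv_cancel, Matrix.SpecialLinearGroup.coe_one, Matrix.mul_vecMulVec,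
    Matrix.vecMulVec_mul]

/-- An elation fixes exactly the points of its axis. -/
theorem el_fix {z a : V3 F} (h : a ⬝ᵥ z = 0) (hz : z ≠ 0) (ha : a ≠ 0) (p : Pt F) :
    el z a h • p = p ↔ Inc p (mk F a ha) := by
  induction p using Projectivization.ind with | _ v hv =>
  rw [el, mk_smul, inc_mk, mk_eq_mk_iff']
  show (∃ c : F, c • v = tvMat z a *ᵥ v) ↔ _
  simp only [tvMat_mulVec]
  refine ⟨fun ⟨c, hc⟩ => by_contra fun hne => hne ?_, fun e => ⟨1, by rw [e, zero_smul, add_zero, one_smul]⟩⟩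
  have e : (a ⬝ᵥ v) • z = (c - 1) • v := by rw [sub_smul, one_smul, hc]; abel
  have e2 := congrArg (a ⬝ᵥ ·) e
  simp only [dotProduct_smul, smul_eq_mul, h, mul_zero] at e2
  rcases mul_eq_zero.1 e2.symm with e3 | e3
  · rw [e3, zero_smul] at e
    exact absurd ((smul_eq_zero.1 e).resolve_right hz) hne
  · exact e3

/-- An elation fixes exactly the lines through its centre. -/
theorem el_fix_ln {z a : V3 F} (h : a ⬝ᵥ z = 0) (hz : z ≠ 0) (ha : a ≠ 0) (l : Pt F) :
    ln (el z a h) l = l ↔ Inc (mk F z hz) l := by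
  have h' : (-z) ⬝ᵥ a = 0 := by rw [neg_dotProduct, dotProduct_comm, h, neg_zero]
  have e : (gr : MulAut (PSL3 F)) (el z a h) = el a (-z) h' := by
    rw [el, gr_mk, el]
    refine congrArg QuotientGroup.mk (Subtype.ext ?_)
    have hinv : (tvS z a h)⁻¹ = tvS (-z) a (by rw [dotProduct_neg, h, neg_zero]) :=
      inv_eq_of_mul_eq_one_right (Subtype.ext (by
        show tvMat z a * tvMat (-z) a = 1
        rw [tvMat_mul_left _ _ _ (by rw [dotProduct_neg, h, neg_zero]), add_neg_cancel, tvMat_zero_left]))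
    rw [tinv_coe, hinv]
    show (tvMat (-z) a).transpose = tvMat a (-z)
    rw [tvMat, tvMat, Matrix.transpose_add, Matrix.transpose_one, Matrix.transpose_vecMulVec]
  rw [ln, e, el_fix h' ha (neg_ne_zero.2 hz), inc_symm]
  rw [show mk F (-z) (neg_ne_zero.2 hz) = mk F z hz from (mk_eq_mk_iff' F _ _ _ _).2 ⟨-1, neg_one_smul F z⟩]

/-- An elation and its centre and axis. -/
theorem el_data {z a w b : V3 F} (h : a ⬝ᵥ z = 0) (h' : b ⬝ᵥ w = 0) (hz : z ≠ 0) (ha : a ≠ 0) (hw : w ≠ 0)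
    (hb : b ≠ 0) (e : el z a h = el w b h') : mk F z hz = mk F w hw ∧ mk F a ha = mk F b hb := by
  have hM := (el_eq_iff h h').1 e
  obtain ⟨i, hi⟩ := Function.ne_iff.1 ha
  obtain ⟨k, hk⟩ := Function.ne_iff.1 hz
  constructor
  · refine (mk_eq_mk_iff' F _ _ _ _).2 ⟨b i / a i, funext fun j => ?_⟩
    have := congrFun (congrFun hM j) i
    simp only [Matrix.vecMulVec_apply] at this
    simp only [Pi.smul_apply, smul_eq_mul, Pi.zero_apply] at hi ⊢
    field_simp
    linear_combination (-1 : F) * this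
  · refine (mk_eq_mk_iff' F _ _ _ _).2 ⟨w k / z k, funext fun j => ?_⟩
    have := congrFun (congrFun hM k) j
    simp only [Matrix.vecMulVec_apply] at this
    simp only [Pi.smul_apply, smul_eq_mul, Pi.zero_apply] at hk ⊢
    field_simp
    linear_combination (-1 : F) * this

/-- Commuting elations share the centre or the axis. -/
theorem el_commute {z a w b : V3 F} (h : a ⬝ᵥ z = 0) (h' : b ⬝ᵥ w = 0) (hz : z ≠ 0) (ha : a ≠ 0) (hw : w ≠ 0)
    (hb : b ≠ 0) (hc : Commute (el z a h) (el w b h')) :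
    mk F z hz = mk F w hw ∨ mk F a ha = mk F b hb := by
  refine or_iff_not_imp_left.2 fun hne => ?_
  have key : ∀ {z a w b : V3 F} (h : a ⬝ᵥ z = 0) (h' : b ⬝ᵥ w = 0) (hz : z ≠ 0) (ha : a ≠ 0) (hw : w ≠ 0)
      (_ : b ≠ 0), Commute (el z a h) (el w b h') → mk F z hz ≠ mk F w hw → a ⬝ᵥ w = 0 := by
    intro z a w b h h' hz ha hw hb hc hne
    have e := el_conj (tvS z a h) h'
    have hl : (el z a h) * el w b h' * (el z a h)⁻¹ = el w b h' := by rw [hc.eq, mul_inv_cancel_right]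
    change el z a h * el w b h' * (el z a h)⁻¹ = _ at e
    rw [hl] at e
    obtain ⟨e1, -⟩ := el_data h' _ hw hb (mulVec_ne_zero _ hw) (mulVec_ne_zero _ hb) e
    have e2 : el z a h • mk F w hw = mk F w hw := by rw [el, mk_smul]; exact e1.symm
    exact (inc_mk hw ha).1 ((el_fix h hz ha _).1 e2)
  have h1 := key h h' hz ha hw hb hc hne
  have h2 := key h' h hw hb hz ha hc.symm (Ne.symm hne)
  exact line_unique hne ((inc_mk hz ha).2 h) ((inc_mk hw ha).2 h1) ((inc_mk hz hb).2 h2) ((inc_mk hw hb).2 h')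

/-- Three pairwise related elations share one centre or one axis. -/
theorem el_commute_three {p₁ p₂ p₃ l₁ l₂ l₃ : Pt F} (h12 : p₁ = p₂ ∧ l₁ ≠ l₂) (h13 : p₁ = p₃ ∨ l₁ = l₃)
    (h23 : p₂ = p₃ ∨ l₂ = l₃) : p₁ = p₃ := by
  rcases h13 with h | h
  · exact h
  rcases h23 with h' | h'
  · exact h12.1.trans h'
  · exact absurd (h.trans h'.symm) h12.2

theorem card_pt [Fintype F] : Nat.card (Pt F) = Fintype.card F ^ 2 + Fintype.card F + 1 := by
  have h := card_points (F := F) (ι := Fin 3)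
  rw [Fintype.card_fin] at h
  have hq : 2 ≤ Fintype.card F := Fintype.one_lt_card
  obtain ⟨k, hk⟩ : ∃ k, Fintype.card F = k + 2 := ⟨_ - 2, (Nat.sub_add_cancel hq).symm⟩
  rw [hk] at h ⊢
  refine Nat.eq_of_mul_eq_mul_right (show 0 < k + 2 - 1 by omega) ?_
  rw [show k + 2 - 1 = k + 1 by omega] at h ⊢
  nlinarith [h]

theorem card_nonzero [Fintype F] : Nat.card {v : V3 F // v ≠ 0} = Nat.card (Pt F) * (Fintype.card F - 1) := by
  rw [Nat.card_congr (nonZeroEquivProjectivizationProdUnits F (V3 F)), Nat.card_prod, card_units_eq]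

/-- The non-zero vectors with a given class. -/
noncomputable def fibreEquiv (p : Pt F) : {v : {v : V3 F // v ≠ 0} // mk F v.1 v.2 = p} ≃ Fˣ :=
  Equiv.symm (Equiv.ofBijective (fun c : Fˣ => (⟨⟨(c : F) • p.rep, smul_ne_zero c.ne_zero p.rep_nonzero⟩, by
      conv_rhs => rw [← mk_rep p]
      exact (mk_eq_mk_iff' F _ _ _ _).2 ⟨(c : F), rfl⟩⟩ : {v : {v : V3 F // v ≠ 0} // mk F v.1 v.2 = p})) (by
    refine ⟨fun c d e => Units.ext (smul_left_injective F p.rep_nonzero ?_), fun ⟨⟨v, hv⟩, e⟩ => ?_⟩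
    · exact congrArg (fun x : {v : {v : V3 F // v ≠ 0} // mk F v.1 v.2 = p} => x.1.1) e
    · have e' : mk F v hv = mk F p.rep p.rep_nonzero := by rw [mk_rep]; exact e
      obtain ⟨c, hc⟩ := (mk_eq_mk_iff F _ _ _ _).1 e'
      exact ⟨c, Subtype.ext (Subtype.ext hc)⟩))

theorem card_perp [Fintype F] (p : Pt F) :
    Nat.card {a : V3 F // a ≠ 0 ∧ a ⬝ᵥ p.rep = 0} = Fintype.card F ^ 2 - 1 := by
  let f : V3 F →ₗ[F] F :=
    { toFun := fun a => a ⬝ᵥ p.rep
      map_add' := fun a b => add_dotProduct a b _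
      map_smul' := fun c a => smul_dotProduct c a _ }
  have hsurj : Function.Surjective f := by
    refine LinearMap.surjective fun e => p.rep_nonzero (dotProduct_eq_zero _ fun v => ?_)
    rw [dotProduct_comm]
    exact LinearMap.congr_fun e v
  have h1 := Submodule.card_eq_card_quotient_mul_card (LinearMap.ker f)
  rw [Nat.card_congr (f.quotKerEquivOfSurjective hsurj).toEquiv, Nat.card_fun, Nat.card_eq_fintype_card (α := F),
    Nat.card_eq_fintype_card (α := Fin 3), Fintype.card_fin, mul_comm] at h1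
  have h2 : Nat.card (LinearMap.ker f) = Fintype.card F ^ 2 := by
    refine Nat.eq_of_mul_eq_mul_right (Fintype.card_pos (α := F)) ?_
    rw [← pow_succ, show 2 + 1 = 3 from rfl, h1, mul_comm]
  rw [← h2, ← Nat.card_congr (Equiv.subtypeEquivRight (p := fun a : V3 F => a ∈ (LinearMap.ker f : Set (V3 F)) \ {0})
    (fun a => by simp [f, and_comm])), Nat.card_coe_set_eq, Set.ncard_sdiff_singleton_of_mem (zero_mem _),
    ← Nat.card_coe_set_eq]
  rfl

theorem card_lines_through [Fintype F] (p : Pt F) : {l : Pt F | Inc p l}.ncard = Fintype.card F + 1 := by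
  have e : {a : V3 F // a ≠ 0 ∧ a ⬝ᵥ p.rep = 0} ≃ {l : Pt F | Inc p l} × Fˣ := by
    refine Equiv.trans ?_ (Equiv.sigmaEquivProd _ _)
    refine Equiv.trans ?_ (Equiv.sigmaCongrRight fun l : {l : Pt F | Inc p l} => fibreEquiv l.1)
    exact
      { toFun := fun a => ⟨⟨mk F a.1 a.2.1, by
          exact (inc_right p _).2 a.2.2⟩, ⟨⟨a.1, a.2.1⟩, rfl⟩⟩
        invFun := fun x => ⟨x.2.1.1, x.2.1.2, by
          have h := x.1.2
          change Inc p _ at h
          rw [← x.2.2, inc_right] at h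
          exact h⟩
        left_inv := fun a => rfl
        right_inv := fun x => by
          obtain ⟨⟨l, hl⟩, ⟨⟨v, hv⟩, e⟩⟩ := x
          change mk F v hv = l at e
          subst e
          rfl }
  have h := Nat.card_congr e
  rw [card_perp, Nat.card_prod, card_units_eq, Nat.card_coe_set_eq] at h
  have hq : 2 ≤ Fintype.card F := Fintype.one_lt_card
  obtain ⟨k, hk⟩ : ∃ k, Fintype.card F = k + 2 := ⟨_ - 2, (Nat.sub_add_cancel hq).symm⟩
  rw [hk] at h ⊢
  have hs : (k + 2) ^ 2 = (k + 2 + 1) * (k + 1) + 1 := by ring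
  rw [hs, Nat.add_sub_cancel, show k + 2 - 1 = k + 1 by omega] at h
  exact (Nat.eq_of_mul_eq_mul_right (Nat.succ_pos k) h).symm

theorem card_points_on [Fintype F] (l : Pt F) : {p : Pt F | Inc p l}.ncard = Fintype.card F + 1 := by
  rw [← card_lines_through l]
  congr 1
  ext p
  exact inc_symm

end Cfsg.Lib.LThreeExt
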