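import Cfsg.Agent.Lib.LThreeExt.Trans

/-!
# Planes and parallel classes
-/

set_option autoImplicit false
set_option linter.unusedSectionVars false
set_option linter.style.haveILetI false

namespace Cfsg.Lib.LThreeExt

open Matrix Projectivization Cfsg.Lib Cfsg.Lib.Linear Cfsg.Lib.Linear.TVec Cfsg.Lib.Linear.AutPSL
open scoped MatrixGroups LinearAlgebra.Projectivization

universe u w

variable {F : Type} [Field F] [Fintype F] [CharP F 2]
variable {G : Type u} [Group G] [Finite G] {Ω : Type w} [Finite Ω] [MulAction G Ω] [FaithfulSMul G Ω]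

/-- Two planes are parallel. -/
def Par (W W' : Set Ω) : Prop := W = W' ∨ Disjoint W W'

theorem Par.refl (W : Set Ω) : Par W W := Or.inl rfl

theorem Par.symm {W W' : Set Ω} (h : Par W W') : Par W' W :=
  h.elim (fun e => Or.inl e.symm) fun d => Or.inr d.symm

theorem Par.eq_of_mem {W W' : Set Ω} (h : Par W W') {x : Ω} (hx : x ∈ W) (hx' : x ∈ W') : W = W' :=
  h.resolve_right fun d => Set.disjoint_left.1 d hx hx'

theorem Par.image {W W' : Set Ω} (h : Par W W') (g : G) : Par ((g • ·) '' W) ((g • ·) '' W') :=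
  h.elim (fun e => Or.inl (by rw [e])) fun d =>
    Or.inr ((Set.disjoint_image_iff (MulAction.injective g)).2 d)

variable (E : Ext F G Ω) (hP : ∀ x y, y ≠ x → PointS (E.stb x y))
include hP

/-- The plane of a line at a point. -/
def pln (x : Ω) (l : Pt F) : Set Ω := insert x {y | y ≠ x ∧ Inc ((ptGeo E hP).pt x y) l}

theorem self_mem_pln (x : Ω) (l : Pt F) : x ∈ pln E hP x l := Set.mem_insert _ _

theorem mem_pln {x y : Ω} (hy : y ≠ x) {l : Pt F} : y ∈ pln E hP x l ↔ Inc ((ptGeo E hP).pt x y) l := by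
  simp [pln, hy]

theorem pln_fix (x : Ω) (l : Pt F) :
    pln E hP x l = {y : Ω | ∀ g ∈ (ag l.rep).map (E.emb x), g • y = y} := by
  ext y
  rcases eq_or_ne y x with rfl | hy
  · exact iff_of_true (self_mem_pln E hP y l) fun g ⟨k, _, e⟩ => e ▸ E.fix y k
  have hp : ((ptGeo E hP).pt x y ∈ {p : Pt F | ∀ k ∈ ag l.rep, k • p = p}) ↔ Inc ((ptGeo E hP).pt x y) l := by
    rw [pts_ag l.rep_nonzero, mk_rep]
    rfl
  rw [mem_pln E hP hy, ← hp]
  constructor
  · rintro h g ⟨k, hk, rfl⟩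
    rcases eq_or_ne k 1 with rfl | h1
    · rw [map_one, one_smul]
    · exact (ptGeo E hP).mem x y hy k (Invol.orderOf_eq_two_of h1 (ag_mul_self hk)) (h k hk)
  · exact fun h k hk => (ptGeo E hP).pt_fix x y hy k (h _ ⟨k, hk, rfl⟩)

theorem pln_at {x y : Ω} {l : Pt F} (h : y ∈ pln E hP x l) : ∃ l', pln E hP y l' = pln E hP x l := by
  rw [pln_fix] at h
  obtain ⟨l', hl'⟩ := axs_at E hP h
  exact ⟨l', by rw [pln_fix, pln_fix, hl']⟩

theorem exists_fib (x : Ω) (p : Pt F) : ∃ z, z ≠ x ∧ (ptGeo E hP).pt x z = p := by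
  obtain ⟨z, hz⟩ := Set.nonempty_of_ncard_ne_zero (s := (ptGeo E hP).fib x p)
    (by rw [(ptGeo E hP).card_fib]; exact (ptGeo E hP).tee_pos.ne')
  exact ⟨z, hz.1, hz.2⟩

theorem pln_inj {x : Ω} {l l' : Pt F} (h : pln E hP x l = pln E hP x l') : l = l' := by
  by_contra hne
  obtain ⟨p, hp, hp'⟩ := exists_point_ne hne
  obtain ⟨p'', hp'', hpne⟩ := Set.exists_ne_of_one_lt_ncard (s := {p : Pt F | Inc p l})
    (by rw [card_points_on]; have := Fintype.one_lt_card (α := F); omega) p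
  obtain ⟨z, hz, hzp⟩ := exists_fib E hP x p''
  have h1 : z ∈ pln E hP x l := (mem_pln E hP hz).2 (hzp ▸ hp'')
  rw [h, mem_pln E hP hz, hzp] at h1
  exact hpne (point_unique hne hp'' h1 hp hp')

theorem pln_inter {x z : Ω} (hz : z ≠ x) {l l' : Pt F} (hne : l ≠ l') (h : Inc ((ptGeo E hP).pt x z) l)
    (h' : Inc ((ptGeo E hP).pt x z) l') : pln E hP x l ∩ pln E hP x l' = E.blk x z := by
  ext y
  rw [mem_blk_iff E hP hz, Set.mem_inter_iff]
  rcases eq_or_ne y x with rfl | hy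
  · exact iff_of_true ⟨self_mem_pln E hP y l, self_mem_pln E hP y l'⟩ (Or.inl rfl)
  · rw [mem_pln E hP hy, mem_pln E hP hy]
    exact ⟨fun ⟨e, e'⟩ => Or.inr ⟨hy, point_unique hne e e' h h'⟩,
      fun e => by rw [(e.resolve_left hy).2]; exact ⟨h, h'⟩⟩

variable (hT : (ptGeo E hP).tee + 1 = Fintype.card F)
include hT

theorem card_pln (x : Ω) (l : Pt F) : (pln E hP x l).ncard = Fintype.card F ^ 2 := by
  rw [pln_fix, fix_axs E hP, ← hT]
  ring

theorem card_inter {x : Ω} {l l' : Pt F} (hne : l ≠ l') :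
    (pln E hP x l ∩ pln E hP x l').ncard = Fintype.card F := by
  obtain ⟨p, hp, hp'⟩ := exists_point_ne hne
  obtain ⟨z, hz, hzp⟩ := exists_fib E hP x p
  rw [pln_inter E hP hz hne (hzp ▸ hp) (hzp ▸ hp'), blk_card E hP hz, hT]

theorem card_Ω : Nat.card Ω = Fintype.card F ^ 3 := by
  rw [(ptGeo E hP).card_eq, card_pt, ← hT]
  ring

/-- Exactly one plane through a point is parallel to a given plane. -/
theorem exists_unique_par (a : Ω) (m : Pt F) (x : Ω) :
    ∃ l, Par (pln E hP x l) (pln E hP a m) ∧ ∀ l', Par (pln E hP x l') (pln E hP a m) → l' = l := by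
  classical
  set W := pln E hP a m with hW
  by_cases hx : x ∈ W
  · obtain ⟨l, hl⟩ := pln_at E hP hx
    refine ⟨l, Or.inl hl, fun l' h => pln_inj E hP (x := x) ?_⟩
    rw [hl]
    exact h.eq_of_mem (self_mem_pln E hP x l') hx
  let A := {l : Pt F // (pln E hP x l ∩ W).Nonempty}
  have hne : ∀ y : W, (y : Ω) ≠ x := fun y e => hx (e ▸ y.2)
  have e : (Σ y : W, {l : Pt F | Inc ((ptGeo E hP).pt x y.1) l}) ≃ Σ l : A, (pln E hP x l.1 ∩ W : Set Ω) := by
    refine Equiv.ofBijective (fun s => ⟨⟨s.2.1, ⟨s.1.1, (mem_pln E hP (hne s.1)).2 s.2.2, s.1.2⟩⟩,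
      s.1.1, (mem_pln E hP (hne s.1)).2 s.2.2, s.1.2⟩) ⟨?_, ?_⟩
    · rintro ⟨⟨y, hy⟩, l, hl⟩ ⟨⟨y', hy'⟩, l', hl'⟩ h
      have h1 : y = y' := congrArg (fun s : Σ l : A, (pln E hP x l.1 ∩ W : Set Ω) => (s.2 : Ω)) h
      have h2 : l = l' := congrArg (fun s : Σ l : A, (pln E hP x l.1 ∩ W : Set Ω) => s.1.1) h
      subst h1 h2
      rfl
    · rintro ⟨⟨l, hl⟩, y, hy1, hy2⟩
      exact ⟨⟨⟨y, hy2⟩, l, (mem_pln E hP (hne ⟨y, hy2⟩)).1 hy1⟩, rfl⟩
  have hq : ∀ l : A, Nat.card (pln E hP x l.1 ∩ W : Set Ω) = Fintype.card F := by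
    rintro ⟨l, y, hy1, hy2⟩
    obtain ⟨l₁, h1⟩ := pln_at E hP hy1
    obtain ⟨l₂, h2⟩ := pln_at E hP (x := a) (l := m) hy2
    rw [Nat.card_coe_set_eq]
    show (pln E hP x l ∩ W).ncard = _
    rw [hW, ← h1, ← h2]
    refine card_inter E hP hT fun e => hx ?_
    rw [hW, ← h2, ← e, h1]
    exact self_mem_pln E hP x l
  letI := Fintype.ofFinite W
  letI := Fintype.ofFinite A
  have h := Nat.card_congr e
  rw [Nat.card_sigma, Nat.card_sigma, Finset.sum_congr rfl (fun y _ => (Nat.card_coe_set_eq _).trans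
    (card_lines_through _)), Finset.sum_congr rfl (fun l _ => hq l), Finset.sum_const, Finset.sum_const,
    Finset.card_univ, Finset.card_univ, smul_eq_mul, smul_eq_mul, ← Nat.card_eq_fintype_card (α := W),
    ← Nat.card_eq_fintype_card (α := A), Nat.card_coe_set_eq, hW, card_pln E hP hT] at h
  have hA : Nat.card A = Fintype.card F * (Fintype.card F + 1) :=
    Nat.eq_of_mul_eq_mul_right (Fintype.card_pos (α := F)) (by rw [← h]; ring)
  have hc := Set.ncard_add_ncard_compl {l : Pt F | (pln E hP x l ∩ W).Nonempty}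
  rw [← Nat.card_coe_set_eq] at hc
  change Nat.card A + _ = _ at hc
  rw [hA, card_pt, show Fintype.card F ^ 2 + Fintype.card F + 1 = Fintype.card F * (Fintype.card F + 1) + 1 by ring,
    add_right_inj] at hc
  obtain ⟨l, hl⟩ := Set.ncard_eq_one.1 hc
  have hmem : l ∈ ({l : Pt F | (pln E hP x l ∩ W).Nonempty})ᶜ := by rw [hl]; exact rfl
  refine ⟨l, Or.inr (Set.disjoint_left.2 fun y h1 h2 => hmem ⟨y, h1, h2⟩), fun l' h' => ?_⟩
  have hd : Disjoint (pln E hP x l') W := h'.resolve_left fun e => hx (e ▸ self_mem_pln E hP x l')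
  have : l' ∈ ({l : Pt F | (pln E hP x l ∩ W).Nonempty})ᶜ := fun ⟨y, h1, h2⟩ => Set.disjoint_left.1 hd h1 h2
  rw [hl] at this
  exact this

/-- The line at `y` of the plane parallel to the plane of `l` at `x`. -/
noncomputable def pl (x y : Ω) (l : Pt F) : Pt F := (exists_unique_par E hP hT x l y).choose

theorem pl_par (x y : Ω) (l : Pt F) : Par (pln E hP y (pl E hP hT x y l)) (pln E hP x l) :=
  (exists_unique_par E hP hT x l y).choose_spec.1

theorem pl_eq {x y : Ω} {l l' : Pt F} (h : Par (pln E hP y l') (pln E hP x l)) : l' = pl E hP hT x y l :=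
  (exists_unique_par E hP hT x l y).choose_spec.2 l' h

theorem pl_self (x : Ω) (l : Pt F) : pl E hP hT x x l = l := (pl_eq E hP hT (Par.refl _)).symm

theorem par_trans {x y z : Ω} {l m n : Pt F} (h : Par (pln E hP x l) (pln E hP y m))
    (h' : Par (pln E hP y m) (pln E hP z n)) : Par (pln E hP x l) (pln E hP z n) := by
  by_cases hd : Disjoint (pln E hP x l) (pln E hP z n)
  · exact Or.inr hd
  obtain ⟨w, hw, hw'⟩ := Set.not_disjoint_iff.1 hd
  obtain ⟨l₁, h1⟩ := pln_at E hP hw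
  obtain ⟨l₂, h2⟩ := pln_at E hP hw'
  rw [← h1] at h ⊢
  rw [← h2] at h' ⊢
  rw [pl_eq E hP hT h, ← pl_eq E hP hT h'.symm]
  exact Par.refl _

theorem pl_pl (x y z : Ω) (l : Pt F) : pl E hP hT y z (pl E hP hT x y l) = pl E hP hT x z l :=
  pl_eq E hP hT (par_trans E hP hT (pl_par E hP hT y z _) (pl_par E hP hT x y l))

theorem pl_injective (x y : Ω) : Function.Injective (pl E hP hT x y) := fun l l' e => by
  rw [← pl_self E hP hT x l, ← pl_pl E hP hT x y x l, e, pl_pl, pl_self]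

theorem pl_of_mem {x y : Ω} {l : Pt F} (h : y ∈ pln E hP x l) :
    pln E hP y (pl E hP hT x y l) = pln E hP x l :=
  (pl_par E hP hT x y l).eq_of_mem (self_mem_pln E hP y _) h

theorem conc_step {x y : Ω} {p : Pt F} {l₁ l₂ l₃ : Pt F} (h12 : l₁ ≠ l₂) (h13 : l₁ ≠ l₃) (h23 : l₂ ≠ l₃)
    (h1 : Inc p l₁) (h2 : Inc p l₂) (h3 : Inc p l₃) (hy : y ∈ pln E hP x l₃) :
    ∃ p', Inc p' (pl E hP hT x y l₁) ∧ Inc p' (pl E hP hT x y l₂) ∧ Inc p' (pl E hP hT x y l₃) := by
  classical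
  rcases eq_or_ne y x with rfl | hyx
  · exact ⟨p, by rwa [pl_self], by rwa [pl_self], by rwa [pl_self]⟩
  by_cases hp : (ptGeo E hP).pt x y = p
  · have key : ∀ l, Inc p l → Inc ((ptGeo E hP).pt y x) (pl E hP hT x y l) := fun l hl => by
      have hm : y ∈ pln E hP x l := (mem_pln E hP hyx).2 (hp ▸ hl)
      rw [← mem_pln E hP hyx.symm, pl_of_mem E hP hT hm]
      exact self_mem_pln E hP x l
    exact ⟨_, key _ h1, key _ h2, key _ h3⟩
  obtain ⟨z, hz, hzp⟩ := exists_fib E hP x p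
  have hnot : ∀ l, l ≠ l₃ → Inc p l → y ∉ pln E hP x l := fun l hl hpl hm =>
    hp (point_unique hl ((mem_pln E hP hyx).1 hm) ((mem_pln E hP hyx).1 hy) hpl h3)
  set m₃ := pl E hP hT x y l₃ with hm₃
  have hW : pln E hP y m₃ = pln E hP x l₃ := pl_of_mem E hP hT hy
  have hyB : y ∉ E.blk x z := fun h => hp (((pt_of_mem_blk E hP hz h hyx)).trans hzp)
  let B := E.blk x z
  have hinj : Set.InjOn (fun b => (ptGeo E hP).pt y b) B := by
    intro b hb b' hb' e
    by_contra hne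
    have hby : b ≠ y := fun h => hyB (h ▸ hb)
    have hby' : b' ≠ y := fun h => hyB (h ▸ hb')
    refine hyB ?_
    have e1 := blk_eq E hP hz hb hb' (Ne.symm hne)
    have e2 : b' ∈ E.blk y b := (mem_blk_iff E hP hby).2 (Or.inr ⟨hby', e.symm⟩)
    have e3 := blk_eq E hP hby (E.right_mem_blk y b) e2 (Ne.symm hne)
    show y ∈ E.blk x z
    rw [← e1, e3]
    exact E.left_mem_blk y b
  have hBW : ∀ b ∈ B, b ∈ pln E hP x l₃ := fun b hb => by
    rcases eq_or_ne b x with rfl | hbx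
    · exact self_mem_pln E hP _ l₃
    · rw [mem_pln E hP hbx, pt_of_mem_blk E hP hz hb hbx, hzp]
      exact h3
  set S := (fun b => (ptGeo E hP).pt y b) '' B with hS
  have hSm : S ⊆ {q : Pt F | Inc q m₃} := by
    rintro _ ⟨b, hb, rfl⟩
    have hby : b ≠ y := fun h => hyB (h ▸ hb)
    exact (mem_pln E hP hby).1 (hW ▸ hBW b hb)
  have hScard : S.ncard = Fintype.card F := by
    rw [hS, hinj.ncard_image, blk_card E hP hz, hT]
  have hout : ∀ l, l ≠ l₃ → Inc p l → ∀ q, Inc q (pl E hP hT x y l) → Inc q m₃ → q ∉ S := by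
    rintro l hl hpl _ hq - ⟨b, hb, rfl⟩
    have hby : b ≠ y := fun h => hyB (h ▸ hb)
    have hbl : b ∈ pln E hP x l := by
      rcases eq_or_ne b x with rfl | hbx
      · exact self_mem_pln E hP _ l
      · rw [mem_pln E hP hbx, pt_of_mem_blk E hP hz hb hbx, hzp]
        exact hpl
    have h := (pl_par E hP hT x y l).eq_of_mem ((mem_pln E hP hby).2 hq) hbl
    exact hnot l hl hpl (h ▸ self_mem_pln E hP y _)
  obtain ⟨q₁, hq₁, hq₁'⟩ := exists_point_ne (fun e => h13 (pl_injective E hP hT x y e) :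
    pl E hP hT x y l₁ ≠ m₃)
  obtain ⟨q₂, hq₂, hq₂'⟩ := exists_point_ne (fun e => h23 (pl_injective E hP hT x y e) :
    pl E hP hT x y l₂ ≠ m₃)
  refine ⟨q₁, hq₁, ?_, hq₁'⟩
  suffices e : q₁ = q₂ by rw [e]; exact hq₂
  by_contra hne
  have hsub : S ⊆ {q : Pt F | Inc q m₃} \ {q₁, q₂} := fun q hq => ⟨hSm hq, by
    rintro (rfl | rfl)
    · exact hout l₁ h13 h1 _ hq₁ hq₁' hq
    · exact hout l₂ h23 h2 _ hq₂ hq₂' hq⟩
  have hle := Set.ncard_le_ncard hsub (Set.toFinite _)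
  rw [Set.ncard_sdiff (show ({q₁, q₂} : Set (Pt F)) ⊆ {q | Inc q m₃} by rintro q (rfl | rfl) <;> assumption)
    (Set.toFinite _), Set.ncard_pair hne, card_points_on, hScard] at hle
  have := Fintype.one_lt_card (α := F)
  omega

/-- Parallelism preserves pencils. -/
theorem conc {x y : Ω} {p p' : Pt F} {l₁ l₂ l₃ : Pt F} (h12 : l₁ ≠ l₂) (h1 : Inc p l₁) (h2 : Inc p l₂)
    (h3 : Inc p l₃) (h1' : Inc p' (pl E hP hT x y l₁)) (h2' : Inc p' (pl E hP hT x y l₂)) :
    Inc p' (pl E hP hT x y l₃) := by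
  by_cases h13 : l₁ = l₃
  · exact h13 ▸ h1'
  by_cases h23 : l₂ = l₃
  · exact h23 ▸ h2'
  obtain ⟨y', hy3, hy1⟩ : (pln E hP x l₃ ∩ pln E hP y (pl E hP hT x y l₁)).Nonempty := by
    by_contra hc
    rw [Set.not_nonempty_iff_eq_empty, ← Set.disjoint_iff_inter_eq_empty] at hc
    have h : Par (pln E hP y (pl E hP hT x y l₁)) (pln E hP x l₃) := Or.inr hc.symm
    exact h13 (pl_injective E hP hT x y (pl_eq E hP hT h))
  obtain ⟨r, r1, r2, r3⟩ := conc_step E hP hT h12 h13 h23 h1 h2 h3 hy3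
  have e1 : pln E hP y' (pl E hP hT x y' l₁) = pln E hP y (pl E hP hT x y l₁) :=
    (par_trans E hP hT (pl_par E hP hT x y' l₁) (pl_par E hP hT x y l₁).symm).eq_of_mem
      (self_mem_pln E hP y' _) hy1
  obtain ⟨s, s3, s2, s1⟩ := conc_step E hP hT (x := y') (y := y)
    (fun e => h23 (pl_injective E hP hT x y' e).symm) (fun e => h13 (pl_injective E hP hT x y' e).symm)
    (fun e => h12 (pl_injective E hP hT x y' e).symm) r3 r2 r1 (e1 ▸ self_mem_pln E hP y _)
  rw [pl_pl] at s1 s2 s3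
  exact (point_unique (fun e => h12 (pl_injective E hP hT x y e)) h1' h2' s1 s2) ▸ s3

end Cfsg.Lib.LThreeExt
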