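import Cfsg.Agent.Lib.LThreeExt.Flags

/-!
# The fibres have `q - 1` points, or `q = 4` and one point
-/

set_option autoImplicit false
set_option linter.unusedSectionVars false
set_option linter.style.haveILetI false

namespace Cfsg.Lib.LThreeExt

open Matrix Projectivization Cfsg.Lib Cfsg.Lib.Linear Cfsg.Lib.Linear.TVec Cfsg.Lib.Linear.AutPSL
open scoped MatrixGroups LinearAlgebra.Projectivization

universe u w

variable {F : Type} [Field F] [Fintype F] [CharP F 2]
variable {G : Type u} [Group G] [Finite G] {Ω : Type w} [Finite Ω] [MulAction G Ω] [FaithfulSMul G Ω]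

theorem pts_ag {a : V3 F} (ha : a ≠ 0) :
    {p : Pt F | ∀ k ∈ ag a, k • p = p} = {p | Inc p (mk F a ha)} := by
  ext p
  constructor
  · intro hp
    obtain ⟨z, hz⟩ := Set.nonempty_of_ncard_ne_zero (s := {z : Pt F | Inc z (mk F a ha)})
      (by rw [card_points_on]; omega)
    have h' : a ⬝ᵥ z.rep = 0 := (inc_right z ha).1 hz
    exact (el_fix h' z.rep_nonzero ha p).1 (hp _ (el_mem_ag h'))
  · intro hp k hk
    obtain ⟨z, h, rfl⟩ := hk
    rcases eq_or_ne z 0 with rfl | hz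
    · rw [(el_eq_one_iff h).2 (Or.inl rfl), one_smul]
    · exact (el_fix h hz ha p).2 hp

theorem pts_cg {z : V3 F} (hz : z ≠ 0) : {p : Pt F | ∀ k ∈ cg z, k • p = p} = {mk F z hz} := by
  ext p
  constructor
  · intro hp
    by_contra hne
    obtain ⟨b, hb, hbz⟩ := exists_line_ne (hne : p ≠ mk F z hz)
    obtain ⟨c, hc, hcb⟩ := Set.exists_ne_of_one_lt_ncard (s := {c : Pt F | Inc (mk F z hz) c})
      (by rw [card_lines_through]; have := Fintype.one_lt_card (α := F); omega) b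
    have h' : c.rep ⬝ᵥ z = 0 := (inc_mk hz c.rep_nonzero).1 (by rw [mk_rep]; exact hc)
    have e := (el_fix h' hz c.rep_nonzero p).1 (hp _ (el_mem_cg h'))
    rw [mk_rep] at e
    exact hcb (line_unique hne e hc hb hbz)
  · rintro rfl k ⟨a, h, rfl⟩
    rcases eq_or_ne a 0 with rfl | ha
    · rw [(el_eq_one_iff h).2 (Or.inr rfl), one_smul]
    · exact (el_fix h hz ha _).2 ((inc_mk hz ha).2 h)

theorem mk_eq_of_ag_eq {a b : V3 F} (ha : a ≠ 0) (hb : b ≠ 0) (e : ag a = ag b) : mk F a ha = mk F b hb := by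
  obtain ⟨z, hz⟩ := Set.nonempty_of_ncard_ne_zero (s := {z : Pt F | Inc z (mk F a ha)})
    (by rw [card_points_on]; omega)
  have h' : a ⬝ᵥ z.rep = 0 := (inc_right z ha).1 hz
  obtain ⟨w, hw, e'⟩ := (e ▸ el_mem_ag h' : el z.rep a h' ∈ ag b)
  rcases eq_or_ne w 0 with rfl | hw0
  · exact absurd (e'.trans ((el_eq_one_iff hw).2 (Or.inl rfl))) fun h =>
      ((el_eq_one_iff h').1 h).elim z.rep_nonzero ha
  · exact (el_data h' hw z.rep_nonzero ha hw0 hb e').2

variable (E : Ext F G Ω) (hP : ∀ x y, y ≠ x → PointS (E.stb x y))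
include hP

/-- The copies of the axis groups. -/
def axs : Set (Subgroup G) := let _ := hP; {A | ∃ (x : Ω) (l : Pt F), A = (ag l.rep).map (E.emb x)}

theorem fix_map (x : Ω) (K : Subgroup (PSL3 F)) (hK : ∀ k ∈ K, k * k = 1) :
    {y : Ω | ∀ g ∈ K.map (E.emb x), g • y = y}.ncard =
      1 + (ptGeo E hP).tee * {p : Pt F | ∀ k ∈ K, k • p = p}.ncard := by
  classical
  let Γ := ptGeo E hP
  let P := {l : Pt F // ∀ k ∈ K, k • l = l}
  letI := Fintype.ofFinite P
  have e : {y : Ω // (∀ k ∈ K, E.emb x k • y = y) ∧ y ≠ x} ≃ Σ l : P, Γ.fib x l.1 := by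
    refine Equiv.ofBijective (fun y => ⟨⟨Γ.pt x y.1, fun k hk =>
      Γ.pt_fix x y.1 y.2.2 k (y.2.1 k hk)⟩, y.1, y.2.2, rfl⟩) ⟨?_, ?_⟩
    · intro y z h
      exact Subtype.ext (congrArg (fun s : Σ l : P, Γ.fib x l.1 => (s.2 : Ω)) h)
    · rintro ⟨⟨l, hl⟩, y, hy, hyl⟩
      change Γ.pt x y = l at hyl
      subst hyl
      refine ⟨⟨y, fun k hk => ?_, hy⟩, rfl⟩
      rcases eq_or_ne k 1 with rfl | h1
      · rw [map_one, one_smul]
      · exact Γ.mem x y hy k (Invol.orderOf_eq_two_of h1 (hK k hk)) (hl k hk)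
  have hc := Nat.card_congr e
  rw [Nat.card_sigma, Finset.sum_congr rfl (fun l _ => (Nat.card_coe_set_eq _).trans (Γ.card_fib x l.1)),
    Finset.sum_const, Finset.card_univ, smul_eq_mul, ← Nat.card_eq_fintype_card] at hc
  have hset : {y : Ω | ∀ g ∈ K.map (E.emb x), g • y = y} = {y : Ω | ∀ k ∈ K, E.emb x k • y = y} := by
    ext y
    exact ⟨fun h k hk => h _ ⟨k, hk, rfl⟩, fun h g ⟨k, hk, e⟩ => e ▸ h k hk⟩
  have hx : x ∈ {y : Ω | ∀ k ∈ K, E.emb x k • y = y} := fun k _ => E.fix x k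
  rw [hset, ← Set.ncard_sdiff_singleton_add_one hx (Set.toFinite _), ← Nat.card_coe_set_eq, add_comm, mul_comm,
    ← Nat.card_coe_set_eq {p : Pt F | ∀ k ∈ K, k • p = p}]
  exact congrArg (1 + ·) hc

theorem fix_axs {x : Ω} (l : Pt F) :
    {y : Ω | ∀ g ∈ (ag l.rep).map (E.emb x), g • y = y}.ncard =
      1 + (ptGeo E hP).tee * (Fintype.card F + 1) := by
  rw [fix_map E hP x _ (fun k => ag_mul_self), pts_ag l.rep_nonzero, mk_rep, card_points_on]

/-- An axis group is an axis group in the copy at each point it fixes. -/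
theorem axs_at {x y : Ω} {l : Pt F} (h : ∀ g ∈ (ag l.rep).map (E.emb x), g • y = y) :
    ∃ l' : Pt F, (ag l'.rep).map (E.emb y) = (ag l.rep).map (E.emb x) := by
  set A := (ag l.rep).map (E.emb x) with hA
  have hle : A ≤ (E.emb y).range := by
    rintro g ⟨k, hk, rfl⟩
    rcases eq_or_ne k 1 with rfl | h1
    · rw [map_one]; exact one_mem _
    · exact pt_consistent E hP (Ext.emb_mem_dset (Invol.orderOf_eq_two_of h1 (ag_mul_self hk)))
        (h _ ⟨k, hk, rfl⟩)
  set K := A.comap (E.emb y)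
  have hKA : K.map (E.emb y) = A := Subgroup.map_comap_eq_self hle
  have hAc : Nat.card A = Fintype.card F ^ 2 := by
    rw [hA, Subgroup.card_map_of_injective (E.inj x), card_ag l.rep_nonzero]
  have hKc : Nat.card K = Fintype.card F ^ 2 :=
    (Subgroup.card_map_of_injective (K := K) (E.inj y)).symm.trans (by rw [hKA, hAc])
  have hKe : ∀ k ∈ K, k * k = 1 := fun k hk => E.inj y (by
    obtain ⟨k', hk', e⟩ := (show E.emb y k ∈ A from hk)
    rw [map_mul, map_one, ← e, ← map_mul, ag_mul_self hk', map_one])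
  obtain ⟨v, hv, hv' | hv'⟩ := exists_cg_or_ag K hKe
  · have e := Subgroup.eq_of_le_of_card_ge hv' (by rw [card_cg hv, hKc])
    have h1 := fix_map E hP y K hKe
    rw [hKA, e, pts_cg hv, Set.ncard_singleton, hA, fix_axs E hP] at h1
    have hT := (ptGeo E hP).tee_pos
    have hq := Fintype.one_lt_card (α := F)
    exfalso
    nlinarith
  · have e := Subgroup.eq_of_le_of_card_ge hv' (by rw [card_ag hv, hKc])
    refine ⟨mk F v hv, ?_⟩
    have e' : ag (mk F v hv).rep = ag v := by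
      ext k
      constructor <;> rintro ⟨c, hc, rfl⟩
      · exact el_mem_ag_of_mk hc (Projectivization.rep_nonzero _) hv (mk_rep _)
      · exact el_mem_ag_of_mk hc hv (Projectivization.rep_nonzero _) (mk_rep _).symm
    rw [e', ← e, hKA]

/-- The number of axis groups. -/
theorem count_axs :
    Nat.card Ω * Nat.card (Pt F) =
      (axs E hP).ncard * (1 + (ptGeo E hP).tee * (Fintype.card F + 1)) := by
  classical
  letI := Fintype.ofFinite (axs E hP)
  have e : (Ω × Pt F) ≃ Σ A : axs E hP, {y : Ω | ∀ g ∈ A.1, g • y = y} := by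
    refine Equiv.ofBijective (fun p => ⟨⟨_, p.1, p.2, rfl⟩, p.1, fun g ⟨k, _, e⟩ => e ▸ E.fix p.1 k⟩) ⟨?_, ?_⟩
    · rintro ⟨x, l⟩ ⟨y, m⟩ h
      have h1 : x = y := congrArg (fun s : Σ A : axs E hP, {y : Ω | ∀ g ∈ A.1, g • y = y} => (s.2 : Ω)) h
      subst h1
      have h2 : (ag l.rep).map (E.emb x) = (ag m.rep).map (E.emb x) :=
        congrArg (fun s : Σ A : axs E hP, {y : Ω | ∀ g ∈ A.1, g • y = y} => s.1.1) h
      have h3 := mk_eq_of_ag_eq l.rep_nonzero m.rep_nonzero (Subgroup.map_injective (E.inj x) h2)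
      rw [mk_rep, mk_rep] at h3
      rw [h3]
    · rintro ⟨⟨A, x, l, rfl⟩, y, hy⟩
      obtain ⟨l', hl'⟩ := axs_at E hP hy
      refine ⟨(y, l'), Sigma.subtype_ext ?_ rfl⟩
      exact Subtype.ext hl'
  have h := Nat.card_congr e
  rw [Nat.card_prod, Nat.card_sigma, Finset.sum_congr rfl (fun A _ => (Nat.card_coe_set_eq _).trans (by
    obtain ⟨x, l, hl⟩ := A.2
    rw [hl, fix_axs E hP])), Finset.sum_const, Finset.card_univ, smul_eq_mul, ← Nat.card_eq_fintype_card,
    Nat.card_coe_set_eq] at h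
  exact h

/-- The size of the fibres. -/
theorem tee_cases :
    (ptGeo E hP).tee + 1 = Fintype.card F ∨ (Fintype.card F = 4 ∧ (ptGeo E hP).tee = 1) := by
  set T := (ptGeo E hP).tee with hT
  set q := Fintype.card F with hq
  have hq2 : 2 ≤ q := Fintype.one_lt_card
  obtain ⟨k₀, hk₀⟩ := exists_invol (F := F)
  have hj := Ext.emb_mem_dset (E := E) (x := E.base) hk₀
  have hm : (E.yset (E.emb E.base k₀)).ncard = 1 + T * (q + 1) := by
    have hfc := (ptGeo E hP).fix_card hj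
    rw [ptGeo_phi, ← hT, ← hq] at hfc
    rw [← hfc]
    congr 1
    exact Set.Subset.antisymm Ext.yset_subset fun x hx => pt_consistent E hP hj hx
  obtain ⟨μ, hμ⟩ := (ptGeo E hP).kappa hj
  rw [hm, iTwo_eq, ptGeo_phi, card_pt, ← hq, show q ^ 2 + q + 1 - (q + 1) = q ^ 2 by omega] at hμ
  set f := 1 + T * (q + 1) with hf
  have h1 : f ∣ (q ^ 2 - 1) * q ^ 2 := ⟨μ, Nat.eq_of_mul_eq_mul_right (show 0 < q ^ 2 + q + 1 by omega) (by
    rw [hμ]; ring)⟩
  have h2 := count_axs E hP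
  rw [(ptGeo E hP).card_eq, card_pt, ← hq, ← hT, ← hf] at h2
  have hcop : f.Coprime T := by
    rw [hf, Nat.coprime_add_mul_left_left]
    exact Nat.coprime_one_left T
  have h3 : f ∣ q ^ 2 * (q ^ 2 + q + 1) := by
    refine hcop.dvd_of_dvd_mul_left ?_
    have h4 : f ∣ (1 + T * (q ^ 2 + q + 1)) * (q ^ 2 + q + 1) := ⟨(axs E hP).ncard, by rw [h2, mul_comm]⟩
    rw [show (1 + T * (q ^ 2 + q + 1)) * (q ^ 2 + q + 1) =
      f * (q ^ 2 + q + 1) + T * (q ^ 2 * (q ^ 2 + q + 1)) by rw [hf]; ring,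
      Nat.dvd_add_right (dvd_mul_right f _)] at h4
    exact h4
  have hd3 : f ∣ 3 * q ^ 2 := by
    have h := Nat.dvd_gcd h1 (h3.trans (dvd_of_eq (mul_comm _ _)))
    rw [Nat.gcd_mul_right] at h
    refine h.trans (mul_dvd_mul ?_ dvd_rfl)
    have hs : q ^ 2 + q + 1 = (q ^ 2 - 1) + (q + 2) := by
      have : 1 ≤ q ^ 2 := Nat.one_le_pow _ _ (by omega)
      omega
    have ga : (q ^ 2 - 1).gcd (q ^ 2 + q + 1) ∣ q + 2 :=
      (Nat.dvd_add_right (Nat.gcd_dvd_left _ _)).1 (hs ▸ Nat.gcd_dvd_right _ _)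
    have h1' : q ^ 2 - 1 = q ^ 2 - 4 + 3 := by
      have : 2 ^ 2 ≤ q ^ 2 := Nat.pow_le_pow_left hq2 2
      omega
    have h2' : (q ^ 2 - 1).gcd (q ^ 2 + q + 1) ∣ q ^ 2 - 4 := by
      rw [show q ^ 2 - 4 = (q + 2) * (q - 2) by rw [← Nat.sq_sub_sq]]
      exact ga.mul_right _
    exact (Nat.dvd_add_right h2').1 (h1' ▸ Nat.gcd_dvd_left _ _)
  obtain ⟨c, hc⟩ := hd3
  have hTp : 1 ≤ T := (ptGeo E hP).tee_pos
  obtain ⟨k, hk⟩ : ∃ k, q = k + 2 := ⟨q - 2, by omega⟩
  -- `c` is congruent to three modulo `q + 1`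
  have hmod : ((q : ℤ) + 1) * (3 * ((q : ℤ) - 1) - T * c) = (c : ℤ) - 3 := by
    have e : (3 : ℤ) * (q : ℤ) ^ 2 = (1 + T * ((q : ℤ) + 1)) * c := by
      rw [hf] at hc
      exact_mod_cast hc
    linear_combination e
  generalize hs : (3 * ((q : ℤ) - 1) - T * c) = s at hmod
  have hc0 : 0 < c := Nat.pos_of_ne_zero fun e => by
    rw [e, mul_zero] at hc
    simp at hc
    omega
  have hc3 : c < 3 * q := by
    have e : (q + 2) * c ≤ f * c := Nat.mul_le_mul_right c (by rw [hf]; nlinarith)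
    rw [← hc] at e
    nlinarith
  have hs0 : 0 ≤ s := by
    by_contra h
    push Not at h
    have : ((q : ℤ) + 1) * s ≤ ((q : ℤ) + 1) * (-1) := mul_le_mul_of_nonneg_left (by omega) (by omega)
    omega
  have hs2 : s ≤ 2 := by
    by_contra h
    push Not at h
    have : ((q : ℤ) + 1) * 3 ≤ ((q : ℤ) + 1) * s := mul_le_mul_of_nonneg_left (by omega) (by omega)
    omega
  obtain ⟨n, hn, hqn⟩ := exists_card_eq (F := F)
  rw [← hq] at hqn
  interval_cases s
  · left
    have hc' : c = 3 := by omega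
    subst hc'
    have hfq : 1 + T * (q + 1) = q ^ 2 := by omega
    refine Nat.eq_of_mul_eq_mul_right (show 0 < q + 1 by omega) ?_
    rw [add_mul, one_mul, ← add_assoc, show T * (q + 1) + q + 1 = (1 + T * (q + 1)) + q by ring, hfq]
    ring
  · have hc' : c = q + 4 := by omega
    subst hc'
    have h48 : q + 4 ∣ 48 := by
      have e : ((q : ℤ) + 4) ∣ 48 := ⟨(f : ℤ) - 3 * q + 12, by
        have e2 : (3 : ℤ) * (q : ℤ) ^ 2 = f * ((q : ℤ) + 4) := by exact_mod_cast hc
        linear_combination e2⟩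
      exact_mod_cast e
    have hle := Nat.le_of_dvd (by norm_num) h48
    have hn5 : n ≤ 5 := by
      by_contra h
      have := Nat.pow_le_pow_right (show 1 ≤ 2 by norm_num) (show 6 ≤ n by omega)
      omega
    interval_cases n
    all_goals
      norm_num at hqn
      rw [hqn] at h48 hc hf hs ⊢
      omega
  · exfalso
    have hc' : c = 2 * q + 5 := by omega
    subst hc'
    have hco : (2 * q + 5).Coprime (q ^ 2) := by
      rw [hqn, ← pow_mul]
      refine Nat.Coprime.pow_right _ ((Nat.prime_two.coprime_iff_not_dvd.2 ?_).symm)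
      omega
    have hd : 2 * q + 5 ∣ 3 := hco.dvd_of_dvd_mul_right ⟨f, by rw [hc, mul_comm]⟩
    have h := Nat.le_of_dvd (by norm_num) hd
    omega

end Cfsg.Lib.LThreeExt
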