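import Cfsg.Agent.Lib.LThreeExt.Planes
import Cfsg.Agent.Lib.Solv.Frobenius

/-!
# The regular normal subgroup
-/

set_option autoImplicit false
set_option linter.unusedSectionVars false
set_option linter.style.haveILetI false

namespace Cfsg.Lib.LThreeExt

open Matrix Projectivization Cfsg.Lib Cfsg.Lib.Linear Cfsg.Lib.Linear.TVec Cfsg.Lib.Linear.AutPSL
open scoped MatrixGroups LinearAlgebra.Projectivization

universe u w

variable {F : Type} [Field F] [Fintype F] [CharP F 2]
variable {G : Type u} [Group G] [Finite G] {Ω : Type w} [Finite Ω] [MulAction G Ω] [FaithfulSMul G Ω]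

/-- Vectors orthogonal to a vector are spanned by two independent ones. -/
theorem perp_span {u a b c : V3 F} (hu : u ≠ 0) (ha : a ⬝ᵥ u = 0) (hb : b ⬝ᵥ u = 0) (hc : c ⬝ᵥ u = 0)
    (hab : crossProduct a b ≠ 0) : ∃ s t : F, s • a + t • b = c := by
  have hli := crossProduct_ne_zero_iff_linearIndependent.1 hab
  let f : V3 F →ₗ[F] F :=
    { toFun := fun v => v ⬝ᵥ u
      map_add' := fun v w => add_dotProduct v w _
      map_smul' := fun c v => smul_dotProduct c v _ }
  have hker : Module.finrank F (LinearMap.ker f) ≤ 2 := by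
    have hne : f ≠ 0 := fun e => hu (dotProduct_eq_zero _ fun w => by
      rw [dotProduct_comm]; exact LinearMap.congr_fun e w)
    have := Module.Dual.finrank_ker_add_one_of_ne_zero hne
    rw [Module.finrank_fintype_fun_eq_card, Fintype.card_fin] at this
    omega
  have hle : Submodule.span F (Set.range ![a, b]) ≤ LinearMap.ker f := by
    rw [Submodule.span_le, Matrix.range_cons, Matrix.range_cons, Matrix.range_empty, Set.union_empty]
    rintro v (rfl | rfl)
    · exact ha
    · exact hb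
  have heq := Submodule.eq_of_le_of_finrank_le hle (by
    rw [finrank_span_eq_card hli, Fintype.card_fin]; exact hker)
  have hx' : c ∈ Submodule.span F (Set.range ![a, b]) := by rw [heq]; exact hc
  rw [Matrix.range_cons, Matrix.range_cons, Matrix.range_empty, Set.union_empty, Set.singleton_union,
    Submodule.mem_span_pair] at hx'
  exact hx'

/-- An elation with given centre and axis moving a line to another through the same point of the axis. -/
theorem exists_el_ln {P Q a b b' : Pt F} (hPa : Inc P a) (hQa : Inc Q a) (hQb : Inc Q b) (hQb' : Inc Q b')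
    (hPb : ¬ Inc P b) (hb'a : b' ≠ a) :
    ∃ k : PSL3 F, ln k b = b' ∧ (∀ p, Inc p a → k • p = p) ∧ ∀ l, Inc P l → ln k l = l := by
  have hba : b ≠ a := fun e => hPb (e ▸ hPa)
  have hcr : crossProduct b.rep a.rep ≠ 0 := by
    refine cross_ne_zero b.rep_nonzero a.rep_nonzero ?_
    rwa [mk_rep, mk_rep]
  obtain ⟨s, t, hst⟩ := perp_span Q.rep_nonzero hQb hQa hQb' hcr
  have hs : s ≠ 0 := fun e => hb'a (by
    rw [e, zero_smul, zero_add] at hst
    conv_lhs => rw [← mk_rep b']
    conv_rhs => rw [← mk_rep a]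
    exact (mk_eq_mk_iff' F _ _ _ _).2 ⟨t, hst⟩)
  set d := b.rep ⬝ᵥ P.rep with hd
  have hd0 : d ≠ 0 := hPb
  set c := t / (s * d) with hc
  have h0 : (c • a.rep) ⬝ᵥ P.rep = 0 := by rw [smul_dotProduct, show a.rep ⬝ᵥ P.rep = 0 from hPa, smul_zero]
  have key : ∀ l : Pt F, ln (el P.rep (c • a.rep) h0) l =
      Projectivization.mk F (tvMat (c • a.rep) P.rep *ᵥ l.rep)
        (mulVec_ne_zero (tvS (c • a.rep) P.rep (by rwa [dotProduct_comm])) l.rep_nonzero) := by
    intro l
    rw [ln, gr_el]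
    conv_lhs => arg 2; rw [← mk_rep l]
    rw [el, mk_smul]
    rfl
  refine ⟨el P.rep (c • a.rep) h0, ?_, fun p hp => ?_, fun l hl => ?_⟩
  · rw [key]
    conv_rhs => rw [← mk_rep b']
    refine (mk_eq_mk_iff' F _ _ _ _).2 ⟨s⁻¹, ?_⟩
    rw [tvMat_mulVec, ← hst, smul_smul, dotProduct_comm P.rep, ← hd, smul_add, smul_smul, smul_smul,
      inv_mul_cancel₀ hs, one_smul]
    congr 2
    rw [hc]
    field_simp
  · rcases eq_or_ne c 0 with h | h
    · rw [(el_eq_one_iff h0).2 (Or.inr (by rw [h, zero_smul])), one_smul]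
    · rw [el_fix h0 P.rep_nonzero (smul_ne_zero h a.rep_nonzero), inc_right, smul_dotProduct]
      rw [show a.rep ⬝ᵥ p.rep = 0 from hp, smul_zero]
  · rw [key]
    conv_rhs => rw [← mk_rep l]
    refine (mk_eq_mk_iff' F _ _ _ _).2 ⟨1, ?_⟩
    rw [tvMat_mulVec, dotProduct_comm, show l.rep ⬝ᵥ P.rep = 0 from hl, zero_smul, add_zero, one_smul]

theorem eq_one_of_fix_all {k : PSL3 F} (h : ∀ p : Pt F, k • p = p) : k = 1 := by
  obtain ⟨s, rfl⟩ := QuotientGroup.mk_surjective k
  have hv : ∀ v : V3 F, v ≠ 0 → ∃ c : F, c • v = s.1 *ᵥ v := fun v hv => by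
    have e := h (Projectivization.mk F v hv)
    rw [mk_smul, mk_eq_mk_iff'] at e
    exact e
  choose c hc using fun i : Fin 3 => hv (Pi.single i 1) (Pi.single_ne_zero_iff.2 one_ne_zero)
  obtain ⟨d, hd⟩ := hv (fun _ => 1) (fun e => one_ne_zero (α := F) (congrFun e 0))
  have hsij : ∀ i j, s.1 i j = if i = j then c j else 0 := fun i j => by
    have e := congrFun (hc j) i
    simp [Matrix.mulVec_single_one, Pi.single_apply] at e
    exact e.symm
  have hcd : ∀ i, c i = d := fun i => by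
    have e := congrFun hd i
    simp [Matrix.mulVec, dotProduct, hsij] at e
    exact e.symm
  rw [QuotientGroup.eq_one_iff, Matrix.SpecialLinearGroup.mem_center_iff]
  have hs : Matrix.scalar (Fin 3) d = s.1 := by
    ext i j
    rw [Matrix.scalar_apply, Matrix.diagonal_apply, hsij, hcd]
  refine ⟨d, ?_, hs⟩
  have e := congrArg Matrix.det hs
  rw [Matrix.scalar_apply, Matrix.det_diagonal, Finset.prod_const, Finset.card_univ, s.2] at e
  exact e

variable (E : Ext F G Ω) (hP : ∀ x y, y ≠ x → PointS (E.stb x y))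
include hP

/-- The transport is semilinear and moves the labels accordingly. -/
theorem exists_tr (g : G) (x : Ω) : ∃ (g' : GL (Fin 3) F) (σ : F ≃+* F), E.tr g x = innd g' * fld σ ∧
    ∀ y, y ≠ x → (ptGeo E hP).pt (g • x) (g • y) = semi g' σ ((ptGeo E hP).pt x y) := by
  obtain ⟨y₀, hy₀⟩ := E.exists_ne x
  have hne : ∀ y, y ≠ x → g • y ≠ g • x := fun y hy e => hy (MulAction.injective g e)
  have hngr : ¬ IsGr (E.tr g x) := fun h =>
    (hP _ _ (hne _ hy₀)).not_fixL (gr_fixP h (E.stb_symm_mem rfl rfl) (hP x y₀ hy₀).fixP)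
  obtain ⟨g', σ, hgσ⟩ := (lin_or_gr (E.tr g x)).resolve_right hngr
  refine ⟨g', σ, hgσ, fun y hy => (ptGeo E hP).sep fun k hk hfix => ?_⟩
  have h := (ptGeo E hP).pt_fix x y hy _
    (E.stb_symm_mem rfl rfl k ((ptGeo E hP).mem _ _ (hne y hy) k hk hfix))
  have e := lin_smul g' σ ((E.tr g x).symm k) ((ptGeo E hP).pt x y)
  rw [← hgσ, MulEquiv.apply_symm_apply, h] at e
  exact e

theorem image_pln (g : G) (x : Ω) (l : Pt F) :
    ∃ l', (g • ·) '' pln E hP x l = pln E hP (g • x) l' := by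
  obtain ⟨g', σ, -, hpt⟩ := exists_tr E hP g x
  refine ⟨semi (dual g') σ l, ?_⟩
  ext z
  obtain ⟨y, rfl⟩ : ∃ y, g • y = z := ⟨g⁻¹ • z, smul_inv_smul g z⟩
  rw [(MulAction.injective g).mem_set_image]
  rcases eq_or_ne y x with rfl | hy
  · exact iff_of_true (self_mem_pln E hP y l) (self_mem_pln E hP _ _)
  · rw [mem_pln E hP hy, mem_pln E hP (fun e => hy (MulAction.injective g e)), hpt y hy, semi_inc]

theorem image_emb (x : Ω) (k : PSL3 F) (l : Pt F) :
    (E.emb x k • ·) '' pln E hP x l = pln E hP x (ln k l) := by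
  ext z
  obtain ⟨y, rfl⟩ : ∃ y, E.emb x k • y = z := ⟨(E.emb x k)⁻¹ • z, smul_inv_smul _ z⟩
  rw [(MulAction.injective (E.emb x k)).mem_set_image]
  rcases eq_or_ne y x with rfl | hy
  · rw [E.fix]
    exact iff_of_true (self_mem_pln E hP y l) (self_mem_pln E hP _ _)
  · rw [mem_pln E hP hy, mem_pln E hP (Geo.smul_ne hy k), (ptGeo E hP).equiv hy, inc_smul]

variable (hT : (ptGeo E hP).tee + 1 = Fintype.card F)
include hT

/-- The elements fixing every parallel class. -/
def parKer : Subgroup G where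
  carrier := let _ := hT; {g | ∀ x l, Par ((g • ·) '' pln E hP x l) (pln E hP x l)}
  one_mem' := fun x l => Or.inl (by simp)
  mul_mem' := by
    intro g h hg hh x l
    have e1 : ((g * h) • ·) '' pln E hP x l = (g • ·) '' ((h • ·) '' pln E hP x l) := by
      rw [Set.image_image]
      exact congrArg (· '' _) (funext fun y => mul_smul g h y)
    obtain ⟨l', hl'⟩ := image_pln E hP h x l
    have h2 := (hh x l).image g
    obtain ⟨l'', hl''⟩ := image_pln E hP g x l
    obtain ⟨l₃, hl₃⟩ := image_pln E hP g (h • x) l'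
    rw [e1, hl', hl₃]
    rw [hl', hl'', hl₃] at h2
    have h3 := hg x l
    rw [hl''] at h3
    exact par_trans E hP hT h2 h3
  inv_mem' := by
    intro g hg x l
    obtain ⟨l', hl'⟩ := image_pln E hP g⁻¹ x l
    have h := hg (g⁻¹ • x) l'
    rw [← hl', Set.image_image, show (fun y => g • g⁻¹ • y) = id from funext fun y => smul_inv_smul g y,
      Set.image_id] at h
    exact h.symm

theorem parKer_normal : (parKer E hP hT).Normal := ⟨fun h hh g x l => by
  obtain ⟨l', hl'⟩ := image_pln E hP g⁻¹ x l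
  have h1 := (hh (g⁻¹ • x) l').image g
  rw [← hl', Set.image_image, Set.image_image] at h1
  rw [Set.image_image (g := fun y => g • y), show (fun y => g • g⁻¹ • y) = id from funext fun y => smul_inv_smul g y,
    Set.image_id] at h1
  have e : (fun y : Ω => g • h • g⁻¹ • y) = ((g * h * g⁻¹) • ·) := funext fun y => by
    simp [mul_smul]
  rw [e] at h1
  exact h1⟩

/-- The kernel is not trivial. -/
theorem parKer_ne_bot : parKer E hP hT ≠ ⊥ := by
  classical
  set a := E.base
  have hq : 2 ≤ Fintype.card F := Fintype.one_lt_card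
  set l₀ : Pt F := mk F (Pi.single 2 1) (Pi.single_ne_zero_iff.2 one_ne_zero)
  obtain ⟨P₁, hP₁⟩ := Set.nonempty_of_ncard_ne_zero (s := {p : Pt F | Inc p l₀}) (by rw [card_points_on]; omega)
  obtain ⟨P₂, hP₂, hP21⟩ := Set.exists_ne_of_one_lt_ncard (s := {p : Pt F | Inc p l₀})
    (by rw [card_points_on]; omega) P₁
  obtain ⟨P₃, hP₃, hP31, hP32⟩ : ∃ p, Inc p l₀ ∧ p ≠ P₁ ∧ p ≠ P₂ := by
    obtain ⟨p, hp, hne⟩ := Set.exists_mem_notMem_of_ncard_lt_ncard
      (s := ({P₁, P₂} : Set (Pt F))) (t := {p : Pt F | Inc p l₀})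
      (by rw [Set.ncard_pair hP21.symm, card_points_on]; omega) (Set.toFinite _)
    exact ⟨p, hp, fun e => hne (Or.inl e), fun e => hne (Or.inr e)⟩
  have hline : ∀ p : Pt F, ∃ l, Inc p l ∧ l ≠ l₀ := fun p => by
    obtain ⟨l, hl, hne⟩ := Set.exists_ne_of_one_lt_ncard (s := {l : Pt F | Inc p l})
      (by rw [card_lines_through]; omega) l₀
    exact ⟨l, hl, hne⟩
  obtain ⟨m₁, hm₁, hm₁'⟩ := hline P₁
  obtain ⟨k₂, hk₂, hk₂'⟩ := hline P₂
  have honly : ∀ {p p' l : Pt F}, Inc p l₀ → Inc p' l₀ → Inc p l → Inc p' l → l ≠ l₀ → p = p' :=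
    fun h h' e e' hne => point_unique hne e h e' h'
  -- a point outside the plane of `l₀`
  obtain ⟨x, hx⟩ : ∃ x, x ∉ pln E hP a l₀ := by
    by_contra hc
    push Not at hc
    have h := card_pln E hP hT a l₀
    rw [Set.eq_univ_of_forall hc, Set.ncard_univ, card_Ω E hP hT] at h
    exact absurd (Nat.pow_right_injective hq h) (by omega)
  set a' := pl E hP hT a x l₀ with ha'
  have hne1 : pl E hP hT a x l₀ ≠ pl E hP hT a x m₁ := fun e => hm₁' (pl_injective E hP hT a x e).symm
  obtain ⟨z, hz, hz'⟩ := exists_point_ne hne1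
  have haz : a'.rep ⬝ᵥ z.rep = 0 := hz
  set k := el z.rep a'.rep haz with hk
  have hkln : ∀ m, Inc z m → ln k m = m := fun m hm => by
    rw [hk, el_fix_ln haz z.rep_nonzero a'.rep_nonzero, mk_rep]; exact hm
  have hkpt : ∀ p, Inc p a' → k • p = p := fun p hp => by
    rw [hk, el_fix haz z.rep_nonzero a'.rep_nonzero, mk_rep]; exact hp
  let φ : Pt F → Pt F := fun l => pl E hP hT x a (ln k (pl E hP hT a x l))
  have hback : ∀ l, pl E hP hT x a (pl E hP hT a x l) = l := fun l => by rw [pl_pl, pl_self]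
  have lninj : Function.Injective (ln k) := fun u v h => by
    have e := congrArg (ln k⁻¹) h
    rwa [← ln_mul, ← ln_mul, inv_mul_cancel, ln_one, ln_one] at e
  have φinj : Function.Injective φ := fun l l' e =>
    pl_injective E hP hT a x (lninj (pl_injective E hP hT x a e))
  have hfix₀ : φ l₀ = l₀ := by
    show pl E hP hT x a (ln k a') = l₀
    rw [hkln _ hz]
    exact hback l₀
  have hfixP : ∀ l, Inc P₁ l → φ l = l := fun l hl => by
    have h := conc E hP hT (x := a) (y := x) (p' := z) (p := P₁) hm₁'.symm hP₁ hm₁ hl hz hz'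
    show pl E hP hT x a (ln k _) = l
    rw [hkln _ h, hback]
  have hpencil : ∀ P l, Inc P l₀ → Inc P l → Inc P (φ l) := by
    intro P l hP0 hl
    rcases eq_or_ne l l₀ with rfl | hne
    · rw [hfix₀]; exact hl
    have hne' : a' ≠ pl E hP hT a x l := fun e => hne (pl_injective E hP hT a x e).symm
    obtain ⟨p'', h1, h2⟩ := exists_point_ne hne'
    have h3 : Inc p'' (ln k (pl E hP hT a x l)) := by
      have := (inc_smul k p'' _).2 h2
      rwa [hkpt _ h1] at this
    exact conc E hP hT (x := x) (y := a) (p := p'') (p' := P) hne' h1 h2 h3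
      (by rw [ha', hback]; exact hP0) (by rw [hback]; exact hl)
  have hφk : φ k₂ ≠ l₀ := fun e => hk₂' (φinj (e.trans hfix₀.symm))
  obtain ⟨ka, hka, hkap, hkal⟩ := exists_el_ln (P := P₁) (Q := P₂) (a := l₀) (b := φ k₂) (b' := k₂) hP₁ hP₂
    (hpencil P₂ k₂ hP₂ hk₂) hk₂
    (fun h => hP21 (honly hP₂ hP₁ (hpencil P₂ k₂ hP₂ hk₂) h hφk)) hk₂'
  let ψ : Pt F → Pt F := fun l => ln ka (φ l)
  have ψP : ∀ l, Inc P₁ l → ψ l = l := fun l hl => by
    show ln ka (φ l) = l
    rw [hfixP l hl, hkal l hl]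
  have ψpen : ∀ P l, Inc P l₀ → Inc P l → Inc P (ψ l) := fun P l h0 hl => by
    have := (inc_smul ka P _).2 (hpencil P l h0 hl)
    rwa [hkap P h0] at this
  have ψconc : ∀ {Q b c m}, b ≠ c → Inc Q b → Inc Q c → Inc Q m → ψ b = b → ψ c = c → Inc Q (ψ m) := by
    intro Q b c m hbc hb hc hm eb ec
    have hne : pl E hP hT a x b ≠ pl E hP hT a x c := fun e => hbc (pl_injective E hP hT a x e)
    obtain ⟨p', h1, h2⟩ := exists_point_ne hne
    have h3 := conc E hP hT (x := a) (y := x) (p := Q) (p' := p') hbc hb hc hm h1 h2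
    have hne2 : ln k (pl E hP hT a x b) ≠ ln k (pl E hP hT a x c) := fun e => hne (by
      have e' := congrArg (ln k⁻¹) e
      rwa [← ln_mul, ← ln_mul, inv_mul_cancel, ln_one, ln_one] at e')
    have hbc' : φ b ≠ φ c := fun e => hbc (φinj e)
    obtain ⟨r, hr1, hr2⟩ := exists_point_ne hbc'
    have hr3 : Inc r (φ m) := conc E hP hT (x := x) (y := a) (p := k • p') (p' := r) hne2
      ((inc_smul k p' _).2 h1) ((inc_smul k p' _).2 h2) ((inc_smul k p' _).2 h3) hr1 hr2
    have s1 := (inc_smul ka r _).2 hr1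
    have s2 := (inc_smul ka r _).2 hr2
    have s3 := (inc_smul ka r _).2 hr3
    change Inc _ (ψ b) at s1
    change Inc _ (ψ c) at s2
    rw [eb] at s1
    rw [ec] at s2
    rw [point_unique hbc hb hc s1 s2]
    exact s3
  have step : ∀ {r P m : Pt F}, ψ r = r → r ≠ l₀ → Inc P l₀ → Inc P m → m ≠ l₀ → ¬ Inc P r → ¬ Inc P₁ r →
      ψ m = m := by
    intro r P m hr hr0 hP0 hPm hm0 hPr hP1r
    obtain ⟨Q, hQr, hQm⟩ := exists_point_ne (fun e => hPr (e ▸ hPm) : r ≠ m)
    have hQ1 : Q ≠ P₁ := fun e => hP1r (e ▸ hQr)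
    obtain ⟨b, hbQ, hb1⟩ := exists_line_ne hQ1
    have hQ' : Inc Q (ψ m) := ψconc (b := b) (c := r) (fun e => hP1r (e ▸ hb1)) hbQ hQr hQm (ψP b hb1) hr
    have hPQ : P ≠ Q := fun e => hPr (e ▸ hQr)
    exact line_unique hPQ (ψpen P m hP0 hPm) hQ' hPm hQm
  have hψk : ψ k₂ = k₂ := hka
  have hk₂1 : ¬ Inc P₁ k₂ := fun h => hP21 (honly hP₂ hP₁ hk₂ h hk₂')
  obtain ⟨k₃, hk₃, hk₃'⟩ := hline P₃
  have hψ₃ : ψ k₃ = k₃ := step hψk hk₂' hP₃ hk₃ hk₃' (fun h => hP32 (honly hP₃ hP₂ h hk₂ hk₂')) hk₂1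
  have hall : ∀ m, ψ m = m := by
    intro m
    by_cases hm1 : Inc P₁ m
    · exact ψP m hm1
    obtain ⟨P, hPm, hP0⟩ := exists_point_ne (fun e => hm1 (e ▸ hP₁) : m ≠ l₀)
    have hm0 : m ≠ l₀ := fun e => hm1 (e ▸ hP₁)
    by_cases hP2 : Inc P k₂
    · have e : P = P₂ := honly hP0 hP₂ hP2 hk₂ hk₂'
      exact step hψ₃ hk₃' hP0 hPm hm0 (fun h => hP32 ((honly hP₃ hP0 hk₃ h hk₃').trans e))
        (fun h => hP31 (honly hP₃ hP₁ hk₃ h hk₃'))
    · exact step hψk hk₂' hP0 hPm hm0 hP2 hk₂1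
  set g' := E.emb a ka * E.emb x k with hg'
  have hmem : g' ∈ parKer E hP hT := by
    intro y n
    have h1 := pl_par E hP hT y a n
    set l := pl E hP hT y a n
    have hPy : Par ((g' • ·) '' pln E hP y n) ((g' • ·) '' pln E hP a l) := h1.symm.image g'
    have hkey : Par ((g' • ·) '' pln E hP a l) (pln E hP a l) := by
      have e1 : ((g') • ·) '' pln E hP a l = (E.emb a ka • ·) '' ((E.emb x k • ·) '' pln E hP a l) := by
        rw [Set.image_image]
        exact congrArg (· '' _) (funext fun z => mul_smul _ _ z)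
      obtain ⟨l', hl'⟩ := image_pln E hP (E.emb x k) a l
      have s1 := ((pl_par E hP hT a x l).symm.image (E.emb x k))
      rw [image_emb E hP x k, hl'] at s1
      have s2 := par_trans E hP hT s1 (pl_par E hP hT x a (ln k (pl E hP hT a x l))).symm
      have s3 := s2.image (E.emb a ka)
      rw [image_emb E hP a ka, show ln ka (pl E hP hT x a (ln k (pl E hP hT a x l))) = l from hall l] at s3
      rw [e1, hl']
      exact s3
    obtain ⟨n', hn'⟩ := image_pln E hP g' y n
    obtain ⟨l'', hl''⟩ := image_pln E hP g' a l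
    rw [hn', hl''] at hPy
    rw [hl''] at hkey
    rw [hn']
    exact par_trans E hP hT (par_trans E hP hT hPy hkey) h1
  intro hbot
  rw [hbot, Subgroup.mem_bot] at hmem
  have hxa : a ≠ x := fun e => hx (e ▸ self_mem_pln E hP a l₀)
  have hfix : E.emb x k • a = a := by
    rw [show E.emb x k = (E.emb a ka)⁻¹ from eq_inv_of_mul_eq_one_right hmem, inv_smul_eq_iff, E.fix]
  have hp := (el_fix haz z.rep_nonzero a'.rep_nonzero _).1 ((ptGeo E hP).pt_fix x a hxa k hfix)
  rw [mk_rep] at hp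
  have hax : a ∈ pln E hP x a' := (mem_pln E hP hxa).2 hp
  have e := (pl_par E hP hT a x l₀).eq_of_mem hax (self_mem_pln E hP a l₀)
  exact hx (e ▸ self_mem_pln E hP x a')

/-- **The regular normal subgroup.** -/
theorem exists_regular : ∃ R : Subgroup G, R.Normal ∧ Nat.card R = Fintype.card F ^ 3 ∧
    (∀ x y : Ω, ∃ r ∈ R, r • x = y) ∧ ∀ x : Ω, ∀ r ∈ R, r • x = x → r = 1 := by
  classical
  set K := parKer E hP hT
  haveI hKn : K.Normal := parKer_normal E hP hT
  have htrans : ∀ x y : Ω, ∃ r ∈ K, r • x = y := by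
    obtain ⟨g, hg, hg1⟩ := Subgroup.ne_bot_iff_exists_ne_one.1 (parKer_ne_bot E hP hT) |>.elim
      fun g hg => (⟨g.1, g.2, fun e => hg (Subtype.ext e)⟩ : ∃ g, g ∈ K ∧ g ≠ 1)
    obtain ⟨u, hu⟩ : ∃ u : Ω, g • u ≠ u := by
      by_contra hc
      push Not at hc
      exact hg1 (FaithfulSMul.eq_of_smul_eq_smul (α := Ω) fun y => by rw [hc y, one_smul])
    intro x y
    rcases eq_or_ne x y with rfl | hxy
    · exact ⟨1, one_mem _, one_smul _ _⟩
    obtain ⟨c, hc, hc'⟩ := E.two hu.symm hxy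
    refine ⟨c * g * c⁻¹, hKn.conj_mem g hg c, ?_⟩
    rw [← hc, mul_smul, inv_smul_smul, mul_smul, hc']
  have hsemi : ∀ x y : Ω, y ≠ x → ∀ r ∈ K, r • x = x → r • y = y → r = 1 := by
    intro x y hy r hr hrx hry
    obtain ⟨g', σ, htr, hpt⟩ := exists_tr E hP r x
    have hlines : ∀ l : Pt F, semi (dual g') σ l = l := by
      intro l
      refine pln_inj E hP (x := x) ?_
      have e : pln E hP x (semi (dual g') σ l) = (r • ·) '' pln E hP x l := by
        ext z
        obtain ⟨w, rfl⟩ : ∃ w, r • w = z := ⟨r⁻¹ • z, smul_inv_smul r z⟩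
        rw [(MulAction.injective r).mem_set_image]
        rcases eq_or_ne w x with rfl | hw
        · rw [hrx]
          exact iff_of_true (self_mem_pln E hP _ _) (self_mem_pln E hP w l)
        · have hne : r • w ≠ x := fun e => hw (MulAction.injective r (e.trans hrx.symm))
          have hp := hpt w hw
          rw [hrx] at hp
          rw [mem_pln E hP hne, mem_pln E hP hw, hp, semi_inc]
      rw [e]
      exact (hr x l).eq_of_mem ⟨x, self_mem_pln E hP x l, hrx⟩ (self_mem_pln E hP x l)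
    have hpts : ∀ p : Pt F, semi g' σ p = p := by
      intro p
      obtain ⟨l, hl⟩ := Set.nonempty_of_ncard_ne_zero (s := {l : Pt F | Inc p l}) (by rw [card_lines_through]; omega)
      obtain ⟨l', hl', hne⟩ := Set.exists_ne_of_one_lt_ncard (s := {l : Pt F | Inc p l})
        (by rw [card_lines_through]; have := Fintype.one_lt_card (α := F); omega) l
      have h1 := (semi_inc g' σ p l).2 hl
      have h2 := (semi_inc g' σ p l').2 hl'
      rw [hlines] at h1 h2
      exact point_unique hne h2 h1 hl' hl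
    have hone : ∀ k, E.tr r x k = k := by
      intro k
      refine inv_mul_eq_one.1 (eq_one_of_fix_all fun p => ?_)
      rw [mul_smul, inv_smul_eq_iff]
      have h := lin_smul g' σ k p
      rw [← htr, hpts, hpts] at h
      exact h.symm
    refine FaithfulSMul.eq_of_smul_eq_smul (α := Ω) fun z => ?_
    rw [one_smul]
    rcases eq_or_ne z x with rfl | hz
    · exact hrx
    obtain ⟨k, rfl⟩ := trans_others E hP hy hz
    have e := E.tr_spec' hrx k
    rw [hone] at e
    have e' : r * E.emb x k = E.emb x k * r := by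
      conv_rhs => rw [e]
      group
    rw [← mul_smul, e', mul_smul, hry]
  have hv := card_Ω E hP hT
  set H := MulAction.stabilizer K E.base with hH
  have hidx : H.index = Nat.card Ω := by
    haveI : MulAction.IsPretransitive K Ω := ⟨fun x y => by
      obtain ⟨r, hr, e⟩ := htrans x y
      exact ⟨⟨r, hr⟩, e⟩⟩
    exact MulAction.index_stabilizer_of_transitive K E.base
  by_cases hbot : H = ⊥
  · refine ⟨K, hKn, ?_, htrans, fun x r hr hrx => ?_⟩
    · rw [← hv, ← hidx, hbot, Subgroup.index_bot]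
    · obtain ⟨c, hc, hcx⟩ := htrans E.base x
      have h : (⟨c⁻¹ * r * c, mul_mem (mul_mem (inv_mem hc) hr) hc⟩ : K) ∈ H := by
        show (c⁻¹ * r * c) • E.base = E.base
        rw [mul_smul, mul_smul, hcx, hrx, inv_smul_eq_iff, hcx]
      rw [hbot, Subgroup.mem_bot, Subtype.ext_iff, Subgroup.coe_mk, Subgroup.coe_one] at h
      have := congrArg (fun t => c * t * c⁻¹) h
      simpa [mul_assoc] using this
  have hfrob : Cfsg.IsFrobeniusComplement H := by
    refine ⟨hbot, fun e => ?_, fun g hg => ?_⟩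
    · rw [e, Subgroup.index_top] at hidx
      exact (Ext.one_lt_card E).ne hidx
    · rw [eq_bot_iff]
      intro u hu
      rw [Subgroup.mem_inf] at hu
      obtain ⟨hu1, hu2⟩ := hu
      rw [Subgroup.mem_pointwise_smul_iff_inv_smul_mem, MulAut.smul_def, ← map_inv,
        MulAut.conj_apply, inv_inv] at hu2
      rw [Subgroup.mem_bot]
      refine Subtype.ext (hsemi E.base (g.1 • E.base) (fun e => hg e) u.1 u.2 hu1 ?_)
      have h : (g⁻¹ * u * g : K).1 • E.base = E.base := hu2
      rw [Subgroup.coe_mul, Subgroup.coe_mul, Subgroup.coe_inv, mul_smul, mul_smul, inv_smul_eq_iff] at h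
      exact h
  obtain ⟨R, hRset, -, hRc⟩ := Cfsg.Lib.Solv.frobenius_theorem hfrob
  have hmemR : ∀ r : K, r ∈ R ↔ r = 1 ∨ ∀ x : Ω, (r : G) • x ≠ x := by
    intro r
    rw [← SetLike.mem_coe, hRset, Cfsg.Lib.Solv.mem_frobeniusKernel_iff]
    refine or_congr_right ⟨fun h x hx => ?_, fun h g hg => ?_⟩
    · obtain ⟨c, hc, rfl⟩ := htrans E.base x
      refine h ⟨c, hc⟩ ?_
      show (c⁻¹ * r.1 * c) • E.base = E.base
      rw [mul_smul, mul_smul, hx, inv_smul_smul]
    · refine h (g.1 • E.base) ?_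
      have h' : (g⁻¹ * r * g : K).1 • E.base = E.base := hg
      rw [Subgroup.coe_mul, Subgroup.coe_mul, Subgroup.coe_inv, mul_smul, mul_smul, inv_smul_eq_iff] at h'
      exact h'
  refine ⟨R.map K.subtype, ⟨?_⟩, ?_, ?_, ?_⟩
  · rintro _ ⟨r, hr, rfl⟩ g
    refine ⟨⟨g * r.1 * g⁻¹, hKn.conj_mem _ r.2 g⟩, ?_, rfl⟩
    rw [SetLike.mem_coe, hmemR] at hr ⊢
    refine hr.imp (fun e => Subtype.ext ?_) fun h x hx => ?_
    · rw [e]; simp
    · change (g * r.1 * g⁻¹) • x = x at hx
      rw [mul_smul, mul_smul, ← eq_inv_smul_iff] at hx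
      exact h _ hx
  · rw [Subgroup.card_map_of_injective K.subtype_injective, ← hv, ← hidx, hRc.index_eq_card]
  · intro x y
    obtain ⟨c, hc, rfl⟩ := htrans E.base x
    obtain ⟨d, hd, rfl⟩ := htrans E.base y
    obtain ⟨⟨r, h⟩, hrh⟩ := hRc.2 (⟨d, hd⟩ : K)
    obtain ⟨⟨r', h'⟩, hrh'⟩ := hRc.2 (⟨c, hc⟩ : K)
    refine ⟨(r.1 : K).1 * ((r'.1 : K).1)⁻¹, ⟨r.1 * r'.1⁻¹, mul_mem r.2 (inv_mem r'.2), rfl⟩, ?_⟩
    have e1 : d • E.base = (r.1 : K).1 • E.base := by
      have e := congrArg Subtype.val hrh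
      simp only [Subgroup.coe_mul] at e
      rw [← e, mul_smul]
      exact congrArg _ h.2
    have e2 : c • E.base = (r'.1 : K).1 • E.base := by
      have e := congrArg Subtype.val hrh'
      simp only [Subgroup.coe_mul] at e
      rw [← e, mul_smul]
      exact congrArg _ h'.2
    rw [e1, e2, mul_smul, inv_smul_smul]
  · rintro x _ ⟨r, hr, rfl⟩ hx
    rcases (hmemR r).1 hr with e | h
    · rw [e, map_one]
    · exact absurd hx (h x)

end Cfsg.Lib.LThreeExt
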