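import Cfsg.Agent.Lib.LThreeExt.Geo

/-!
# The geometries of points and of flags
-/

set_option autoImplicit false
set_option linter.unusedSectionVars false
set_option linter.style.haveILetI false

namespace Cfsg.Lib.LThreeExt

open Matrix Projectivization Cfsg.Lib Cfsg.Lib.Linear Cfsg.Lib.Linear.TVec Cfsg.Lib.Linear.AutPSL
open scoped MatrixGroups LinearAlgebra.Projectivization

universe u w

variable {F : Type} [Field F] [Fintype F] [CharP F 2]

theorem exists_el_move {v v' : V3 F} (hv : v ≠ 0) (hv' : v' ≠ 0) (hne : mk F v hv ≠ mk F v' hv') :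
    ∃ (a : V3 F) (h : a ⬝ᵥ (v' - v) = 0), a ≠ 0 ∧ el (v' - v) a h • mk F v hv = mk F v' hv' := by
  have hz : v' - v ≠ 0 := sub_ne_zero.2 fun e => hne (by subst e; rfl)
  have hzv : mk F (v' - v) hz ≠ mk F v hv := fun e => by
    obtain ⟨c, hc⟩ := (mk_eq_mk_iff' F _ _ _ _).1 e
    refine hne ((mk_eq_mk_iff' F _ _ _ _).2 ⟨(c + 1)⁻¹, ?_⟩)
    have e2 : v' = (c + 1) • v := by rw [add_smul, one_smul, hc, sub_add_cancel]
    have h0 : c + 1 ≠ 0 := fun e => hv' (by rw [e2, e, zero_smul])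
    rw [e2, smul_smul, inv_mul_cancel₀ h0, one_smul]
  have hc := cross_ne_zero hv hz hzv.symm
  obtain ⟨i, hi⟩ := Function.ne_iff.1 hc
  set a₀ := crossProduct (v' - v) (Pi.single i (1 : F)) with ha₀
  have h0 : a₀ ⬝ᵥ (v' - v) = 0 := by rw [dotProduct_comm, ha₀, dot_self_cross]
  have h1 : a₀ ⬝ᵥ v = crossProduct v (v' - v) i := by
    rw [dotProduct_comm, ha₀, triple_product_permutation, triple_product_permutation, single_dotProduct, one_mul]
  set c := (a₀ ⬝ᵥ v)⁻¹ with hcdef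
  have hc0 : c ≠ 0 := inv_ne_zero (h1 ▸ hi)
  refine ⟨c • a₀, by rw [smul_dotProduct, h0, smul_zero],
    smul_ne_zero hc0 (fun e => hi (by rw [← h1, e, zero_dotProduct]; rfl)), ?_⟩
  rw [el, mk_smul]
  refine (mk_eq_mk_iff' F _ _ _ _).2 ⟨1, ?_⟩
  rw [one_smul]
  show v' = tvMat (v' - v) (c • a₀) *ᵥ v
  rw [tvMat_mulVec, smul_dotProduct, smul_eq_mul, hcdef, inv_mul_cancel₀ (h1 ▸ hi), one_smul, add_sub_cancel]

theorem pt_trans (p p' : Pt F) : ∃ k : PSL3 F, k • p = p' := by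
  by_cases h : p = p'
  · exact ⟨1, by rw [one_smul, h]⟩
  induction p using Projectivization.ind with | _ v hv =>
  induction p' using Projectivization.ind with | _ w hw =>
  obtain ⟨a, ha, -, e⟩ := exists_el_move hv hw h
  exact ⟨_, e⟩

theorem ln_trans_fix {p l l' : Pt F} (hl : Inc p l) (hl' : Inc p l') :
    ∃ k : PSL3 F, k • p = p ∧ ln k l = l' := by
  by_cases h : l = l'
  · exact ⟨1, one_smul _ _, by rw [ln_one, h]⟩
  induction l using Projectivization.ind with | _ b hb =>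
  induction l' using Projectivization.ind with | _ b' hb' =>
  obtain ⟨a, ha, ha0, e⟩ := exists_el_move hb hb' h
  have hz : b' - b ≠ 0 := sub_ne_zero.2 fun e => h (by subst e; rfl)
  rw [inc_right] at hl hl'
  refine ⟨(gr : Aut3 F) (el (b' - b) a ha), ?_, ?_⟩
  · rw [gr_el, el_fix _ ha0 hz, inc_right, sub_dotProduct, hl, hl', sub_zero]
  · rw [ln, show (gr : Aut3 F) ((gr : Aut3 F) (el (b' - b) a ha)) = (gr * gr : Aut3 F) (el (b' - b) a ha) from rfl,
      gr_mul_gr]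
    exact e

/-- Incident point-line pairs. -/
abbrev Flag (F : Type) [Field F] := {pl : Pt F × Pt F // Inc pl.1 pl.2}

noncomputable instance : MulAction (PSL3 F) (Flag F) where
  smul k x := ⟨(k • x.1.1, ln k x.1.2), (inc_smul k _ _).2 x.2⟩
  one_smul x := Subtype.ext (Prod.ext (one_smul _ _) (ln_one _))
  mul_smul a b x := Subtype.ext (Prod.ext (mul_smul _ _ _) (ln_mul _ _ _))

theorem flag_smul_eq {k : PSL3 F} {x y : Flag F} : k • x = y ↔ k • x.1.1 = y.1.1 ∧ ln k x.1.2 = y.1.2 := by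
  rw [Subtype.ext_iff, Prod.ext_iff]
  rfl

theorem flag_trans (x y : Flag F) : ∃ k : PSL3 F, k • x = y := by
  obtain ⟨k₁, hk₁⟩ := pt_trans x.1.1 y.1.1
  have h := (inc_smul k₁ _ _).2 x.2
  rw [hk₁] at h
  obtain ⟨k₂, h2, h2'⟩ := ln_trans_fix h y.2
  exact ⟨k₂ * k₁, flag_smul_eq.2 ⟨by rw [mul_smul, hk₁, h2], by rw [ln_mul, h2']⟩⟩

theorem card_flag : Nat.card (Flag F) = (Fintype.card F + 1) * Nat.card (Pt F) := by
  letI := Fintype.ofFinite (Pt F)
  have e : Flag F ≃ Σ p : Pt F, {l : Pt F | Inc p l} :=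
    { toFun := fun x => ⟨x.1.1, x.1.2, x.2⟩
      invFun := fun s => ⟨(s.1, s.2.1), s.2.2⟩
      left_inv := fun x => rfl
      right_inv := fun s => rfl }
  rw [Nat.card_congr e, Nat.card_sigma, Finset.sum_congr rfl (fun p _ => (Nat.card_coe_set_eq _).trans
    (card_lines_through p)), Finset.sum_const, Finset.card_univ, smul_eq_mul, ← Nat.card_eq_fintype_card, mul_comm]

theorem flag_fixed {k : PSL3 F} (hk : orderOf k = 2) :
    {x : Flag F | k • x = x}.ncard = 2 * Fintype.card F + 1 := by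
  classical
  obtain ⟨z, a, h, hz, ha, rfl⟩ := invol_eq_el hk
  have hza : Inc (mk F z hz) (mk F a ha) := (inc_mk hz ha).2 h
  let S : Set (Pt F × Pt F) := ((fun p => (p, mk F a ha)) '' {p | Inc p (mk F a ha)}) ∪
    ((fun l => (mk F z hz, l)) '' ({l | Inc (mk F z hz) l} \ {mk F a ha}))
  have hS : Subtype.val '' {x : Flag F | el z a h • x = x} = S := by
    ext ⟨p, l⟩
    constructor
    · rintro ⟨⟨⟨p', l'⟩, hinc⟩, hx, he⟩
      obtain ⟨rfl, rfl⟩ := Prod.mk.inj he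
      obtain ⟨h1, h2⟩ := flag_smul_eq.1 hx
      rw [el_fix h hz ha] at h1
      rw [el_fix_ln h hz ha] at h2
      by_cases hl : l' = mk F a ha
      · exact Or.inl ⟨p', h1, by rw [hl]⟩
      · refine Or.inr ⟨l', ⟨h2, hl⟩, ?_⟩
        rw [point_unique hl h2 hza hinc h1]
    · rintro (⟨p', hp, he⟩ | ⟨l', hl, he⟩) <;> obtain ⟨rfl, rfl⟩ := Prod.mk.inj he
      · exact ⟨⟨(p', mk F a ha), hp⟩, flag_smul_eq.2 ⟨(el_fix h hz ha _).2 hp, (el_fix_ln h hz ha _).2 hza⟩, rfl⟩
      · exact ⟨⟨(mk F z hz, l'), hl.1⟩, flag_smul_eq.2 ⟨(el_fix h hz ha _).2 hza, (el_fix_ln h hz ha _).2 hl.1⟩, rfl⟩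
  rw [← Set.ncard_image_of_injective _ Subtype.val_injective, hS, Set.ncard_union_eq ?_ (Set.toFinite _) (Set.toFinite _),
    Set.ncard_image_of_injective _ (fun p q e => congrArg Prod.fst e), card_points_on,
    Set.ncard_image_of_injective _ (fun p q e => congrArg Prod.snd e), Set.ncard_sdiff_singleton_of_mem (show mk F a ha ∈ {l : Pt F | Inc (mk F z hz) l} from hza),
    card_lines_through]
  · omega
  · rw [Set.disjoint_left]
    rintro _ ⟨p', -, rfl⟩ ⟨l', hl, he⟩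
    exact hl.2 (Prod.mk.inj he).2

theorem pt_fixed {k : PSL3 F} (hk : orderOf k = 2) : {p : Pt F | k • p = p}.ncard = Fintype.card F + 1 := by
  obtain ⟨z, a, h, hz, ha, rfl⟩ := invol_eq_el hk
  rw [show {p : Pt F | el z a h • p = p} = {p | Inc p (mk F a ha)} from Set.ext fun p => el_fix h hz ha p,
    card_points_on]

theorem flag_sep {x y : Flag F} (h : ∀ k : PSL3 F, orderOf k = 2 → k • x = x → k • y = y) : x = y := by
  obtain ⟨⟨p, l⟩, hpl⟩ := x
  obtain ⟨⟨p', l'⟩, hpl'⟩ := y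
  have ha : ∀ (a : V3 F) (_ : a ⬝ᵥ p.rep = 0) (ha : a ≠ 0), Inc p' (mk F a ha) ∧ Inc p l' := fun a hpa ha => by
    have e := h (el p.rep a hpa) (orderOf_el hpa p.rep_nonzero ha) (flag_smul_eq.2
      ⟨(el_fix hpa p.rep_nonzero ha _).2 ((inc_right p ha).2 hpa),
        (el_fix_ln hpa p.rep_nonzero ha _).2 (by rw [mk_rep]; exact hpl)⟩)
    obtain ⟨e1, e2⟩ := flag_smul_eq.1 e
    rw [el_fix hpa p.rep_nonzero ha] at e1
    rw [el_fix_ln hpa p.rep_nonzero ha, mk_rep] at e2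
    exact ⟨e1, e2⟩
  have hpp : p = p' := by
    by_contra hne
    obtain ⟨b, hb, hb'⟩ := exists_line_ne hne
    obtain ⟨c, hc, hcb⟩ := Set.exists_ne_of_one_lt_ncard (s := {c : Pt F | Inc p c})
      (by rw [card_lines_through]; have := Fintype.one_lt_card (α := F); omega) b
    have e := (ha c.rep hc c.rep_nonzero).1
    rw [mk_rep] at e
    exact hcb (line_unique hne hc e hb hb')
  subst hpp
  have hll : l = l' := by
    by_contra hne
    obtain ⟨z, hz, hzp⟩ := Set.exists_ne_of_one_lt_ncard (s := {z : Pt F | Inc z l})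
      (by rw [card_points_on]; have := Fintype.one_lt_card (α := F); omega) p
    have e := h (el z.rep l.rep hz) (orderOf_el hz z.rep_nonzero l.rep_nonzero) (flag_smul_eq.2
      ⟨(el_fix hz z.rep_nonzero l.rep_nonzero _).2 (by rw [mk_rep]; exact hpl),
        (el_fix_ln hz z.rep_nonzero l.rep_nonzero _).2 (by rw [mk_rep]; exact hz)⟩)
    obtain ⟨-, e2⟩ := flag_smul_eq.1 e
    rw [el_fix_ln hz z.rep_nonzero l.rep_nonzero, mk_rep] at e2
    exact hzp (point_unique hne hz e2 hpl hpl')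
  subst hll
  rfl

theorem ag_fix {v b : V3 F} (hv : v ≠ 0) (hb : b ≠ 0) (hvb : b ⬝ᵥ v = 0) {k : PSL3 F} (hk : k ∈ ag b) :
    k • mk F v hv = mk F v hv := by
  obtain ⟨z, h, rfl⟩ := hk
  rcases eq_or_ne z 0 with rfl | hz
  · rw [(el_eq_one_iff h).2 (Or.inl rfl), one_smul]
  · exact (el_fix h hz hb _).2 ((inc_mk hv hb).2 hvb)

theorem pt_grp (k : PSL3 F) (p : Pt F) (hk : orderOf k = 2) (hp : k • p = p) : ∃ K : Subgroup (PSL3 F),
    k ∈ K ∧ Nat.card K = Fintype.card F ^ 2 ∧ ∀ k' ∈ K, k' * k' = 1 ∧ k' • p = p := by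
  obtain ⟨z, a, h, hz, ha, rfl⟩ := invol_eq_el hk
  rw [el_fix h hz ha] at hp
  refine ⟨ag a, el_mem_ag h, card_ag ha, fun k' hk' => ⟨ag_mul_self hk', ?_⟩⟩
  obtain ⟨z', h', rfl⟩ := hk'
  rcases eq_or_ne z' 0 with rfl | hz'
  · rw [(el_eq_one_iff h').2 (Or.inl rfl), one_smul]
  · exact (el_fix h' hz' ha _).2 hp

theorem flag_grp (k : PSL3 F) (x : Flag F) (hk : orderOf k = 2) (hp : k • x = x) : ∃ K : Subgroup (PSL3 F),
    k ∈ K ∧ Nat.card K = Fintype.card F ^ 2 ∧ ∀ k' ∈ K, k' * k' = 1 ∧ k' • x = x := by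
  obtain ⟨z, a, h, hz, ha, rfl⟩ := invol_eq_el hk
  obtain ⟨h1, h2⟩ := flag_smul_eq.1 hp
  rw [el_fix h hz ha] at h1
  rw [el_fix_ln h hz ha] at h2
  have hza : Inc (mk F z hz) (mk F a ha) := (inc_mk hz ha).2 h
  by_cases hpz : x.1.1 = mk F z hz
  · refine ⟨cg z, el_mem_cg h, card_cg hz, fun k' hk' => ⟨cg_mul_self hk', ?_⟩⟩
    obtain ⟨a', h', rfl⟩ := hk'
    rcases eq_or_ne a' 0 with rfl | ha'
    · rw [(el_eq_one_iff h').2 (Or.inr rfl), one_smul]
    · refine flag_smul_eq.2 ⟨(el_fix h' hz ha' _).2 ?_, (el_fix_ln h' hz ha' _).2 h2⟩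
      rw [hpz]
      exact (inc_mk hz ha').2 h'
  · have hl : x.1.2 = mk F a ha := line_unique hpz x.2 h2 h1 hza
    refine ⟨ag a, el_mem_ag h, card_ag ha, fun k' hk' => ⟨ag_mul_self hk', ?_⟩⟩
    obtain ⟨z', h', rfl⟩ := hk'
    rcases eq_or_ne z' 0 with rfl | hz'
    · rw [(el_eq_one_iff h').2 (Or.inl rfl), one_smul]
    · refine flag_smul_eq.2 ⟨(el_fix h' hz' ha _).2 h1, (el_fix_ln h' hz' ha _).2 ?_⟩
      rw [hl]
      exact (inc_mk hz' ha).2 h'

theorem coprime_r_sq (q : ℕ) : Nat.Coprime (q ^ 2 + q + 1) (q ^ 2) := by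
  refine Nat.Coprime.pow_right 2 ?_
  rw [show q ^ 2 + q + 1 = 1 + q * (q + 1) by ring, Nat.coprime_add_mul_left_left]
  exact Nat.coprime_one_left q

theorem iTwo_eq : iTwo F = (Fintype.card F ^ 2 - 1) * (Fintype.card F ^ 2 + Fintype.card F + 1) := card_invol

variable {G : Type u} [Group G] [Finite G] {Ω : Type w} [Finite Ω] [MulAction G Ω] [FaithfulSMul G Ω]
variable (E : Ext F G Ω)

/-- The geometry of points. -/
noncomputable def ptGeo (h : ∀ x y, y ≠ x → PointS (E.stb x y)) : Geo E (Pt F) :=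
  { pt := fun x y => open Classical in
      if hy : y ≠ x then (h x y hy).invol.choose
      else Projectivization.mk F (Pi.single 0 1) (Pi.single_ne_zero_iff.2 one_ne_zero)
    pt_fix := fun x y hy k hk => by
      rw [dif_pos hy]
      exact (h x y hy).invol.choose_spec.1 k hk
    mem := fun x y hy k hk hp => by
      rw [dif_pos hy] at hp
      exact (h x y hy).invol.choose_spec.2 k hk hp
    sep := fun hlm => point_sep hlm
    trans := pt_trans
    phi := Fintype.card F + 1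
    phi_pos := Nat.succ_pos _
    phi_lt := by
      rw [card_pt]
      have := Nat.pow_pos (n := 2) (Fintype.card_pos (α := F))
      omega
    phi_spec := fun k hk => pt_fixed hk }

theorem ptGeo_phi (h : ∀ x y, y ≠ x → PointS (E.stb x y)) : (ptGeo E h).phi = Fintype.card F + 1 := rfl

theorem pt_hnd (h : ∀ x y, y ≠ x → PointS (E.stb x y)) :
    ¬ Nat.card (Pt F) * Nat.card (Pt F) ∣ iTwo F * (Nat.card (Pt F) - (ptGeo E h).phi) := by
  intro hd
  set q := Fintype.card F with hq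
  have hq2 : 2 ≤ q := Fintype.one_lt_card
  rw [card_pt, ptGeo_phi, iTwo_eq, ← hq, show q ^ 2 + q + 1 - (q + 1) = q ^ 2 by omega,
    mul_right_comm, Nat.mul_dvd_mul_iff_right (Nat.succ_pos _)] at hd
  have h1 := Nat.le_of_dvd (Nat.sub_pos_of_lt (Nat.one_lt_pow two_ne_zero hq2))
    ((coprime_r_sq q).dvd_of_dvd_mul_right hd)
  omega

theorem pt_no_gr (h : ∀ x y, y ≠ x → PointS (E.stb x y)) (x : Ω) (g : MulAction.stabilizer G x) :
    ¬ IsGr (E.aut x g) := by
  intro hgr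
  obtain ⟨y, hy⟩ := E.exists_ne x
  have hne : g.1 • y ≠ x := fun e => hy (MulAction.injective g.1 (e.trans g.2.symm))
  exact (h x _ hne).not_fixL (gr_fixP (show IsGr (E.tr g.1 x) from hgr) (E.stb_symm_mem g.2 rfl) (h x y hy).fixP)

/-- Consistency in the geometry of points. -/
theorem pt_consistent (h : ∀ x y, y ≠ x → PointS (E.stb x y)) {j : G} (hj : j ∈ E.dset) {x : Ω} (hx : j • x = x) :
    x ∈ E.yset j :=
  (ptGeo E h).consistent (pt_hnd E h) pt_grp (fun _ x g _ => pt_no_gr E h x g) hj hx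

/-- The geometry of flags. -/
noncomputable def flagGeo (h : ∀ x y, y ≠ x → FlagS (E.stb x y)) : Geo E (Flag F) :=
  { pt := fun x y => open Classical in
      if hy : y ≠ x then ⟨((h x y hy).choose, (h x y hy).choose_spec.choose), (h x y hy).choose_spec.choose_spec.1⟩
      else ⟨((Projectivization.mk F (Pi.single 0 1) (Pi.single_ne_zero_iff.2 one_ne_zero)),
        (Projectivization.mk F (Pi.single 2 1) (Pi.single_ne_zero_iff.2 one_ne_zero))), (inc_mk _ _).2 (by simp)⟩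
    pt_fix := fun x y hy k hk => by
      rw [dif_pos hy]
      exact flag_smul_eq.2 ((h x y hy).choose_spec.choose_spec.2.1 k hk)
    mem := fun x y hy k hk hp => by
      rw [dif_pos hy] at hp
      obtain ⟨h1, h2⟩ := flag_smul_eq.1 hp
      exact (h x y hy).choose_spec.choose_spec.2.2 k hk h1 h2
    sep := fun hlm => flag_sep hlm
    trans := flag_trans
    phi := 2 * Fintype.card F + 1
    phi_pos := Nat.succ_pos _
    phi_lt := by
      rw [card_flag, card_pt]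
      have := Fintype.one_lt_card (α := F)
      nlinarith
    phi_spec := fun k hk => flag_fixed hk }

theorem flagGeo_phi (h : ∀ x y, y ≠ x → FlagS (E.stb x y)) : (flagGeo E h).phi = 2 * Fintype.card F + 1 := rfl

theorem flag_hnd (h : ∀ x y, y ≠ x → FlagS (E.stb x y)) :
    ¬ Nat.card (Flag F) * Nat.card (Flag F) ∣ iTwo F * (Nat.card (Flag F) - (flagGeo E h).phi) := by
  intro hd
  set q := Fintype.card F with hq
  have hq2 : 2 ≤ q := Fintype.one_lt_card
  obtain ⟨k, hk⟩ : ∃ k, q = k + 2 := ⟨q - 2, by omega⟩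
  rw [card_flag, card_pt, flagGeo_phi, iTwo_eq, ← hq,
    show (q + 1) * (q ^ 2 + q + 1) - (2 * q + 1) = q ^ 2 * (q + 2) from Nat.sub_eq_of_eq_add (by ring),
    show q ^ 2 - 1 = (q + 1) * (q - 1) by rw [← Nat.sq_sub_sq, one_pow]] at hd
  have hd' : (q ^ 2 + q + 1) * ((q + 1) * (q ^ 2 + q + 1) * (q + 1)) ∣
      (q ^ 2 + q + 1) * ((q + 1) * (q - 1) * (q ^ 2 * (q + 2))) := by convert hd using 1 <;> ring
  rw [Nat.mul_dvd_mul_iff_left (Nat.succ_pos _), mul_assoc, mul_assoc,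
    Nat.mul_dvd_mul_iff_left (Nat.succ_pos _)] at hd'
  have h1 : q ^ 2 + q + 1 ∣ (q - 1) * (q + 2) * q ^ 2 := by
    refine dvd_trans (dvd_mul_right _ (q + 1)) ?_
    rw [mul_assoc (q - 1), mul_comm (q + 2)]
    exact hd'
  have h2 := (coprime_r_sq q).dvd_of_dvd_mul_right h1
  have h3 := Nat.le_of_dvd (Nat.mul_pos (by omega) (by omega)) h2
  rw [hk, show k + 2 - 1 = k + 1 by omega] at h3
  nlinarith

end Cfsg.Lib.LThreeExt
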