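import Cfsg.Agent.Lib.LThreeExt.Blocks

/-!
# Transitivity of the copies on the other points
-/

set_option autoImplicit false
set_option linter.unusedSectionVars false
set_option linter.style.haveILetI false

namespace Cfsg.Lib.LThreeExt

open Matrix Projectivization Cfsg.Lib Cfsg.Lib.Linear Cfsg.Lib.Linear.TVec Cfsg.Lib.Linear.AutPSL
open Cfsg.Lib.Linear.Descent
open scoped MatrixGroups LinearAlgebra.Projectivization

universe u w

variable {F : Type} [Field F] [Fintype F] [CharP F 2]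
variable {G : Type u} [Group G] [Finite G] {Ω : Type w} [Finite Ω] [MulAction G Ω] [FaithfulSMul G Ω]

/-- A diagonal matrix of determinant one. -/
def dg (c : Fˣ) : SL3 F := ⟨Matrix.diagonal ![(c : F), ((c⁻¹ : Fˣ) : F), 1], by
  simp [Matrix.det_diagonal, Fin.prod_univ_three]⟩

/-- A diagonal matrix with first entry one. -/
def dm (c : Fˣ) : SL3 F := ⟨Matrix.diagonal ![1, (c : F), ((c⁻¹ : Fˣ) : F)], by
  simp [Matrix.det_diagonal, Fin.prod_univ_three]⟩

theorem dg_mulVec (c : Fˣ) : (dg c).1 *ᵥ (Pi.single 0 1 : V3 F) = (c : F) • Pi.single 0 1 := by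
  ext i
  fin_cases i <;> simp [dg, Matrix.mulVec_diagonal]

theorem dm_mulVec (c : Fˣ) : (dm c).1 *ᵥ (Pi.single 0 1 : V3 F) = Pi.single 0 1 := by
  ext i
  fin_cases i <;> simp [dm, Matrix.mulVec_diagonal]

theorem dm_pow (c : Fˣ) (s : ℕ) (hc : c ^ s = 1) : dm c ^ s = 1 := by
  refine Subtype.ext ?_
  rw [Matrix.SpecialLinearGroup.coe_pow, dm, Matrix.diagonal_pow, Matrix.SpecialLinearGroup.coe_one,
    ← Matrix.diagonal_one]
  congr 1
  ext i
  fin_cases i <;> simp [Pi.pow_apply, ← Units.val_pow_eq_pow_val, inv_pow, hc]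

theorem dm_fixed {c : Fˣ} (hc : c ≠ 1) {p : Pt F} (hp : (QuotientGroup.mk (dm c) : PSL3 F) • p = p) :
    ∃ i : Fin 3, p = mk F (Pi.single i 1) (Pi.single_ne_zero_iff.2 one_ne_zero) := by
  induction p using Projectivization.ind with | _ v hv =>
  rw [mk_smul, mk_eq_mk_iff'] at hp
  obtain ⟨d, hd⟩ := hp
  have hcc : (c : F) ≠ ((c⁻¹ : Fˣ) : F) := fun e => hc (by
    have e1 : c * c = 1 := by
      conv_lhs => arg 2; rw [Units.ext e]
      exact mul_inv_cancel c
    have e2 : ((c : F) + 1) * ((c : F) + 1) = 0 := by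
      have h : (c : F) * (c : F) = 1 := by rw [← Units.val_mul, e1, Units.val_one]
      linear_combination h + ((c : F) + 1) * (CharTwo.two_eq_zero (R := F))
    exact Units.ext (CharTwo.add_eq_zero.1 (mul_self_eq_zero.1 e2)))
  have h1 : (c : F) ≠ 1 := fun e => hc (Units.ext e)
  have h2 : ((c⁻¹ : Fˣ) : F) ≠ 1 := fun e => hc (inv_eq_one.1 (Units.ext e))
  let t : V3 F := ![1, (c : F), ((c⁻¹ : Fˣ) : F)]
  have ht : ∀ i, (d - t i) * v i = 0 := fun i => by
    have e := congrFun hd i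
    rw [Pi.smul_apply, smul_eq_mul, dm, Matrix.mulVec_diagonal] at e
    rw [sub_mul]
    exact sub_eq_zero.2 e
  obtain ⟨i, hi⟩ := Function.ne_iff.1 hv
  refine ⟨i, (mk_eq_mk_iff' F _ _ _ _).2 ⟨v i, funext fun j => ?_⟩⟩
  rcases eq_or_ne j i with rfl | hji
  · simp
  · rw [Pi.smul_apply, Pi.single_eq_of_ne hji, smul_zero]
    by_contra hj
    have e1 := sub_eq_zero.1 ((mul_eq_zero.1 (ht i)).resolve_right hi)
    have e2 := sub_eq_zero.1 ((mul_eq_zero.1 (ht j)).resolve_right (Ne.symm hj))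
    rw [e1] at e2
    have hcc' : (c : F) ≠ (c : F)⁻¹ := by rwa [← Units.val_inv_eq_inv_val]
    fin_cases i <;> fin_cases j <;> simp [t, h1, h1.symm, h2, h2.symm, hcc', hcc'.symm] at e2 hji ⊢

theorem pow_mulVec {t : SL3 F} {v : V3 F} {c : F} (h : t.1 *ᵥ v = c • v) (s : ℕ) :
    (t ^ s).1 *ᵥ v = c ^ s • v := by
  induction s with
  | zero => simp
  | succ s ih =>
    rw [pow_succ, Matrix.SpecialLinearGroup.coe_mul, ← Matrix.mulVec_mulVec, h, Matrix.mulVec_smul, ih, smul_smul,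
      mul_comm, pow_succ]

variable (E : Ext F G Ω) (hP : ∀ x y, y ≠ x → PointS (E.stb x y))
include hP

/-- The eigenvalues on the vector of the second point. -/
def Eig (x y : Ω) (c : F) : Prop :=
  ∃ s : SL3 F, E.emb x (QuotientGroup.mk s) • y = y ∧
    s.1 *ᵥ ((ptGeo E hP).pt x y).rep = c • ((ptGeo E hP).pt x y).rep

theorem eig_one (x y : Ω) : Eig E hP x y 1 :=
  ⟨1, by rw [QuotientGroup.mk_one, map_one, one_smul],
    by rw [Matrix.SpecialLinearGroup.coe_one, Matrix.one_mulVec, one_smul]⟩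

theorem eig_mul {x y : Ω} {c d : F} (hc : Eig E hP x y c) (hd : Eig E hP x y d) : Eig E hP x y (c * d) := by
  obtain ⟨s, h1, h2⟩ := hc
  obtain ⟨t, h3, h4⟩ := hd
  refine ⟨s * t, by rw [QuotientGroup.mk_mul, map_mul, mul_smul, h3, h1], ?_⟩
  rw [Matrix.SpecialLinearGroup.coe_mul, ← Matrix.mulVec_mulVec, h4, Matrix.mulVec_smul, h2, smul_smul, mul_comm]

theorem eig_pow {x y : Ω} {c : F} (hc : Eig E hP x y c) (n : ℕ) : Eig E hP x y (c ^ n) := by
  induction n with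
  | zero => rw [pow_zero]; exact eig_one E hP x y
  | succ n ih => rw [pow_succ]; exact eig_mul E hP ih hc

theorem eig_ne_zero {x y : Ω} {c : F} (hc : Eig E hP x y c) : c ≠ 0 := fun e => by
  obtain ⟨s, -, h⟩ := hc
  rw [e, zero_smul] at h
  exact mulVec_ne_zero s (Projectivization.rep_nonzero _) h

/-- Fixed points from eigenvalues. -/
theorem fixed_of_eig {x y : Ω} (hy : y ≠ x) {t : SL3 F} {c : F} (hc : Eig E hP x y c)
    (ht : t.1 *ᵥ ((ptGeo E hP).pt x y).rep = c • ((ptGeo E hP).pt x y).rep) :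
    E.emb x (QuotientGroup.mk t) • y = y := by
  have hc0 := eig_ne_zero E hP hc
  obtain ⟨s, h1, h2⟩ := hc
  have e : (s⁻¹ * t).1 *ᵥ ((ptGeo E hP).pt x y).rep = ((ptGeo E hP).pt x y).rep := by
    rw [Matrix.SpecialLinearGroup.coe_mul, ← Matrix.mulVec_mulVec, ht, ← h2, inv_mulVec]
  have h3 := pt_lift E hP hy e
  rw [QuotientGroup.mk_mul, map_mul, QuotientGroup.mk_inv, map_inv, mul_smul, inv_smul_eq_iff, h1] at h3
  exact h3

/-- A root of unity of prime order occurring once occurs everywhere. -/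
theorem eig_root {x y : Ω} (hy : y ≠ x) {c : F} (hc : Eig E hP x y c) {s : ℕ} (hs : s.Prime) (h1 : c ≠ 1)
    (hcs : c ^ s = 1) {x' y' : Ω} (hy' : y' ≠ x') {d : F} (hd : d ^ s = 1) : Eig E hP x' y' d := by
  obtain ⟨g, hg, hg'⟩ := E.two hy.symm hy'.symm
  have hngr : ¬ IsGr (E.tr g x) := fun h =>
    (hP x' y' hy').not_fixL (gr_fixP h (E.stb_symm_mem hg hg') (hP x y hy).fixP)
  obtain ⟨g', σ, hgσ⟩ := (lin_or_gr (E.tr g x)).resolve_right hngr
  have hpt : (ptGeo E hP).pt x' y' = semi g' σ ((ptGeo E hP).pt x y) := by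
    refine (ptGeo E hP).sep fun k hk hfix => ?_
    have h := (ptGeo E hP).pt_fix x y hy _ (E.stb_symm_mem hg hg' k ((ptGeo E hP).mem x' y' hy' k hk hfix))
    have e := lin_smul g' σ ((E.tr g x).symm k) ((ptGeo E hP).pt x y)
    rw [← hgσ, MulEquiv.apply_symm_apply, h] at e
    exact e
  obtain ⟨t, h2, h3⟩ := hc
  set p := (ptGeo E hP).pt x y
  set p' := (ptGeo E hP).pt x' y'
  have hσ : Eig E hP x' y' (σ c) := by
    refine ⟨cnjHom g' (frobHom σ t), ?_, ?_⟩
    · have h := (E.stb_transport hg hg' (QuotientGroup.mk t)).2 h2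
      rw [hgσ, MulAut.mul_apply, fld_mk, innd_mk] at h
      exact h
    · have e : (cnjHom g' (frobHom σ t)).1 *ᵥ sv g' σ p.rep = σ c • sv g' σ p.rep := by
        rw [cnjHom_coe, frobHom_coe, sv, Matrix.mulVec_mulVec, Matrix.mul_assoc, Units.inv_mul, Matrix.mul_one,
          ← Matrix.mulVec_mulVec, ← Matrix.mulVec_smul]
        refine congrArg _ (funext fun i => ?_)
        have e := congrArg σ (congrFun h3 i)
        rw [Pi.smul_apply, smul_eq_mul, map_mul] at e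
        rw [Pi.smul_apply, smul_eq_mul, ← e]
        simp [Matrix.mulVec, dotProduct, map_sum]
      obtain ⟨u, hu⟩ := exists_smul_eq_mk_rep F (sv g' σ p.rep) (sv_ne_zero g' σ p.rep_nonzero)
      change p' = mk F (sv g' σ p.rep) _ at hpt
      rw [show p'.rep = (u : F) • sv g' σ p.rep by rw [hpt, ← hu, Units.smul_def], Matrix.mulVec_smul, e, smul_comm]
  haveI : NeZero s := ⟨hs.ne_zero⟩
  have hprim : IsPrimitiveRoot (σ c) s := by
    haveI : Fact s.Prime := ⟨hs⟩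
    rw [IsPrimitiveRoot.iff_orderOf]
    refine orderOf_eq_prime (by rw [← map_pow, hcs, map_one]) fun e => h1 (σ.injective (by rw [e, map_one]))
  obtain ⟨i, -, rfl⟩ := hprim.eq_pow_of_pow_eq_one hd
  exact eig_pow E hP hσ i

/-- Eigenvalues other than one do not occur. -/
theorem eig_eq_one (hT : (ptGeo E hP).tee + 1 = Fintype.card F) (hq : 4 ≤ Fintype.card F) {x₀ y₀ : Ω} (hy₀ : y₀ ≠ x₀)
    {c₀ : F} (hc₀ : Eig E hP x₀ y₀ c₀) : c₀ = 1 := by
  classical
  by_contra hne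
  let u₀ : Fˣ := Units.mk0 c₀ (eig_ne_zero E hP hc₀)
  have hu₀ : u₀ ≠ 1 := fun e => hne (congrArg Units.val e)
  obtain ⟨s, hs, hsd⟩ := Nat.exists_prime_and_dvd (fun e => hu₀ (orderOf_eq_one_iff.1 e) : orderOf u₀ ≠ 1)
  obtain ⟨m, hm⟩ := hsd
  set μ := u₀ ^ m with hμdef
  have hμs : μ ^ s = 1 := by rw [← pow_mul, mul_comm, ← hm, pow_orderOf_eq_one]
  have hμ1 : μ ≠ 1 := fun e => by
    have h := orderOf_dvd_of_pow_eq_one e
    rw [hm] at h
    have hm0 : 0 < m := Nat.pos_of_ne_zero fun e0 => by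
      rw [e0, mul_zero] at hm
      exact (orderOf_pos u₀).ne' hm
    have h' := Nat.le_of_dvd hm0 h
    have := hs.two_le
    nlinarith
  have hroot : ∀ (x y : Ω), y ≠ x → ∀ d : F, d ^ s = 1 → Eig E hP x y d := fun x y hy d hd =>
    eig_root E hP hy₀ (c := (μ : F)) (by rw [hμdef, Units.val_pow_eq_pow_val]; exact eig_pow E hP hc₀ m) hs
      (fun e => hμ1 (Units.ext e)) (by rw [← Units.val_pow_eq_pow_val, hμs, Units.val_one]) hy hd
  set a := E.base
  set h := E.emb a (QuotientGroup.mk (dm μ)) with hh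
  let ei : Fin 3 → Pt F := fun i => mk F (Pi.single i 1) (Pi.single_ne_zero_iff.2 one_ne_zero)
  have hex : ∀ i, ∃ z, z ≠ a ∧ (ptGeo E hP).pt a z = ei i := fun i => by
    obtain ⟨z, hz⟩ := Set.nonempty_of_ncard_ne_zero (s := (ptGeo E hP).fib a (ei i))
      (by rw [(ptGeo E hP).card_fib]; exact (ptGeo E hP).tee_pos.ne')
    exact ⟨z, hz.1, hz.2⟩
  choose z hza hzp using hex
  have hdm : (dm μ).1 *ᵥ ((ptGeo E hP).pt a (z 0)).rep = ((ptGeo E hP).pt a (z 0)).rep := by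
    rw [hzp]
    obtain ⟨u, hu⟩ := exists_smul_eq_mk_rep F (Pi.single 0 1 : V3 F) (Pi.single_ne_zero_iff.2 one_ne_zero)
    rw [← hu, Units.smul_def, Matrix.mulVec_smul, dm_mulVec]
  obtain ⟨t, htr, ht⟩ := lift_transfer E hP (hza 0) hdm (E.right_mem_blk a (z 0)) (hza 0)
  set x := z 0 with hx
  have hxh : h • x = x := by rw [hh, ← ht]; exact E.fix x _
  set y := z 1 with hydef
  have hyh : h • y = y := by
    have e : (dm μ).1 *ᵥ ((ptGeo E hP).pt a y).rep = (μ : F) • ((ptGeo E hP).pt a y).rep := by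
      rw [hydef, hzp]
      obtain ⟨u, hu⟩ := exists_smul_eq_mk_rep F (Pi.single 1 1 : V3 F) (Pi.single_ne_zero_iff.2 one_ne_zero)
      have e1 : (dm μ).1 *ᵥ (Pi.single 1 1 : V3 F) = (μ : F) • Pi.single 1 1 := by
        ext i
        fin_cases i <;> simp [dm, Matrix.mulVec_diagonal]
      rw [← hu, Units.smul_def, Matrix.mulVec_smul, e1, smul_comm]
    exact fixed_of_eig E hP (hza 1)
      (hroot a y (hza 1) (μ : F) (by rw [← Units.val_pow_eq_pow_val, hμs, Units.val_one])) e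
  have hxy : y ≠ x := fun e => by
    have e' := (hzp 1).symm.trans ((congrArg ((ptGeo E hP).pt a) e).trans (hzp 0))
    obtain ⟨c, hc⟩ := (mk_eq_mk_iff' F _ _ _ _).1 e'
    simpa using congrFun hc 1
  have htx : t.1 *ᵥ ((ptGeo E hP).pt x a).rep = ((ptGeo E hP).pt x a).rep := htr
  have hts : t ^ s = 1 := by
    have e : (QuotientGroup.mk (t ^ s) : PSL3 F) = 1 := E.inj x (by
      rw [QuotientGroup.mk_pow, map_pow, ht, ← map_pow, ← QuotientGroup.mk_pow, dm_pow μ s hμs,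
        QuotientGroup.mk_one, map_one, map_one])
    rw [QuotientGroup.eq_one_iff, Matrix.SpecialLinearGroup.mem_center_iff] at e
    obtain ⟨r, -, hr⟩ := e
    have e2 := pow_mulVec (c := (1 : F)) (t := t) (v := ((ptGeo E hP).pt x a).rep) (by rw [one_smul]; exact htx) s
    rw [one_pow, one_smul] at e2
    have e3 : r = 1 := by
      rw [← hr] at e2
      obtain ⟨i, hi⟩ := Function.ne_iff.1 (Projectivization.rep_nonzero ((ptGeo E hP).pt x a))
      have e4 := congrFun e2 i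
      rw [Matrix.scalar_apply, Matrix.mulVec_diagonal] at e4
      exact (mul_eq_right₀ hi).1 e4
    exact Subtype.ext (by rw [← hr, e3, map_one, Matrix.SpecialLinearGroup.coe_one])
  -- the block through `x` and `y` is fixed pointwise
  have hblk : ∀ w ∈ E.blk x y, h • w = w := by
    intro w hw
    rcases eq_or_ne w x with rfl | hwx
    · exact hxh
    have hp := pt_of_mem_blk E hP hxy hw hwx
    rw [hh, ← ht] at hyh ⊢
    have hfix := (ptGeo E hP).pt_fix x y hxy _ hyh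
    rw [← hp] at hfix
    induction hq' : (ptGeo E hP).pt x w using Projectivization.ind with | _ v hv =>
    rw [hq'] at hfix
    rw [mk_smul, mk_eq_mk_iff'] at hfix
    obtain ⟨d, hd⟩ := hfix
    have hd' : t.1 *ᵥ ((ptGeo E hP).pt x w).rep = d • ((ptGeo E hP).pt x w).rep := by
      rw [hq']
      obtain ⟨u, hu⟩ := exists_smul_eq_mk_rep F v hv
      rw [← hu, Units.smul_def, Matrix.mulVec_smul, ← hd, smul_comm]
    refine fixed_of_eig E hP hwx (hroot x w hwx d ?_) hd'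
    have e := pow_mulVec hd' s
    rw [hts, Matrix.SpecialLinearGroup.coe_one, Matrix.one_mulVec] at e
    exact ((smul_left_injective F (Projectivization.rep_nonzero _)) ((one_smul F _).trans e)).symm
  have hcover : E.blk x y ⊆ ((E.blk a (z 0) ∩ E.blk x y) ∪ (E.blk a (z 1) ∩ E.blk x y)) ∪
      (E.blk a (z 2) ∩ E.blk x y) := by
    intro w hw
    rcases eq_or_ne w a with hwa | hwa
    · exact Or.inl (Or.inl ⟨hwa ▸ E.left_mem_blk a (z 0), hw⟩)
    have hfix := (ptGeo E hP).pt_fix a w hwa _ (hblk w hw)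
    obtain ⟨i, hi⟩ := dm_fixed hμ1 hfix
    have hmem : w ∈ E.blk a (z i) := (mem_blk_iff E hP (hza i)).2 (Or.inr ⟨hwa, hi.trans (hzp i).symm⟩)
    fin_cases i
    · exact Or.inl (Or.inl ⟨hmem, hw⟩)
    · exact Or.inl (Or.inr ⟨hmem, hw⟩)
    · exact Or.inr ⟨hmem, hw⟩
  have hsmall : ∀ i, (E.blk a (z i) ∩ E.blk x y).ncard ≤ 1 := by
    intro i
    rw [Set.ncard_le_one (Set.toFinite _)]
    rintro w₁ ⟨h1, h1'⟩ w₂ ⟨h2, h2'⟩
    by_contra hne'
    have e : E.blk a (z i) = E.blk x y :=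
      (blk_eq E hP (hza i) h1 h2 (Ne.symm hne')).symm.trans (blk_eq E hP hxy h1' h2' (Ne.symm hne'))
    have ex : (ptGeo E hP).pt a x = (ptGeo E hP).pt a (z i) :=
      pt_of_mem_blk E hP (hza i) (e ▸ E.left_mem_blk x y) (hza 0)
    have ey : (ptGeo E hP).pt a y = (ptGeo E hP).pt a (z i) :=
      pt_of_mem_blk E hP (hza i) (e ▸ E.right_mem_blk x y) (hza 1)
    obtain ⟨c, hc⟩ := (mk_eq_mk_iff' F _ _ _ _).1 ((hzp 1).symm.trans ((ey.trans ex.symm).trans (hzp 0)))
    simpa using congrFun hc 1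
  have hcard := (Set.ncard_le_ncard hcover (Set.toFinite _)).trans ((Set.ncard_union_le _ _).trans
    (Nat.add_le_add ((Set.ncard_union_le _ _).trans (Nat.add_le_add (hsmall 0) (hsmall 1))) (hsmall 2)))
  rw [blk_card E hP hxy, hT] at hcard
  omega

/-- **Transitivity**. -/
theorem trans_others {x y y' : Ω} (hy : y ≠ x) (hy' : y' ≠ x) : ∃ k : PSL3 F, E.emb x k • y = y' := by
  classical
  obtain ⟨k, hk⟩ := (ptGeo E hP).trans ((ptGeo E hP).pt x y) ((ptGeo E hP).pt x y')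
  set y₁ := E.emb x k • y with hy₁
  have hy₁x : y₁ ≠ x := Geo.smul_ne hy k
  have hp : (ptGeo E hP).pt x y₁ = (ptGeo E hP).pt x y' := by rw [hy₁, (ptGeo E hP).equiv hy, hk]
  suffices h : ∃ l : PSL3 F, E.emb x l • y₁ = y' by
    obtain ⟨l, hl⟩ := h
    exact ⟨l * k, by rw [map_mul, mul_smul]; exact hl⟩
  set p := (ptGeo E hP).pt x y₁ with hpdef
  by_cases hT1 : (ptGeo E hP).tee = 1
  · refine ⟨1, ?_⟩
    rw [map_one, one_smul]
    have h := (ptGeo E hP).card_fib x p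
    rw [hT1] at h
    exact (Set.ncard_le_one (Set.toFinite _)).1 h.le y₁ ⟨hy₁x, rfl⟩ y' ⟨hy', hp.symm⟩
  have hT : (ptGeo E hP).tee + 1 = Fintype.card F := (tee_cases E hP).resolve_right fun h => hT1 h.2
  have hq : 4 ≤ Fintype.card F := by
    obtain ⟨n, hn, hqn⟩ := exists_card_eq (F := F)
    rcases Nat.lt_or_ge n 2 with h | h
    · have : n = 1 := by omega
      rw [this] at hqn
      omega
    · calc 4 = 2 ^ 2 := rfl
        _ ≤ 2 ^ n := Nat.pow_le_pow_right (by omega) h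
        _ = _ := hqn.symm
  obtain ⟨S, c, hc, hS⟩ := exists_mulVec (v := (Pi.single 0 1 : V3 F)) (w := p.rep)
    (Pi.single_ne_zero_iff.2 one_ne_zero) p.rep_nonzero
  let sf : Fˣ → SL3 F := fun μ => S * dg μ * S⁻¹
  have hsf : ∀ μ : Fˣ, (sf μ).1 *ᵥ p.rep = (μ : F) • p.rep := fun μ => by
    have e : p.rep = c⁻¹ • (S.1 *ᵥ Pi.single 0 1) := by rw [hS, smul_smul, inv_mul_cancel₀ hc, one_smul]
    show (S * dg μ * S⁻¹).1 *ᵥ p.rep = _
    rw [e, Matrix.mulVec_smul, Matrix.SpecialLinearGroup.coe_mul, Matrix.SpecialLinearGroup.coe_mul,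
      ← Matrix.mulVec_mulVec, ← Matrix.mulVec_mulVec, inv_mulVec, dg_mulVec, Matrix.mulVec_smul, smul_comm]
  have hmem : ∀ μ : Fˣ, E.emb x (QuotientGroup.mk (sf μ)) • y₁ ∈ (ptGeo E hP).fib x p := fun μ => by
    refine ⟨Geo.smul_ne hy₁x _, ?_⟩
    rw [(ptGeo E hP).equiv hy₁x, ← hpdef]
    conv_lhs => arg 2; rw [← mk_rep p]
    rw [mk_smul]
    conv_rhs => rw [← mk_rep p]
    exact (mk_eq_mk_iff' F _ _ _ _).2 ⟨(μ : F), (hsf μ).symm⟩
  have hinj : Function.Injective fun μ : Fˣ => E.emb x (QuotientGroup.mk (sf μ)) • y₁ := fun μ ν e => by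
    have e' : E.emb x (QuotientGroup.mk ((sf ν)⁻¹ * sf μ)) • y₁ = y₁ := by
      rw [QuotientGroup.mk_mul, map_mul, QuotientGroup.mk_inv, map_inv, mul_smul, inv_smul_eq_iff]
      exact e
    have h1 : ((sf ν)⁻¹ * sf μ).1 *ᵥ p.rep = ((μ : F) / (ν : F)) • p.rep := by
      have h2 : ((sf ν)⁻¹).1 *ᵥ p.rep = (ν : F)⁻¹ • p.rep := by
        conv_rhs => rw [← inv_mulVec (sf ν) p.rep, hsf ν, Matrix.mulVec_smul, smul_smul,
          inv_mul_cancel₀ ν.ne_zero, one_smul]
      rw [Matrix.SpecialLinearGroup.coe_mul, ← Matrix.mulVec_mulVec, hsf μ, Matrix.mulVec_smul, h2, smul_smul,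
        div_eq_mul_inv]
    have h3 := eig_eq_one E hP hT hq hy₁x (c₀ := (μ : F) / (ν : F)) ⟨_, e', h1⟩
    exact Units.ext ((div_eq_one_iff_eq ν.ne_zero).1 h3)
  have heq : Set.range (fun μ : Fˣ => E.emb x (QuotientGroup.mk (sf μ)) • y₁) = (ptGeo E hP).fib x p := by
    refine Set.eq_of_subset_of_ncard_le (Set.range_subset_iff.2 hmem) ?_ (Set.toFinite _)
    rw [(ptGeo E hP).card_fib, ← Nat.card_coe_set_eq, Nat.card_range_of_injective hinj, Linear.card_units_eq]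
    omega
  obtain ⟨μ, hμ⟩ := heq.ge (⟨hy', hp.symm⟩ : y' ∈ (ptGeo E hP).fib x p)
  exact ⟨_, hμ⟩

/-- The degree of the field. -/
theorem odd_exp (hT : (ptGeo E hP).tee + 1 = Fintype.card F) {n : ℕ} (hn : 1 ≤ n) (hF : Fintype.card F = 2 ^ n) :
    Odd n := by
  classical
  rcases Nat.even_or_odd n with ⟨m, hm⟩ | h
  swap
  · exact h
  exfalso
  have hq4 : 4 ≤ Fintype.card F := by
    rw [hF]
    calc 4 = 2 ^ 2 := rfl
      _ ≤ 2 ^ n := Nat.pow_le_pow_right (by omega) (by omega)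
  have h3 : 3 ∣ Nat.card Fˣ := by
    rw [Linear.card_units_eq, hF, hm, ← two_mul, pow_mul]
    have := Nat.sub_dvd_pow_sub_pow (2 ^ 2) 1 m
    rw [one_pow] at this
    exact this
  haveI : Fact (Nat.Prime 3) := ⟨Nat.prime_three⟩
  obtain ⟨ω, hω⟩ := exists_prime_orderOf_dvd_card' 3 h3
  obtain ⟨y, hy⟩ := E.exists_ne E.base
  have hw : (ω : F) ^ 3 = 1 := by rw [← Units.val_pow_eq_pow_val, ← hω, pow_orderOf_eq_one, Units.val_one]
  let s : SL3 F := ⟨Matrix.scalar (Fin 3) (ω : F), by simp [Matrix.det_diagonal, hw]⟩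
  have hs : (QuotientGroup.mk s : PSL3 F) = 1 := by
    rw [QuotientGroup.eq_one_iff, Matrix.SpecialLinearGroup.mem_center_iff]
    exact ⟨(ω : F), by rw [Fintype.card_fin, hw], rfl⟩
  have h := eig_eq_one E hP hT hq4 hy (c₀ := (ω : F)) ⟨s, by rw [hs, map_one, one_smul], by
    show Matrix.scalar (Fin 3) (ω : F) *ᵥ _ = _
    ext i
    simp [Matrix.scalar_apply, Matrix.mulVec_diagonal]⟩
  rw [Units.ext (h.trans Units.val_one.symm), orderOf_one] at hω
  omega

end Cfsg.Lib.LThreeExt
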